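import Mathlib
import Cfsg.Agent.S3360

set_option autoImplicit false

namespace Cfsg.Agent.Lib.Helper95.EqPBR

universe u

theorem bridge_aux {V : Type u} [AddCommGroup V] [Finite V] {p n : ℕ} [Fact p.Prime]
    (hVp : ∀ v : V, p • v = 0) (hV : Nat.card V = p ^ n) (hn : 1 ≤ n)
    {A : Type*} [Group A] (α : A → V ≃+ V) (hα1 : ∀ v : V, α 1 v = v)
    (hαm : ∀ (s t : A) (v : V), α (s * t) v = α s (α t v))
    (S : Subgroup A) (hS : Group.IsSolvable S)
    (htr : ∀ v w : V, v ≠ 0 → w ≠ 0 → ∃ s ∈ S, ∃ k : ℕ, α s v = k • w) :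
    (∃ e : V ≃+ GaloisField p n, ∀ s ∈ S,
        ∃ (a : GaloisField p n) (σ : GaloisField p n ≃+* GaloisField p n),
          ∀ v : V, e (α s v) = a * σ (e v)) ∨
    p ^ n ∈ ({9, 25, 49, 121, 529, 81} : Set ℕ) := by
  classical
  have hp : p.Prime := Fact.out
  obtain ⟨inst⟩ : Nonempty (Module (ZMod p) V) := ⟨AddCommGroup.zmodModule hVp⟩
  haveI : Nontrivial V := by
    rw [← Finite.one_lt_card_iff_nontrivial, hV]
    exact Nat.one_lt_pow (by omega) hp.one_lt
  haveI : Finite (V ≃ₗ[ZMod p] V) :=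
    Finite.of_injective (fun f : V ≃ₗ[ZMod p] V => (f : V → V)) DFunLike.coe_injective
  -- the linear action of A
  let r : A →* (V ≃ₗ[ZMod p] V) :=
    { toFun := fun s => (α s).toLinearEquiv (fun c v => ZMod.map_smul (α s) c v)
      map_one' := by
        apply LinearEquiv.ext
        intro v
        simp [hα1 v]
      map_mul' := by
        intro s t
        apply LinearEquiv.ext
        intro v
        simp [LinearEquiv.mul_apply, hαm s t v] }
  have hr : ∀ (s : A) (v : V), r s v = α s v := fun s v => rfl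
  let z : (ZMod p)ˣ →* (V ≃ₗ[ZMod p] V) := DistribMulAction.toModuleAut (ZMod p) V
  have hz : ∀ (c : (ZMod p)ˣ) (v : V), z c v = (c : ZMod p) • v := fun c v => rfl
  have hcomm : ∀ (s : S) (c : (ZMod p)ˣ), Commute ((r.comp S.subtype) s) (z c) := by
    intro s c
    apply LinearEquiv.ext
    intro v
    show r s (z c v) = z c (r s v)
    rw [hz, hz, map_smul]
  let ρ : S × (ZMod p)ˣ →* (V ≃ₗ[ZMod p] V) := (r.comp S.subtype).noncommCoprod z hcomm
  have hρ : ∀ (s : S) (c : (ZMod p)ˣ) (v : V), ρ (s, c) v = (c : ZMod p) • α (s : A) v := by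
    intro s c v
    show ((r.comp S.subtype).noncommCoprod z hcomm (s, c)) v = _
    rw [MonoidHom.noncommCoprod_apply]
    show r s (z c v) = _
    rw [hz, map_smul, hr]
  haveI := hS
  have hsol : Group.IsSolvable ρ.range := Group.isSolvable_of_surjective ρ.rangeRestrict_surjective
  have htrans : ∀ v w : V, v ≠ 0 → w ≠ 0 → ∃ g : ρ.range, ρ.range.subtype g v = w := by
    intro v w hv hw
    obtain ⟨s, hs, k, hk⟩ := htr v w hv hw
    have hkp : k.Coprime p := by
      rw [Nat.coprime_comm, hp.coprime_iff_not_dvd]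
      rintro ⟨j, rfl⟩
      rw [mul_nsmul', hVp] at hk
      exact hv ((AddEquiv.map_eq_zero_iff (α s)).mp hk)
    refine ⟨⟨ρ (⟨s, hs⟩, (ZMod.unitOfCoprime k hkp)⁻¹), ⟨_, rfl⟩⟩, ?_⟩
    show ρ (⟨s, hs⟩, (ZMod.unitOfCoprime k hkp)⁻¹) v = w
    rw [hρ]
    show (((ZMod.unitOfCoprime k hkp)⁻¹ : (ZMod p)ˣ) : ZMod p) • α s v = w
    rw [hk, ← Nat.cast_smul_eq_nsmul (ZMod p) k w, smul_smul, ← ZMod.coe_unitOfCoprime k hkp,
      ← Units.val_mul, inv_mul_cancel, Units.val_one, one_smul]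
  rcases Cfsg.Agent.S3360.result p hsol ρ.range.subtype (Subgroup.subtype_injective _) htrans with
    ⟨F, _, _, e, he⟩ | h
  · left
    letI : Fintype (GaloisField p n) := Fintype.ofFinite _
    have hc : Fintype.card F = Fintype.card (GaloisField p n) := by
      rw [← Nat.card_eq_fintype_card, ← Nat.card_eq_fintype_card, GaloisField.card p n (by omega),
        ← hV]
      exact (Nat.card_congr e.toEquiv).symm
    let ψ : F ≃+* GaloisField p n := FiniteField.ringEquivOfCardEq hc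
    refine ⟨e.trans ψ.toAddEquiv, fun s hs => ?_⟩
    obtain ⟨a, σ, ha⟩ := he ⟨ρ (⟨s, hs⟩, 1), ⟨_, rfl⟩⟩
    refine ⟨ψ a, ψ.symm.trans (σ.trans ψ), fun v => ?_⟩
    have h1 : ρ.range.subtype ⟨ρ (⟨s, hs⟩, 1), ⟨_, rfl⟩⟩ v = α s v := by
      show ρ (⟨s, hs⟩, 1) v = α s v
      rw [hρ, Units.val_one, one_smul]
    have ha' := ha v
    rw [h1] at ha'
    simp [ha']
  · right
    rw [← hV]
    exact h

/-- [BR] bridge to Huppert's theorem -/
theorem bridge {Q : Type u} [Group Q] [Finite Q] {p n : ℕ} [Fact p.Prime]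
    (hQc : ∀ a b : Q, a * b = b * a) (hQp : ∀ a : Q, a ^ p = 1) (hQ : Nat.card Q = p ^ n)
    (hn : 1 ≤ n) (S : Subgroup (MulAut Q)) (hS : Group.IsSolvable S)
    (htr : ∀ x y : Q, x ≠ 1 → y ≠ 1 → ∃ s ∈ S, ∃ k : ℕ, s x = y ^ k) :
    (∃ e : Additive Q ≃+ GaloisField p n, ∀ s ∈ S,
        ∃ (a : GaloisField p n) (σ : GaloisField p n ≃+* GaloisField p n),
          ∀ x : Q, e (Additive.ofMul (s x)) = a * σ (e (Additive.ofMul x))) ∨
    p ^ n ∈ ({9, 25, 49, 121, 529, 81} : Set ℕ) := by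
  letI acg : AddCommGroup (Additive Q) :=
    { (inferInstance : AddGroup (Additive Q)) with
      add_comm := fun a b => congrArg Additive.ofMul (hQc a.toMul b.toMul) }
  have h := bridge_aux (V := Additive Q) (p := p) (n := n)
    (fun v => congrArg Additive.ofMul (hQp v.toMul)) hQ hn
    (fun s : MulAut Q => MulEquiv.toAdditive s) (fun v => rfl) (fun s t v => rfl) S hS
    (by
      intro v w hv hw
      obtain ⟨s, hs, k, hk⟩ := htr v.toMul w.toMul (fun h => hv (congrArg Additive.ofMul h))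
        (fun h => hw (congrArg Additive.ofMul h))
      exact ⟨s, hs, k, congrArg Additive.ofMul hk⟩)
  rcases h with ⟨e, he⟩ | h
  · left
    refine ⟨e, fun s hs => ?_⟩
    obtain ⟨a, σ, ha⟩ := he s hs
    exact ⟨a, σ, fun x => ha (Additive.ofMul x)⟩
  · right
    exact h

end Cfsg.Agent.Lib.Helper95.EqPBR
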