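import Mathlib
import Cfsg.Agent.Lib.Helper42.ReeSpStmt

set_option autoImplicit false

namespace Cfsg.Agent.Lib.Helper95.ReeSpTRA

open Cfsg.Agent.Lib.Helper42.ReeSpStmt

universe u v

theorem three_not_dvd_pred (m : ℕ) : ¬ 3 ∣ qq m - 1 := by
  have h1 : qq m = 3 * 3 ^ (2 * m) := by
    show 3 ^ (2 * m + 1) = _
    rw [pow_succ]; ring
  have hpos : 0 < 3 ^ (2 * m) := by positivity
  rw [h1]
  omega

theorem three_not_dvd_cube (m : ℕ) : ¬ 3 ∣ qq m ^ 3 + 1 := by
  have h1 : qq m = 3 * 3 ^ (2 * m) := by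
    show 3 ^ (2 * m + 1) = _
    rw [pow_succ]; ring
  have h2 : qq m ^ 3 = 3 * (9 * (3 ^ (2 * m)) ^ 3) := by rw [h1]; ring
  rw [h2]
  omega

theorem main : Cfsg.Agent.Lib.Helper42.ReeSpStmt.TRa.{u, v} := by
  intro Γ _ R D Up K _ _ m hraw
  have h3q := three_le_qq m
  have hqpow : qq m = 3 ^ (2 * m + 1) := rfl
  have hcardR : Nat.card ↥R = qq m ^ 3 * (qq m - 1) * (qq m ^ 3 + 1) := hraw.s1069
  haveI : Finite ↥R := Nat.finite_of_card_ne_zero (by
    rw [hcardR]
    have h1 : 0 < qq m - 1 := by omega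
    positivity)
  haveI : Fact (Nat.Prime 3) := ⟨Nat.prime_three⟩
  have hcardU : Nat.card (Usub R Up) = qq m ^ 3 := by
    have h1 : Nat.card (Usub R Up) = Nat.card ↥(Up ⊓ R) :=
      Nat.card_congr (Subgroup.subgroupOfEquivOfLe (inf_le_right : Up ⊓ R ≤ R)).toEquiv
    rw [h1]
    exact hraw.s1101
  have hcardH : Nat.card (Hsub R D) = qq m - 1 := by
    have h1 : Nat.card (Hsub R D) = Nat.card ↥(D ⊓ R) :=
      Nat.card_congr (Subgroup.subgroupOfEquivOfLe (inf_le_right : D ⊓ R ≤ R)).toEquiv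
    rw [h1]
    exact hraw.s1114
  have hmemU : ∀ x : ↥R, x ∈ Usub R Up ↔ (x : Γ) ∈ Up ⊓ R := fun x => Subgroup.mem_subgroupOf
  have hmemH : ∀ x : ↥R, x ∈ Hsub R D ↔ (x : Γ) ∈ D ⊓ R := fun x => Subgroup.mem_subgroupOf
  -- `U` is a Sylow 3-subgroup
  have hUp : IsPGroup 3 (Usub R Up) := by
    apply IsPGroup.of_card (n := 3 * (2 * m + 1))
    rw [hcardU, hqpow, ← pow_mul]
    ring_nf
  obtain ⟨P, hUP⟩ := hUp.exists_le_sylow
  have hPU : (P : Subgroup ↥R) = Usub R Up := by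
    symm
    apply Subgroup.eq_of_le_of_card_ge hUP
    obtain ⟨k, hk⟩ := (IsPGroup.iff_card (p := 3)).mp P.2
    have hdvd : Nat.card (P : Subgroup ↥R) ∣ Nat.card ↥R := Subgroup.card_subgroup_dvd_card _
    rw [hk, hcardR, mul_assoc] at hdvd
    have hcop : Nat.Coprime (3 ^ k) ((qq m - 1) * (qq m ^ 3 + 1)) := by
      apply Nat.Coprime.pow_left
      apply Nat.Coprime.mul_right
      · exact (Nat.Prime.coprime_iff_not_dvd Nat.prime_three).mpr (three_not_dvd_pred m)
      · exact (Nat.Prime.coprime_iff_not_dvd Nat.prime_three).mpr (three_not_dvd_cube m)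
    have hdvd2 : 3 ^ k ∣ qq m ^ 3 := hcop.dvd_of_dvd_mul_right hdvd
    rw [hk, hcardU]
    exact Nat.le_of_dvd (by positivity) hdvd2
  refine ⟨hcardU, ?_, ?_, ?_, hcardH, ?_, ?_⟩
  · -- TI
    rintro g ⟨u, hu, hu1, hgu⟩
    have hgP : g • P = P := by
      by_contra hne
      have hbot := hraw.s1155 (g • P) P hne
      have hmem : g * u * g⁻¹ ∈ ((g • P : Sylow 3 ↥R) : Subgroup ↥R) ⊓ (P : Subgroup ↥R) := by
        refine Subgroup.mem_inf.mpr ⟨?_, ?_⟩
        · rw [Sylow.coe_subgroup_smul, Subgroup.mem_pointwise_smul_iff_inv_smul_mem,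
            MulAut.smul_def, ← map_inv, MulAut.conj_apply, inv_inv, hPU]
          have : g⁻¹ * (g * u * g⁻¹) * g = u := by group
          rw [this]
          exact hu
        · rw [hPU]; exact hgu
      rw [hbot, Subgroup.mem_bot] at hmem
      apply hu1
      have : u = g⁻¹ * (g * u * g⁻¹) * g := by group
      rw [this, hmem]
      group
    have hgN : g ∈ Subgroup.normalizer ((P : Subgroup ↥R) : Set ↥R) :=
      Sylow.smul_eq_iff_mem_normalizer.mp hgP
    intro u' hu'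
    rw [← hPU] at hu' ⊢
    exact (Subgroup.mem_normalizer_iff.mp hgN u').mp hu'
  · -- not normal
    intro hn
    haveI := hraw.s1073
    rcases hn.eq_bot_or_eq_top with h | h
    · rw [h] at hcardU
      rw [Subgroup.card_bot] at hcardU
      have : 1 < qq m ^ 3 := by
        calc 1 < 3 := by norm_num
          _ ≤ qq m := h3q
          _ ≤ qq m ^ 3 := Nat.le_self_pow (by norm_num) _
      omega
    · rw [h, Subgroup.card_top, hcardR] at hcardU
      have h1 : 2 ≤ qq m - 1 := by omega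
      have h2 : 2 ≤ qq m ^ 3 + 1 := by
        have : 0 < qq m ^ 3 := by positivity
        omega
      have h3 : 0 < qq m ^ 3 := by positivity
      have h4 : qq m ^ 3 * 4 ≤ qq m ^ 3 * ((qq m - 1) * (qq m ^ 3 + 1)) :=
        Nat.mul_le_mul_left _ (by nlinarith)
      rw [mul_assoc] at hcardU
      omega
  · -- cyclic
    haveI := hraw.s1150
    exact isCyclic_of_surjective
      (Subgroup.subgroupOfEquivOfLe (inf_le_right : D ⊓ R ≤ R)).symm.toMonoidHom
      (Subgroup.subgroupOfEquivOfLe (inf_le_right : D ⊓ R ≤ R)).symm.surjective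
  · -- normH
    intro h hh u hu
    rw [hmemU]
    rw [hmemH] at hh
    rw [hmemU] at hu
    refine ⟨?_, (h * u * h⁻¹).2⟩
    have := hraw.norm (h : Γ) hh (u : Γ) hu
    simpa using this
  · -- fpf
    intro h hh h1 hodd u hu hcomm
    rw [hmemH] at hh
    rw [hmemU] at hu
    have hh1 : (h : Γ) ≠ 1 := fun hc => h1 (Subtype.ext hc)
    have hodd' : Odd (orderOf (h : Γ)) := by rw [Subgroup.orderOf_coe]; exact hodd
    have hbot := hraw.s1151 (h : Γ) hh hh1 hodd'
    have hmem : (u : Γ) ∈ (Up ⊓ R) ⊓ Subgroup.centralizer {(h : Γ)} := by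
      refine Subgroup.mem_inf.mpr ⟨hu, ?_⟩
      rw [Subgroup.mem_centralizer_singleton_iff]
      have := congrArg Subtype.val hcomm
      simpa using this
    rw [hbot, Subgroup.mem_bot] at hmem
    exact Subtype.ext hmem

end Cfsg.Agent.Lib.Helper95.ReeSpTRA

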