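import Mathlib
import Cfsg.Agent.Lib.Helper42.ReeSpStmt

set_option autoImplicit false

namespace Cfsg.Agent.Lib.Helper95.ReeSpTRH

open Cfsg.Agent.Lib.Helper42.ReeSpStmt

universe u v

theorem main : Cfsg.Agent.Lib.Helper42.ReeSpStmt.TRh.{u, v} := by
  intro Γ _ R D Up K _ _ m hraw x hx hx1 hodd g hgx
  have h3q := three_le_qq m
  have hqpow : qq m = 3 ^ (2 * m + 1) := rfl
  have hcardR : Nat.card ↥R = qq m ^ 3 * (qq m - 1) * (qq m ^ 3 + 1) := hraw.s1069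
  haveI : Finite ↥R := Nat.finite_of_card_ne_zero (by
    rw [hcardR]
    have h1 : 0 < qq m - 1 := by omega
    positivity)
  have hcardH : Nat.card (Hsub R D) = qq m - 1 := by
    have h1 : Nat.card (Hsub R D) = Nat.card ↥(D ⊓ R) :=
      Nat.card_congr (Subgroup.subgroupOfEquivOfLe (inf_le_right : D ⊓ R ≤ R)).toEquiv
    rw [h1]
    exact hraw.s1114
  haveI hcyc : IsCyclic (Hsub R D) := by
    haveI := hraw.s1150
    exact isCyclic_of_surjective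
      (Subgroup.subgroupOfEquivOfLe (inf_le_right : D ⊓ R ≤ R)).symm.toMonoidHom
      (Subgroup.subgroupOfEquivOfLe (inf_le_right : D ⊓ R ≤ R)).symm.surjective
  -- a generator
  obtain ⟨g0, hg0⟩ := hcyc.exists_generator
  obtain ⟨h0, hh0⟩ : ∃ h0 : ↥R, h0 = (g0 : ↥R) := ⟨_, rfl⟩
  have hh0H : h0 ∈ Hsub R D := by rw [hh0]; exact g0.2
  have hpow : ∀ y ∈ Hsub R D, ∃ k : ℤ, h0 ^ k = y := by
    intro y hy
    obtain ⟨k, hk⟩ := Subgroup.mem_zpowers_iff.mp (hg0 ⟨y, hy⟩)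
    refine ⟨k, ?_⟩
    have := congrArg Subtype.val hk
    rw [hh0]
    simpa using this
  have hord : orderOf h0 = qq m - 1 := by
    rw [hh0, Subgroup.orderOf_coe, ← hcardH]
    exact orderOf_eq_card_of_forall_mem_zpowers hg0
  -- the subgroup of index two
  obtain ⟨H0, hH0⟩ : ∃ H0 : Subgroup ↥R, H0 = Subgroup.zpowers (h0 ^ 2) := ⟨_, rfl⟩
  have hH0cyc : IsCyclic H0 := by rw [hH0]; infer_instance
  have hq2 : 2 ∣ qq m - 1 := by
    have h1 : qq m % 2 = 1 := by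
      rw [hqpow, Nat.pow_mod]
      norm_num
    omega
  have hH0card : Nat.card H0 = (3 ^ (2 * m + 1) - 1) / 2 := by
    rw [hH0, Nat.card_zpowers, orderOf_pow' h0 (by norm_num : (2 : ℕ) ≠ 0), hord,
      Nat.gcd_eq_right hq2]
  obtain ⟨-, hCcard, hCA⟩ := (hraw.s2359 H0 hH0cyc).1 hH0card
  -- `H = C(H0)`
  have hHle : Hsub R D ≤ Subgroup.centralizer (H0 : Set ↥R) := by
    intro y hy
    obtain ⟨k, rfl⟩ := hpow y hy
    rw [Subgroup.mem_centralizer_iff]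
    intro z hz
    rw [hH0] at hz
    obtain ⟨j, rfl⟩ := Subgroup.mem_zpowers_iff.mp hz
    have hc : Commute (h0 ^ 2) h0 := (Commute.refl h0).pow_left 2
    exact ((hc.zpow_left j).zpow_right k).eq
  have hHeq : Hsub R D = Subgroup.centralizer (H0 : Set ↥R) := by
    apply Subgroup.eq_of_le_of_card_ge hHle
    rw [hCcard, hcardH]
  -- `x ∈ H0`
  have hxH0 : x ∈ H0 := by
    obtain ⟨k, hk⟩ := hpow x hx
    obtain ⟨d, hd⟩ := hodd
    have hxd : x ^ (2 * d + 1) = 1 := by rw [← hd]; exact pow_orderOf_eq_one x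
    have hx2 : x = (x ^ (d + 1)) ^ 2 := by
      rw [← pow_mul]
      have h1 : (d + 1) * 2 = (2 * d + 1) + 1 := by ring
      rw [h1, pow_succ, hxd, one_mul]
    rw [hH0, Subgroup.mem_zpowers_iff]
    refine ⟨k * (d + 1), ?_⟩
    rw [hx2, ← hk]
    calc (h0 ^ 2) ^ (k * ((d : ℤ) + 1)) = (h0 ^ ((2 : ℕ) : ℤ)) ^ (k * ((d : ℤ) + 1)) := by
          rw [zpow_natCast]
      _ = h0 ^ (((2 : ℕ) : ℤ) * (k * ((d : ℤ) + 1))) := by rw [← zpow_mul]
      _ = h0 ^ (k * ((d + 1 : ℕ) : ℤ) * ((2 : ℕ) : ℤ)) := by congr 1; push_cast; ring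
      _ = ((h0 ^ k) ^ ((d + 1 : ℕ) : ℤ)) ^ ((2 : ℕ) : ℤ) := by rw [zpow_mul, zpow_mul]
      _ = ((h0 ^ k) ^ (d + 1)) ^ 2 := by rw [zpow_natCast, zpow_natCast]
  have hAle : Subgroup.zpowers x ≤ H0 := by
    rw [Subgroup.zpowers_le]
    exact hxH0
  have hAne : Subgroup.zpowers x ≠ ⊥ := by
    intro h
    exact hx1 (Subgroup.zpowers_eq_bot.mp h)
  have hC := hCA (Subgroup.zpowers x) hAle hAne
  rw [hHeq, ← hC, Subgroup.mem_centralizer_iff]
  intro z hz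
  obtain ⟨j, rfl⟩ := Subgroup.mem_zpowers_iff.mp hz
  have hc : Commute x g := hgx.symm
  exact (hc.zpow_left j).eq

end Cfsg.Agent.Lib.Helper95.ReeSpTRH

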