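import Mathlib

set_option autoImplicit false

namespace Cfsg.Agent.Lib.Helper95.NilJordan

open Module

universe u

variable {F : Type*} [Field F]

/-- The family of vectors `N^j (v i)`, `j < k i`. -/
def fam {V : Type*} [AddCommGroup V] [Module F V] (N : Module.End F V) {ι : Type*}
    (k : ι → ℕ) (v : ι → V) : (Σ i : ι, Fin (k i)) → V :=
  fun x => (N ^ (x.2 : ℕ)) (v x.1)

/-- Jordan (cyclic) decomposition data for a nilpotent endomorphism. -/
structure IsJordan {V : Type*} [AddCommGroup V] [Module F V] (N : Module.End F V) {ι : Type*}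
    (k : ι → ℕ) (v : ι → V) : Prop where
  top : ∀ i, (N ^ (k i)) (v i) = 0
  li : LinearIndependent F (fam N k v)
  span : ⊤ ≤ Submodule.span F (Set.range (fam N k v))

theorem pow_add_apply {V : Type*} [AddCommGroup V] [Module F V] (N : Module.End F V) (a b : ℕ)
    (x : V) : (N ^ (a + b)) x = (N ^ a) ((N ^ b) x) := by
  rw [pow_add, Module.End.mul_apply]

theorem IsJordan.pow_eq_zero {V : Type*} [AddCommGroup V] [Module F V] {N : Module.End F V}
    {ι : Type*} {k : ι → ℕ} {v : ι → V} (h : IsJordan N k v) (i : ι) (j : ℕ) (hj : k i ≤ j) :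
    (N ^ j) (v i) = 0 := by
  obtain ⟨c, rfl⟩ := Nat.exists_eq_add_of_le' hj
  rw [pow_add_apply, h.top, map_zero]

theorem IsJordan.finrank_range_pow {V : Type*} [AddCommGroup V] [Module F V]
    {N : Module.End F V} {ι : Type*} [Fintype ι] {k : ι → ℕ} {v : ι → V} (h : IsJordan N k v)
    (m : ℕ) : finrank F (LinearMap.range (N ^ m)) = ∑ i, (k i - m) := by
  classical
  let emb : (Σ i : ι, Fin (k i - m)) → (Σ i : ι, Fin (k i)) :=
    fun x => ⟨x.1, ⟨(x.2 : ℕ) + m, by have := x.2.2; omega⟩⟩
  have hemb : Function.Injective emb := by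
    rintro ⟨i, j⟩ ⟨i', j'⟩ hxy
    simp only [emb, Sigma.mk.injEq] at hxy
    obtain ⟨rfl, h2⟩ := hxy
    have h3 := eq_of_heq h2
    have h4 : (j : ℕ) + m = (j' : ℕ) + m := congrArg Fin.val h3
    have : j = j' := Fin.ext (by omega)
    rw [this]
  have hli : LinearIndependent F (fam N k v ∘ emb) := h.li.comp emb hemb
  have hspan : LinearMap.range (N ^ m) = Submodule.span F (Set.range (fam N k v ∘ emb)) := by
    apply le_antisymm
    · rw [LinearMap.range_eq_map, ← eq_top_iff.mpr h.span, Submodule.map_span, Submodule.span_le]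
      rintro _ ⟨_, ⟨x, rfl⟩, rfl⟩
      by_cases hx : (x.2 : ℕ) + m < k x.1
      · apply Submodule.subset_span
        refine ⟨⟨x.1, ⟨(x.2 : ℕ), by omega⟩⟩, ?_⟩
        show (N ^ ((x.2 : ℕ) + m)) (v x.1) = (N ^ m) ((N ^ (x.2 : ℕ)) (v x.1))
        rw [add_comm, pow_add_apply]
      · have : (N ^ m) (fam N k v x) = 0 := by
          show (N ^ m) ((N ^ (x.2 : ℕ)) (v x.1)) = 0
          rw [← pow_add_apply]
          exact h.pow_eq_zero _ _ (by omega)
        rw [this]
        exact Submodule.zero_mem _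
    · rw [Submodule.span_le]
      rintro _ ⟨x, rfl⟩
      refine ⟨(N ^ (x.2 : ℕ)) (v x.1), ?_⟩
      show (N ^ m) ((N ^ (x.2 : ℕ)) (v x.1)) = (N ^ ((x.2 : ℕ) + m)) (v x.1)
      rw [add_comm, pow_add_apply]
  rw [hspan, finrank_span_eq_card hli, Fintype.card_sigma]
  simp

theorem restrict_pow_apply {V : Type*} [AddCommGroup V] [Module F V] (N : Module.End F V)
    (W : Submodule F V) (hW : ∀ x ∈ W, N x ∈ W) (j : ℕ) (x : W) :
    (((N.restrict hW : Module.End F W) ^ j) x : V) = (N ^ j) (x : V) := by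
  induction j generalizing x with
  | zero => simp
  | succ j ih =>
    rw [pow_succ, Module.End.mul_apply, ih, pow_succ, Module.End.mul_apply]
    rfl

theorem exists_jordan : ∀ (n : ℕ) (V : Type u) [AddCommGroup V] [Module F V]
    [FiniteDimensional F V] (N : Module.End F V), IsNilpotent N → finrank F V = n →
    ∃ (ι : Type) (_ : Fintype ι) (k : ι → ℕ) (v : ι → V), (∀ i, 0 < k i) ∧ IsJordan N k v := by
  intro n
  induction n using Nat.strong_induction_on with
  | _ n ih =>
  intro V _ _ _ N hN hn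
  classical
  rcases Nat.eq_zero_or_pos n with h0 | hpos
  · subst h0
    have hsub : Subsingleton V := Module.finrank_zero_iff.mp hn
    refine ⟨Fin 0, inferInstance, fun i => i.elim0, fun i => i.elim0, fun i => i.elim0, ?_⟩
    refine ⟨fun i => i.elim0, ?_, ?_⟩
    · have : IsEmpty (Σ i : Fin 0, Fin ((fun i : Fin 0 => (i.elim0 : ℕ)) i)) :=
        ⟨fun x => x.1.elim0⟩
      exact linearIndependent_empty_type
    · intro x _
      rw [Subsingleton.elim x 0]
      exact Submodule.zero_mem _
  -- nontrivial case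
  set W : Submodule F V := LinearMap.range N with hWdef
  have hmaps : ∀ x ∈ W, N x ∈ W := fun x _ => LinearMap.mem_range_self N x
  have hWne : W ≠ ⊤ := by
    intro hW
    have hsurj : Function.Surjective N := LinearMap.range_eq_top.mp hW
    obtain ⟨c, hc⟩ := hN
    have hsurj' : Function.Surjective (N ^ c) := by
      rw [Module.End.coe_pow]
      exact hsurj.iterate c
    have hsub : Subsingleton V := by
      refine ⟨fun a b => ?_⟩
      obtain ⟨a', rfl⟩ := hsurj' a
      obtain ⟨b', rfl⟩ := hsurj' b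
      rw [hc]; simp
    have := (Module.finrank_zero_iff (R := F) (M := V)).mpr hsub
    omega
  have hWlt : finrank F W < n := by
    rw [← hn]
    exact Submodule.finrank_lt hWne
  let NW : Module.End F W := N.restrict hmaps
  have hNW : IsNilpotent NW := by
    obtain ⟨c, hc⟩ := hN
    refine ⟨c, ?_⟩
    ext x
    rw [restrict_pow_apply, hc]
    rfl
  obtain ⟨ι, _, k, w, hkpos, hJ⟩ := ih (finrank F W) hWlt W NW hNW rfl
  have hu : ∀ i, ∃ u : V, N u = (w i : V) := fun i => (w i).2
  choose u hu using hu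
  set K₀ : Submodule F V := LinearMap.ker N ⊓ W with hK₀
  obtain ⟨Z₁, hZ₁⟩ := Submodule.exists_isCompl K₀
  set Z : Submodule F V := Z₁ ⊓ LinearMap.ker N with hZ
  have hsup : K₀ ⊔ Z = LinearMap.ker N := by
    rw [hZ, ← sup_inf_assoc_of_le Z₁ (inf_le_left : K₀ ≤ LinearMap.ker N), hZ₁.sup_eq_top,
      top_inf_eq]
  have hinf : K₀ ⊓ Z = ⊥ := by
    rw [hZ, ← inf_assoc, hZ₁.inf_eq_bot, bot_inf_eq]
  let zb := Module.finBasis F Z
  let z : Fin (finrank F Z) → V := fun l => (zb l : V)
  have hzker : ∀ l, N (z l) = 0 := fun l => by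
    have : z l ∈ Z := (zb l).2
    exact LinearMap.mem_ker.mp this.2
  let k' : ι ⊕ Fin (finrank F Z) → ℕ := Sum.elim (fun i => k i + 1) (fun _ => 1)
  let v' : ι ⊕ Fin (finrank F Z) → V := Sum.elim u z
  have hwpow : ∀ i j, (N ^ j) (w i : V) = (N ^ (j + 1)) (u i) := by
    intro i j
    rw [pow_add_apply, pow_one, hu]
  have htop : ∀ i, (N ^ (k' i)) (v' i) = 0 := by
    rintro (i | l)
    · show (N ^ (k i + 1)) (u i) = 0
      rw [← hwpow, ← restrict_pow_apply N W hmaps, hJ.top]
      rfl
    · show (N ^ 1) (z l) = 0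
      rw [pow_one, hzker]
  have hspan : ⊤ ≤ Submodule.span F (Set.range (fam N k' v')) := by
    set S := Submodule.span F (Set.range (fam N k' v')) with hS
    have ha : ∀ i j, j ≤ k i → (N ^ j) (u i) ∈ S := by
      intro i j hj
      apply Submodule.subset_span
      exact ⟨⟨Sum.inl i, ⟨j, by show j < k i + 1; omega⟩⟩, rfl⟩
    have hb : ∀ l, z l ∈ S := by
      intro l
      apply Submodule.subset_span
      refine ⟨⟨Sum.inr l, ⟨0, by show 0 < 1; omega⟩⟩, ?_⟩
      show (N ^ 0) (z l) = z l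
      simp
    have hWtop : (⊤ : Submodule F W) = Submodule.span F (Set.range (fam NW k w)) :=
      (eq_top_iff.mpr hJ.span).symm
    have hWeq : W = Submodule.span F (W.subtype '' Set.range (fam NW k w)) := by
      rw [← Submodule.map_span, ← hWtop, Submodule.map_top, Submodule.range_subtype]
    have hc : W ≤ S := by
      rw [hWeq, Submodule.span_le]
      rintro _ ⟨_, ⟨y, rfl⟩, rfl⟩
      show (((NW ^ (y.2 : ℕ)) (w y.1) : W) : V) ∈ S
      rw [restrict_pow_apply, hwpow]
      exact ha _ _ (by have := y.2.2; omega)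
    have hc' : W ≤ Submodule.map N S := by
      rw [hWeq, Submodule.span_le]
      rintro _ ⟨_, ⟨y, rfl⟩, rfl⟩
      show (((NW ^ (y.2 : ℕ)) (w y.1) : W) : V) ∈ Submodule.map N S
      rw [restrict_pow_apply, hwpow]
      refine ⟨(N ^ (y.2 : ℕ)) (u y.1), ha _ _ (by have := y.2.2; omega), ?_⟩
      rw [add_comm, pow_add_apply, pow_one]
    have hd : Z ≤ S := by
      have h1 : Z = Submodule.span F (Z.subtype '' Set.range zb) := by
        rw [← Submodule.map_span, zb.span_eq, Submodule.map_top, Submodule.range_subtype]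
      rw [h1, Submodule.span_le]
      rintro _ ⟨_, ⟨l, rfl⟩, rfl⟩
      exact hb l
    intro x _
    have hx1 : N x ∈ W := LinearMap.mem_range_self N x
    obtain ⟨s, hs, hsx⟩ := hc' hx1
    have hx2 : x - s ∈ LinearMap.ker N := by
      rw [LinearMap.mem_ker, map_sub, hsx, sub_self]
    rw [← hsup] at hx2
    have hx3 : x - s ∈ S := (sup_le (inf_le_right.trans hc) hd) hx2
    have : x = (x - s) + s := by abel
    rw [this]
    exact S.add_mem hx3 hs
  -- counting
  have hR0 := hJ.finrank_range_pow 0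
  have hR1 := hJ.finrank_range_pow 1
  have hrn := LinearMap.finrank_range_add_finrank_ker NW
  have hkerNW : finrank F (LinearMap.ker NW) = Fintype.card ι := by
    have e0 : finrank F (LinearMap.range (NW ^ 0)) = finrank F W := by
      rw [pow_zero]
      have : LinearMap.range (1 : Module.End F W) = ⊤ := LinearMap.range_id
      rw [this, finrank_top]
    rw [pow_one] at hR1
    rw [e0] at hR0
    simp only [Nat.sub_zero] at hR0
    have hsum : ∑ i, (k i - 1) + Fintype.card ι = ∑ i, k i := by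
      rw [Finset.card_univ.symm, Finset.card_eq_sum_ones, ← Finset.sum_add_distrib]
      apply Finset.sum_congr rfl
      intro i _
      have := hkpos i
      omega
    omega
  have hK₀card : finrank F K₀ = Fintype.card ι := by
    have : K₀ = (LinearMap.ker NW).map W.subtype := by
      ext x
      constructor
      · rintro ⟨h1, h2⟩
        refine ⟨⟨x, h2⟩, LinearMap.mem_ker.mpr ?_, rfl⟩
        apply Subtype.ext
        exact LinearMap.mem_ker.mp h1
      · rintro ⟨y, hy, rfl⟩
        refine ⟨LinearMap.mem_ker.mpr ?_, y.2⟩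
        have := congrArg Subtype.val (LinearMap.mem_ker.mp hy)
        exact this
    rw [this, Submodule.finrank_map_subtype_eq, hkerNW]
  have hkerN : finrank F (LinearMap.ker N) = Fintype.card ι + finrank F Z := by
    have := Submodule.finrank_sup_add_finrank_inf_eq K₀ Z
    rw [hsup, hinf, finrank_bot, hK₀card] at this
    omega
  have hcard : Fintype.card (Σ i : ι ⊕ Fin (finrank F Z), Fin (k' i)) = finrank F V := by
    have hrnN := LinearMap.finrank_range_add_finrank_ker N
    have e0 : finrank F (LinearMap.range (NW ^ 0)) = finrank F W := by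
      rw [pow_zero]
      have : LinearMap.range (1 : Module.End F W) = ⊤ := LinearMap.range_id
      rw [this, finrank_top]
    rw [e0] at hR0
    simp only [Nat.sub_zero] at hR0
    rw [Fintype.card_sigma]
    simp only [Fintype.card_fin]
    rw [Fintype.sum_sum_type]
    show ∑ i, (k i + 1) + ∑ _l : Fin (finrank F Z), 1 = finrank F V
    rw [Finset.sum_add_distrib]
    simp only [Finset.sum_const, Finset.card_univ, smul_eq_mul, mul_one, Fintype.card_fin]
    have : finrank F W = finrank F (LinearMap.range N) := rfl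
    omega
  refine ⟨ι ⊕ Fin (finrank F Z), inferInstance, k', v', ?_, htop, ?_, hspan⟩
  · rintro (i | l)
    · show 0 < k i + 1; omega
    · show 0 < 1; omega
  · exact linearIndependent_of_top_le_span_of_card_eq_finrank hspan hcard

/-! ### Uniqueness of the type -/

theorem count_map_univ {κ : Type*} [Fintype κ] [DecidableEq κ] (f : κ → ℕ) (c : ℕ) :
    Multiset.count c (Multiset.map f Finset.univ.val) =
      (Finset.univ.filter (fun i => f i = c)).card := by
  rw [Multiset.count_map, Finset.card_def, Finset.filter_val]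
  congr 1
  apply Multiset.filter_congr
  intro x _
  exact eq_comm

theorem sum_key {κ : Type*} [Fintype κ] [DecidableEq κ] (f : κ → ℕ) (c : ℕ) :
    ∑ i, (f i - c) + ∑ i, (f i - (c + 2)) =
      2 * ∑ i, (f i - (c + 1)) + (Finset.univ.filter (fun i => f i = c + 1)).card := by
  rw [Finset.card_filter, Finset.mul_sum, ← Finset.sum_add_distrib, ← Finset.sum_add_distrib]
  apply Finset.sum_congr rfl
  intro i _
  split_ifs with hi <;> omega

theorem multiset_eq_of_sums {ι ι' : Type*} [Fintype ι] [Fintype ι'] (k : ι → ℕ) (k' : ι' → ℕ)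
    (hpos : ∀ i, 0 < k i) (hpos' : ∀ i, 0 < k' i)
    (h : ∀ m, ∑ i, (k i - m) = ∑ i, (k' i - m)) :
    Multiset.map k Finset.univ.val = Multiset.map k' Finset.univ.val := by
  classical
  ext c
  rw [count_map_univ, count_map_univ]
  rcases Nat.eq_zero_or_pos c with rfl | hc
  · rw [Finset.filter_false_of_mem (fun i _ => (hpos i).ne'),
      Finset.filter_false_of_mem (fun i _ => (hpos' i).ne')]
    simp
  · obtain ⟨c, rfl⟩ : ∃ c', c = c' + 1 := ⟨c - 1, by omega⟩
    have h1 := sum_key k c
    have h2 := sum_key k' c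
    rw [h c, h (c + 2), h (c + 1)] at h1
    omega

/-! ### Conjugacy from equal types -/

theorem exists_equiv_of_map_eq {α β : Type*} [Fintype α] [Fintype β] (f : α → ℕ) (g : β → ℕ)
    (h : Multiset.map f Finset.univ.val = Multiset.map g Finset.univ.val) :
    ∃ e : α ≃ β, ∀ a, g (e a) = f a := by
  classical
  have hc : ∀ c, Fintype.card {a // f a = c} = Fintype.card {b // g b = c} := by
    intro c
    rw [Fintype.card_subtype, Fintype.card_subtype, ← count_map_univ f c, ← count_map_univ g c, h]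
  let ε : ∀ c, {a // f a = c} ≃ {b // g b = c} := fun c => Fintype.equivOfCardEq (hc c)
  refine ⟨(Equiv.sigmaFiberEquiv f).symm.trans
    ((Equiv.sigmaCongrRight ε).trans (Equiv.sigmaFiberEquiv g)), ?_⟩
  intro a
  exact (ε (f a) ⟨a, rfl⟩).2

theorem exists_conj {V V' : Type*} [AddCommGroup V] [Module F V] [AddCommGroup V'] [Module F V']
    {N : Module.End F V} {N' : Module.End F V'} {ι ι' : Type*} [Fintype ι] [Fintype ι']
    {k : ι → ℕ} {v : ι → V} {k' : ι' → ℕ} {v' : ι' → V'}
    (h : IsJordan N k v) (h' : IsJordan N' k' v')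
    (hm : Multiset.map k Finset.univ.val = Multiset.map k' Finset.univ.val) :
    ∃ P : V ≃ₗ[F] V', ∀ x, P (N x) = N' (P x) := by
  classical
  obtain ⟨e, he⟩ := exists_equiv_of_map_eq k k' hm
  let b := Basis.mk h.li h.span
  let b' := Basis.mk h'.li h'.span
  let σ : (Σ i, Fin (k i)) ≃ (Σ i', Fin (k' i')) :=
    Equiv.sigmaCongr e (fun i => finCongr (he i).symm)
  have hσ1 : ∀ x : (Σ i, Fin (k i)), (σ x).1 = e x.1 := fun x => rfl
  have hσ2 : ∀ x : (Σ i, Fin (k i)), ((σ x).2 : ℕ) = (x.2 : ℕ) := fun x => rfl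
  let P : V ≃ₗ[F] V' := b.equiv b' σ
  have hP : ∀ x, P (fam N k v x) = fam N' k' v' (σ x) := by
    intro x
    have h1 : fam N k v x = b x := by rw [Basis.mk_apply]
    have h2 : fam N' k' v' (σ x) = b' (σ x) := by rw [Basis.mk_apply]
    rw [h1, h2, Basis.equiv_apply]
  refine ⟨P, ?_⟩
  have hcomp : (P.toLinearMap.comp N) = (N'.comp P.toLinearMap) := by
    apply b.ext
    intro x
    have h1 : b x = fam N k v x := by rw [Basis.mk_apply]
    rw [h1]
    show P (N (fam N k v x)) = N' (P (fam N k v x))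
    rw [hP]
    show P (N ((N ^ (x.2 : ℕ)) (v x.1))) = N' ((N' ^ (x.2 : ℕ)) (v' (e x.1)))
    have e1 : N ((N ^ (x.2 : ℕ)) (v x.1)) = (N ^ ((x.2 : ℕ) + 1)) (v x.1) := by
      rw [add_comm, pow_add_apply, pow_one]
    have e2 : N' ((N' ^ (x.2 : ℕ)) (v' (e x.1))) = (N' ^ ((x.2 : ℕ) + 1)) (v' (e x.1)) := by
      rw [add_comm, pow_add_apply, pow_one]
    rw [e1, e2]
    by_cases hx : (x.2 : ℕ) + 1 < k x.1
    · have := hP ⟨x.1, ⟨(x.2 : ℕ) + 1, hx⟩⟩
      exact this
    · rw [h.pow_eq_zero _ _ (by omega), h'.pow_eq_zero _ _ (by rw [he]; omega), map_zero]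
  intro x
  exact LinearMap.congr_fun hcomp x

/-! ### Transport and the model -/

theorem IsJordan.conj {V V' : Type*} [AddCommGroup V] [Module F V] [AddCommGroup V']
    [Module F V'] {N : Module.End F V} {ι : Type*} {k : ι → ℕ} {v : ι → V}
    (h : IsJordan N k v) (L : V ≃ₗ[F] V') : IsJordan (L.conj N) k (fun i => L (v i)) := by
  have hpow : ∀ (j : ℕ) (x : V), ((L.conj N) ^ j) (L x) = L ((N ^ j) x) := by
    intro j
    induction j with
    | zero => intro x; simp
    | succ j ih =>
      intro x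
      rw [pow_succ, Module.End.mul_apply, pow_succ, Module.End.mul_apply, ← ih]
      congr 1
      rw [LinearEquiv.conj_apply_apply, LinearEquiv.symm_apply_apply]
  have hfam : fam (L.conj N) k (fun i => L (v i)) = L ∘ fam N k v := by
    funext x
    exact hpow _ _
  refine ⟨fun i => ?_, ?_, ?_⟩
  · rw [hpow, h.top, map_zero]
  · rw [hfam]
    exact h.li.map' L.toLinearMap L.ker
  · rw [hfam, Set.range_comp]
    have : Submodule.span F (L '' Set.range (fam N k v)) =
        Submodule.map L.toLinearMap (Submodule.span F (Set.range (fam N k v))) := by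
      rw [Submodule.map_span]
      rfl
    rw [this, eq_top_iff.mpr h.span, Submodule.map_top, LinearEquiv.range]

/-- The model: the shift operator on functions on `Σ i, Fin (k i)`. -/
theorem exists_model (F : Type*) [Field F] {ι : Type*} [Fintype ι] [DecidableEq ι] (k : ι → ℕ)
    (hpos : ∀ i, 0 < k i) :
    ∃ (N : Module.End F ((Σ i : ι, Fin (k i)) → F)) (v : ι → ((Σ i : ι, Fin (k i)) → F)),
      IsJordan N k v := by
  classical
  let X := Σ i : ι, Fin (k i)
  let B := Pi.basisFun F X
  let N : Module.End F (X → F) := B.constr F (fun x : X =>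
    if h : (x.2 : ℕ) + 1 < k x.1 then (Pi.single (⟨x.1, ⟨(x.2 : ℕ) + 1, h⟩⟩ : X) (1 : F)) else 0)
  have hN : ∀ x : X, N (Pi.single x (1 : F)) =
      if h : (x.2 : ℕ) + 1 < k x.1 then (Pi.single (⟨x.1, ⟨(x.2 : ℕ) + 1, h⟩⟩ : X) (1 : F))
      else 0 := by
    intro x
    have : Pi.single x (1 : F) = B x := by rw [Pi.basisFun_apply]
    rw [this, Basis.constr_basis]
  let v : ι → (X → F) := fun i => Pi.single (⟨i, ⟨0, hpos i⟩⟩ : X) (1 : F)
  have hpow : ∀ (i : ι) (j : ℕ) (hj : j < k i),
      (N ^ j) (v i) = Pi.single (⟨i, ⟨j, hj⟩⟩ : X) (1 : F) := by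
    intro i j
    induction j with
    | zero => intro hj; simp [v]
    | succ j ih =>
      intro hj
      rw [pow_succ', Module.End.mul_apply, ih (by omega), hN]
      rw [dif_pos (by exact hj)]
  have hfam : fam N k v = fun x => B x := by
    funext x
    rw [Pi.basisFun_apply]
    exact hpow x.1 x.2 x.2.2
  refine ⟨N, v, fun i => ?_, ?_, ?_⟩
  · have hk := hpos i
    obtain ⟨c, hc⟩ := Nat.exists_eq_succ_of_ne_zero hk.ne'
    rw [hc, pow_succ', Module.End.mul_apply, hpow i c (by omega), hN]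
    rw [dif_neg (by simp only; omega)]
  · rw [hfam]
    exact B.linearIndependent
  · rw [hfam]
    exact (B.span_eq).ge

/-! ### Matrix level -/

theorem IsJordan.pow_eq_zero_iff {V : Type*} [AddCommGroup V] [Module F V]
    [FiniteDimensional F V] {N : Module.End F V} {ι : Type*} [Fintype ι] {k : ι → ℕ} {v : ι → V}
    (h : IsJordan N k v) (m : ℕ) : N ^ m = 0 ↔ ∀ i, k i ≤ m := by
  have hr := h.finrank_range_pow m
  constructor
  · intro h0
    rw [h0, LinearMap.range_zero, finrank_bot] at hr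
    intro i
    have := (Finset.sum_eq_zero_iff.mp hr.symm) i (Finset.mem_univ i)
    omega
  · intro hk
    have h0 : ∑ i, (k i - m) = 0 := Finset.sum_eq_zero (fun i _ => by have := hk i; omega)
    rw [h0] at hr
    have : LinearMap.range (N ^ m) = ⊥ := Submodule.finrank_eq_zero.mp hr
    exact LinearMap.range_eq_bot.mp this

variable {n : ℕ}

theorem rank_pow (A : Matrix (Fin n) (Fin n) F) {ι : Type*} [Fintype ι] {k : ι → ℕ}
    {v : ι → (Fin n → F)} (h : IsJordan (Matrix.toLin' A) k v) (m : ℕ) :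
    (A ^ m).rank = ∑ i, (k i - m) := by
  rw [Matrix.rank, ← Matrix.toLin'_apply', Matrix.toLin'_pow]
  exact h.finrank_range_pow m

theorem mat_pow_eq_zero_iff (A : Matrix (Fin n) (Fin n) F) {ι : Type*} [Fintype ι] {k : ι → ℕ}
    {v : ι → (Fin n → F)} (h : IsJordan (Matrix.toLin' A) k v) (m : ℕ) :
    A ^ m = 0 ↔ ∀ i, k i ≤ m := by
  rw [← h.pow_eq_zero_iff m, ← Matrix.toLin'_pow]
  constructor
  · intro h0; rw [h0, map_zero]
  · intro h0
    exact (LinearEquiv.map_eq_zero_iff _).mp h0

theorem sum_eq_card (A : Matrix (Fin n) (Fin n) F) {ι : Type*} [Fintype ι] {k : ι → ℕ}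
    {v : ι → (Fin n → F)} (h : IsJordan (Matrix.toLin' A) k v) : ∑ i, k i = n := by
  have := rank_pow A h 0
  rw [pow_zero, Matrix.rank_one, Fintype.card_fin] at this
  simpa using this.symm

theorem exists_jordan_mat (A : Matrix (Fin n) (Fin n) F) (hA : IsNilpotent A) :
    ∃ (ι : Type) (_ : Fintype ι) (k : ι → ℕ) (v : ι → (Fin n → F)),
      (∀ i, 0 < k i) ∧ IsJordan (Matrix.toLin' A) k v := by
  have hN : IsNilpotent (Matrix.toLin' A) := by
    obtain ⟨c, hc⟩ := hA
    exact ⟨c, by rw [← Matrix.toLin'_pow, hc, map_zero]⟩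
  exact exists_jordan _ (Fin n → F) (Matrix.toLin' A) hN rfl

theorem exists_model_mat {ι : Type*} [Fintype ι] (k : ι → ℕ) (hpos : ∀ i, 0 < k i)
    (hsum : ∑ i, k i = n) :
    ∃ (A : Matrix (Fin n) (Fin n) F) (v : ι → (Fin n → F)), IsJordan (Matrix.toLin' A) k v := by
  classical
  obtain ⟨N, v, hJ⟩ := exists_model F k hpos
  have hcard : Fintype.card (Σ i, Fin (k i)) = n := by
    rw [Fintype.card_sigma]
    simpa using hsum
  let ε : (Σ i, Fin (k i)) ≃ Fin n := Fintype.equivFinOfCardEq hcard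
  let L : ((Σ i, Fin (k i)) → F) ≃ₗ[F] (Fin n → F) := LinearEquiv.funCongrLeft F F ε.symm
  refine ⟨LinearMap.toMatrix' (L.conj N), fun i => L (v i), ?_⟩
  rw [Matrix.toLin'_toMatrix']
  exact hJ.conj L

theorem exists_conj_mat (A A' : Matrix (Fin n) (Fin n) F) {ι ι' : Type*} [Fintype ι]
    [Fintype ι'] {k : ι → ℕ} {v : ι → (Fin n → F)} {k' : ι' → ℕ} {v' : ι' → (Fin n → F)}
    (h : IsJordan (Matrix.toLin' A) k v) (h' : IsJordan (Matrix.toLin' A') k' v')
    (hm : Multiset.map k Finset.univ.val = Multiset.map k' Finset.univ.val) :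
    ∃ P : (Matrix (Fin n) (Fin n) F)ˣ, (P : Matrix (Fin n) (Fin n) F) * A = A' * P := by
  obtain ⟨P, hP⟩ := exists_conj h h' hm
  have h1 : LinearMap.toMatrix' P.toLinearMap * LinearMap.toMatrix' P.symm.toLinearMap = 1 := by
    rw [← LinearMap.toMatrix'_comp, ← LinearMap.toMatrix'_id]
    congr 1
    ext x : 1
    simp
  have h2 : LinearMap.toMatrix' P.symm.toLinearMap * LinearMap.toMatrix' P.toLinearMap = 1 := by
    rw [← LinearMap.toMatrix'_comp, ← LinearMap.toMatrix'_id]
    congr 1
    ext x : 1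
    simp
  refine ⟨⟨LinearMap.toMatrix' P.toLinearMap, LinearMap.toMatrix' P.symm.toLinearMap, h1, h2⟩, ?_⟩
  apply Matrix.toLin'.injective
  show Matrix.toLin' (LinearMap.toMatrix' P.toLinearMap * A) =
    Matrix.toLin' (A' * LinearMap.toMatrix' P.toLinearMap)
  rw [Matrix.toLin'_mul, Matrix.toLin'_mul, Matrix.toLin'_toMatrix']
  apply LinearMap.ext
  intro x
  exact hP x

/-- Conjugate matrices have the same ranks of powers. -/
theorem rank_pow_eq_of_conj (A A' : Matrix (Fin n) (Fin n) F) (P : (Matrix (Fin n) (Fin n) F)ˣ)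
    (hP : (P : Matrix (Fin n) (Fin n) F) * A = A' * P) (m : ℕ) : (A ^ m).rank = (A' ^ m).rank := by
  have hpow : (P : Matrix (Fin n) (Fin n) F) * A ^ m = A' ^ m * P := by
    induction m with
    | zero => simp
    | succ m ih =>
      rw [pow_succ, ← mul_assoc, ih, mul_assoc, hP, ← mul_assoc, ← pow_succ]
  have hdet : IsUnit (P : Matrix (Fin n) (Fin n) F).det :=
    (Matrix.isUnit_iff_isUnit_det _).mp P.isUnit
  rw [← Matrix.rank_mul_eq_right_of_isUnit_det (P : Matrix (Fin n) (Fin n) F) (A ^ m) hdet, hpow,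
    Matrix.rank_mul_eq_left_of_isUnit_det _ _ hdet]

/-- For a partition, an indexing of its parts. -/
theorem exists_indexing (lam : Nat.Partition n) :
    ∃ (r : ℕ) (k : Fin r → ℕ), (∀ i, 0 < k i) ∧
      Multiset.map k Finset.univ.val = lam.parts ∧ ∑ i, k i = n := by
  let l := lam.parts.toList
  have hl : (l : Multiset ℕ) = lam.parts := Multiset.coe_toList _
  have hmap : Multiset.map (fun i : Fin l.length => l.get i) Finset.univ.val = lam.parts := by
    rw [Fin.univ_val_map, List.ofFn_get, hl]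
  refine ⟨l.length, fun i => l.get i, fun i => ?_, hmap, ?_⟩
  · apply lam.parts_pos
    rw [← hl]
    exact Multiset.mem_coe.mpr (List.get_mem l i)
  · have : ∑ i, l.get i = (Multiset.map (fun i : Fin l.length => l.get i) Finset.univ.val).sum := rfl
    rw [this, hmap, lam.parts_sum]

/-- The main classification of nilpotent matrices up to conjugacy, GL form. -/
theorem main_GL (F : Type*) [Field F] (n : ℕ) :
    ∃ gfun : Nat.Partition n → (Matrix (Fin n) (Fin n) F)ˣ,
      (∀ lam, IsNilpotent ((gfun lam : Matrix (Fin n) (Fin n) F) - 1)) ∧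
      (∀ lam mu, IsConj (gfun lam) (gfun mu) → lam = mu) ∧
      (∀ g : (Matrix (Fin n) (Fin n) F)ˣ, IsNilpotent ((g : Matrix (Fin n) (Fin n) F) - 1) →
        ∃ lam, IsConj (gfun lam) g) ∧
      (∀ lam m, ((gfun lam : Matrix (Fin n) (Fin n) F) - 1) ^ m = 0 ↔ ∀ a ∈ lam.parts, a ≤ m) := by
  classical
  have hex : ∀ lam : Nat.Partition n, ∃ g : (Matrix (Fin n) (Fin n) F)ˣ,
      ∃ (r : ℕ) (k : Fin r → ℕ) (v : Fin r → (Fin n → F)), (∀ i, 0 < k i) ∧
        Multiset.map k Finset.univ.val = lam.parts ∧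
        IsJordan (Matrix.toLin' ((g : Matrix (Fin n) (Fin n) F) - 1)) k v := by
    intro lam
    obtain ⟨r, k, hpos, hmap, hsum⟩ := exists_indexing lam
    obtain ⟨A, v, hJ⟩ := exists_model_mat (F := F) k hpos hsum
    have hA : IsNilpotent A := ⟨n, (mat_pow_eq_zero_iff A hJ n).mpr (fun i => by
      rw [← hsum]
      exact Finset.single_le_sum (fun _ _ => Nat.zero_le _) (Finset.mem_univ i))⟩
    obtain ⟨g, hg⟩ := hA.isUnit_one_add
    refine ⟨g, r, k, v, hpos, hmap, ?_⟩
    have : (g : Matrix (Fin n) (Fin n) F) - 1 = A := by rw [hg]; abel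
    rw [this]
    exact hJ
  choose gfun r k v hpos hmap hJ using hex
  have hconjP : ∀ g g' : (Matrix (Fin n) (Fin n) F)ˣ, IsConj g g' →
      ∃ P : (Matrix (Fin n) (Fin n) F)ˣ, (P : Matrix (Fin n) (Fin n) F) *
        ((g : Matrix (Fin n) (Fin n) F) - 1) = ((g' : Matrix (Fin n) (Fin n) F) - 1) * P := by
    intro g g' hc
    obtain ⟨c, hc⟩ := isConj_iff.mp hc
    refine ⟨c, ?_⟩
    have h1 : c * g = g' * c := by rw [← hc]; group
    have h2 : (c : Matrix (Fin n) (Fin n) F) * g = g' * c := by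
      have := congrArg (Units.val) h1
      simpa using this
    rw [mul_sub, sub_mul, h2, mul_one, one_mul]
  refine ⟨gfun, ?_, ?_, ?_, ?_⟩
  · intro lam
    refine ⟨n, (mat_pow_eq_zero_iff _ (hJ lam) n).mpr (fun i => ?_)⟩
    rw [← sum_eq_card _ (hJ lam)]
    exact Finset.single_le_sum (fun _ _ => Nat.zero_le _) (Finset.mem_univ i)
  · intro lam mu hc
    obtain ⟨P, hP⟩ := hconjP _ _ hc
    have hsums : ∀ m, ∑ i, (k lam i - m) = ∑ i, (k mu i - m) := by
      intro m
      rw [← rank_pow _ (hJ lam) m, ← rank_pow _ (hJ mu) m]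
      exact rank_pow_eq_of_conj _ _ P hP m
    have := multiset_eq_of_sums (k lam) (k mu) (hpos lam) (hpos mu) hsums
    rw [hmap, hmap] at this
    exact Nat.Partition.ext this
  · intro g hg
    obtain ⟨ι, _, k', v', hpos', hJ'⟩ := exists_jordan_mat _ hg
    let lam : Nat.Partition n :=
      { parts := Multiset.map k' Finset.univ.val
        parts_pos := by
          intro a ha
          obtain ⟨i, _, rfl⟩ := Multiset.mem_map.mp ha
          exact hpos' i
        parts_sum := sum_eq_card _ hJ' }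
    refine ⟨lam, ?_⟩
    obtain ⟨P, hP⟩ := exists_conj_mat _ _ (hJ lam) hJ' (hmap lam)
    rw [isConj_iff]
    refine ⟨P, ?_⟩
    have h2 : (P : Matrix (Fin n) (Fin n) F) * (gfun lam : Matrix (Fin n) (Fin n) F) = g * P := by
      rw [mul_sub, sub_mul, mul_one, one_mul] at hP
      exact sub_left_injective hP
    have h1 : P * gfun lam = g * P := Units.ext (by simpa using h2)
    rw [h1]; group
  · intro lam m
    rw [mat_pow_eq_zero_iff _ (hJ lam) m, ← hmap lam]
    constructor
    · intro h a ha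
      obtain ⟨i, _, rfl⟩ := Multiset.mem_map.mp ha
      exact h i
    · intro h i
      exact h _ (Multiset.mem_map.mpr ⟨i, Finset.mem_univ_val i, rfl⟩)

end Cfsg.Agent.Lib.Helper95.NilJordan
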