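import Mathlib
import Cfsg.Prelude.Def_JordanBlocks
import Cfsg.Agent.Lib.Helper95.NilJordan
import Cfsg.Agent.Lib.Helper40.AltRank

set_option autoImplicit false

namespace Cfsg.Agent.Lib.Helper95.JType

open Module Matrix Cfsg.Agent.Lib.Helper95.NilJordan

universe u

variable {F : Type u} [Field F]

/-! ### The Jordan model -/

/-- shift matrix: ones on the subdiagonal -/
def shiftM (n : ℕ) (F : Type*) [Field F] : Matrix (Fin n) (Fin n) F :=
  Matrix.of fun i j => if (i : ℕ) = (j : ℕ) + 1 then 1 else 0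

theorem jordanBlock_sub_one (n : ℕ) : Cfsg.jordanBlock n F - 1 = shiftM n F := by
  ext i j
  simp only [Cfsg.jordanBlock, shiftM, Matrix.sub_apply, Matrix.of_apply, Matrix.one_apply]
  by_cases h : i = j
  · subst h
    simp
  · have h' : (i : ℕ) ≠ (j : ℕ) := fun hh => h (Fin.ext hh)
    simp [h, h']

theorem shiftM_mulVec_single (n : ℕ) (b : Fin n) :
    shiftM n F *ᵥ (Pi.single b (1 : F)) =
      if h : (b : ℕ) + 1 < n then Pi.single (⟨(b : ℕ) + 1, h⟩ : Fin n) (1 : F) else 0 := by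
  funext i
  rw [Matrix.mulVec_single_one]
  simp only [shiftM, Matrix.col_apply, Matrix.of_apply]
  split_ifs with h1 h2 h2
  · have : i = ⟨(b : ℕ) + 1, h2⟩ := Fin.ext h1
    rw [this, Pi.single_eq_same]
  · exfalso
    have := i.2
    omega
  · have : i ≠ ⟨(b : ℕ) + 1, h2⟩ := fun hh => h1 (by rw [hh])
    rw [Pi.single_eq_of_ne this]
  · rfl

theorem shiftM_mulVec_apply (n : ℕ) (x : Fin n → F) (i : Fin n) :
    (shiftM n F *ᵥ x) i = if h : 0 < (i : ℕ) then x ⟨(i : ℕ) - 1, by omega⟩ else 0 := by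
  simp only [Matrix.mulVec, dotProduct, shiftM, Matrix.of_apply]
  split_ifs with h
  · rw [Finset.sum_eq_single (⟨(i : ℕ) - 1, by omega⟩ : Fin n)]
    · rw [if_pos (by simp only; omega), one_mul]
    · intro b _ hb
      rw [if_neg, zero_mul]
      intro hh
      apply hb
      apply Fin.ext
      simp only
      omega
    · intro hh
      exact absurd (Finset.mem_univ _) hh
  · apply Finset.sum_eq_zero
    intro b _
    rw [if_neg (by omega), zero_mul]

theorem shiftM_transpose_mulVec_apply (n : ℕ) (x : Fin n → F) (i : Fin n) :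
    ((shiftM n F)ᵀ *ᵥ x) i = if h : (i : ℕ) + 1 < n then x ⟨(i : ℕ) + 1, h⟩ else 0 := by
  simp only [Matrix.mulVec, dotProduct, shiftM, Matrix.transpose_apply, Matrix.of_apply]
  split_ifs with h
  · rw [Finset.sum_eq_single (⟨(i : ℕ) + 1, h⟩ : Fin n)]
    · simp
    · intro b _ hb
      rw [if_neg, zero_mul]
      intro hh
      apply hb
      apply Fin.ext
      simp only
      omega
    · intro hh
      exact absurd (Finset.mem_univ _) hh
  · apply Finset.sum_eq_zero
    intro b _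
    rw [if_neg, zero_mul]
    intro hh
    have := b.2
    omega

/-- a single shift on `Fin n → F` is a Jordan block -/
theorem isJordan_single (n : ℕ) (hn : 0 < n) (N : Module.End F (Fin n → F))
    (hN : ∀ b : Fin n, N (Pi.single b (1 : F)) =
      if h : (b : ℕ) + 1 < n then Pi.single (⟨(b : ℕ) + 1, h⟩ : Fin n) (1 : F) else 0) :
    IsJordan N (fun _ : Unit => n) (fun _ => Pi.single (⟨0, hn⟩ : Fin n) (1 : F)) := by
  classical
  have hpow : ∀ (j : ℕ) (hj : j < n),
      (N ^ j) (Pi.single (⟨0, hn⟩ : Fin n) (1 : F)) = Pi.single (⟨j, hj⟩ : Fin n) (1 : F) := by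
    intro j
    induction j with
    | zero => intro hj; simp
    | succ j ih =>
      intro hj
      rw [pow_succ', Module.End.mul_apply, ih (by omega), hN]
      rw [dif_pos (by exact hj)]
  have hfam : fam N (fun _ : Unit => n) (fun _ => Pi.single (⟨0, hn⟩ : Fin n) (1 : F)) =
      fun x => Pi.basisFun F (Fin n) x.2 := by
    funext x
    rw [Pi.basisFun_apply]
    exact hpow x.2 x.2.2
  refine ⟨fun _ => ?_, ?_, ?_⟩
  · obtain ⟨c, hc⟩ := Nat.exists_eq_succ_of_ne_zero hn.ne'
    show (N ^ n) _ = 0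
    have h1 : N ^ n = N * N ^ c := by
      rw [← pow_succ']
      congr 1
    rw [h1, Module.End.mul_apply, hpow c (by omega), hN, dif_neg (by simp only; omega)]
  · rw [hfam]
    exact (Pi.basisFun F (Fin n)).linearIndependent.comp (fun x : (Σ _ : Unit, Fin n) => x.2)
      (fun x y h => by
        obtain ⟨⟨⟩, x2⟩ := x
        obtain ⟨⟨⟩, y2⟩ := y
        simp only at h
        rw [h])
  · rw [hfam]
    have hr : Set.range (fun x : (Σ _ : Unit, Fin n) => Pi.basisFun F (Fin n) x.2) =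
        Set.range (Pi.basisFun F (Fin n)) := by
      ext y
      constructor
      · rintro ⟨x, rfl⟩
        exact ⟨x.2, rfl⟩
      · rintro ⟨b, rfl⟩
        exact ⟨⟨(), b⟩, rfl⟩
    rw [hr]
    exact ((Pi.basisFun F (Fin n)).span_eq).ge

/-- rank sequence of a nilpotent endomorphism -/
noncomputable def rk {V : Type*} [AddCommGroup V] [Module F V] (N : Module.End F V) (i : ℕ) : ℕ :=
  finrank F (LinearMap.range (N ^ i))

theorem rk_toLin' {α : Type*} [Fintype α] [DecidableEq α] (X : Matrix α α F) (i : ℕ) :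
    rk (Matrix.toLin' X) i = (X ^ i).rank := by
  rw [rk, Matrix.rank, ← Matrix.toLin'_apply', Matrix.toLin'_pow]

theorem rank_shiftM_pow (n : ℕ) (i : ℕ) : ((shiftM n F) ^ i).rank = n - i := by
  rcases Nat.eq_zero_or_pos n with rfl | hn
  · rw [Nat.zero_sub]
    have h := Matrix.rank_le_card_width ((shiftM 0 F) ^ i)
    simpa using h
  · have hJ := isJordan_single (F := F) n hn (Matrix.toLin' (shiftM n F)) (fun b => by
      rw [Matrix.toLin'_apply, shiftM_mulVec_single])
    have h := hJ.finrank_range_pow i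
    rw [← rk_toLin', rk, h]
    simp

theorem mat_pow_eq_zero_of_toLin' {α : Type*} [Fintype α] [DecidableEq α] (X : Matrix α α F)
    (m : ℕ) (h : (Matrix.toLin' X) ^ m = 0) : X ^ m = 0 := by
  rw [← Matrix.toLin'_pow] at h
  exact (LinearEquiv.map_eq_zero_iff _).mp h

theorem shiftM_pow_self (n : ℕ) : (shiftM n F) ^ n = 0 := by
  rcases Nat.eq_zero_or_pos n with rfl | hn
  · ext i
    exact i.elim0
  · have hJ := isJordan_single (F := F) n hn (Matrix.toLin' (shiftM n F)) (fun b => by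
      rw [Matrix.toLin'_apply, shiftM_mulVec_single])
    exact mat_pow_eq_zero_of_toLin' _ _ ((hJ.pow_eq_zero_iff n).mpr (fun _ => le_refl _))

/-- a shift on a sigma type is a Jordan decomposition -/
theorem isJordan_of_shift {ι : Type*} [Fintype ι] [DecidableEq ι] (k : ι → ℕ)
    (hpos : ∀ i, 0 < k i) (N : Module.End F ((Σ i : ι, Fin (k i)) → F))
    (hN : ∀ x : (Σ i : ι, Fin (k i)), N (Pi.single x (1 : F)) =
      if h : (x.2 : ℕ) + 1 < k x.1 then
        (Pi.single (⟨x.1, ⟨(x.2 : ℕ) + 1, h⟩⟩ : (Σ i : ι, Fin (k i))) (1 : F)) else 0) :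
    IsJordan N k (fun i => Pi.single (⟨i, ⟨0, hpos i⟩⟩ : (Σ i : ι, Fin (k i))) (1 : F)) := by
  classical
  have hpow : ∀ (i : ι) (j : ℕ) (hj : j < k i),
      (N ^ j) (Pi.single (⟨i, ⟨0, hpos i⟩⟩ : (Σ i : ι, Fin (k i))) (1 : F)) =
        Pi.single (⟨i, ⟨j, hj⟩⟩ : (Σ i : ι, Fin (k i))) (1 : F) := by
    intro i j
    induction j with
    | zero => intro hj; simp
    | succ j ih =>
      intro hj
      rw [pow_succ', Module.End.mul_apply, ih (by omega), hN]
      rw [dif_pos (by exact hj)]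
  have hfam : fam N k (fun i => Pi.single (⟨i, ⟨0, hpos i⟩⟩ : (Σ i : ι, Fin (k i))) (1 : F)) =
      fun x => Pi.basisFun F (Σ i : ι, Fin (k i)) x := by
    funext x
    rw [Pi.basisFun_apply]
    exact hpow x.1 x.2 x.2.2
  refine ⟨fun i => ?_, ?_, ?_⟩
  · have hk := hpos i
    obtain ⟨c, hc⟩ := Nat.exists_eq_succ_of_ne_zero hk.ne'
    have h1 : N ^ k i = N * N ^ c := by
      rw [← pow_succ']
      congr 1
    rw [h1, Module.End.mul_apply, hpow i c (by omega), hN, dif_neg (by simp only; omega)]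
  · rw [hfam]
    exact (Pi.basisFun F _).linearIndependent
  · rw [hfam]
    exact ((Pi.basisFun F _).span_eq).ge

theorem jordanType_sub_one_apply {t : ℕ} (d : Fin t → ℕ) (x y : (k : Fin t) × Fin (d k)) :
    (Cfsg.jordanTypeMatrix d F - 1) y x =
      if y.1 = x.1 ∧ (y.2 : ℕ) = (x.2 : ℕ) + 1 then 1 else 0 := by
  obtain ⟨k, i⟩ := x
  obtain ⟨k', i'⟩ := y
  simp only [Cfsg.jordanTypeMatrix, Matrix.sub_apply, Matrix.blockDiagonal'_apply]
  by_cases hk : k' = k
  · subst hk
    have h1 : (1 : Matrix ((k : Fin t) × Fin (d k)) ((k : Fin t) × Fin (d k)) F) ⟨k', i'⟩ ⟨k', i⟩ =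
        if i' = i then 1 else 0 := by
      rw [Matrix.one_apply]
      by_cases hi : i' = i
      · subst hi; simp
      · rw [if_neg hi, if_neg]
        intro hh
        apply hi
        have := (Sigma.mk.injEq _ _ _ _).mp hh
        exact eq_of_heq this.2
    rw [h1, dif_pos rfl]
    have h2 := congrFun (congrFun (jordanBlock_sub_one (F := F) (d k')) i') i
    simp only [Matrix.sub_apply, Matrix.one_apply, shiftM, Matrix.of_apply] at h2
    simp only [cast_eq, true_and]
    exact h2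
  · have h1 : (1 : Matrix ((k : Fin t) × Fin (d k)) ((k : Fin t) × Fin (d k)) F) ⟨k', i'⟩ ⟨k, i⟩ = 0 := by
      rw [Matrix.one_apply, if_neg]
      intro hh
      exact hk ((Sigma.mk.injEq _ _ _ _).mp hh).1
    rw [h1, dif_neg hk, sub_zero, if_neg]
    rintro ⟨hh, _⟩
    exact hk hh

theorem jordanType_mulVec_single {t : ℕ} (d : Fin t → ℕ) (x : (k : Fin t) × Fin (d k)) :
    (Cfsg.jordanTypeMatrix d F - 1) *ᵥ (Pi.single x (1 : F)) =
      if h : (x.2 : ℕ) + 1 < d x.1 then
        (Pi.single (⟨x.1, ⟨(x.2 : ℕ) + 1, h⟩⟩ : (k : Fin t) × Fin (d k)) (1 : F)) else 0 := by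
  funext y
  rw [Matrix.mulVec_single_one, Matrix.col_apply, jordanType_sub_one_apply]
  obtain ⟨k, i⟩ := x
  obtain ⟨k', i'⟩ := y
  simp only
  split_ifs with h1 h2 h2
  · obtain ⟨hk, hi⟩ := h1
    subst hk
    have : i' = ⟨(i : ℕ) + 1, h2⟩ := Fin.ext hi
    rw [this, Pi.single_eq_same]
  · exfalso
    obtain ⟨hk, hi⟩ := h1
    subst hk
    have := i'.2
    omega
  · rw [Pi.single_eq_of_ne]
    intro hh
    apply h1
    have h3 := (Sigma.mk.injEq _ _ _ _).mp hh
    obtain ⟨hk, hi⟩ := h3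
    subst hk
    have hi' := eq_of_heq hi
    exact ⟨rfl, by rw [hi']⟩
  · rfl

theorem isJordan_jordanType {t : ℕ} (d : Fin t → ℕ) (hd : ∀ k, 0 < d k) :
    IsJordan (Matrix.toLin' (Cfsg.jordanTypeMatrix d F - 1)) d
      (fun k => Pi.single (⟨k, ⟨0, hd k⟩⟩ : (k : Fin t) × Fin (d k)) (1 : F)) :=
  isJordan_of_shift d hd _ (fun x => by rw [Matrix.toLin'_apply, jordanType_mulVec_single])

theorem rank_jordanType_pow {t : ℕ} (d : Fin t → ℕ) (hd : ∀ k, 0 < d k) (i : ℕ) :
    ((Cfsg.jordanTypeMatrix d F - 1) ^ i).rank = ∑ k, (d k - i) := by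
  rw [← rk_toLin', rk]
  exact (isJordan_jordanType d hd).finrank_range_pow i

theorem isNilpotent_jordanType {t : ℕ} (d : Fin t → ℕ) (hd : ∀ k, 0 < d k) :
    IsNilpotent (Cfsg.jordanTypeMatrix d F - 1) := by
  refine ⟨Finset.univ.sup d, ?_⟩
  exact mat_pow_eq_zero_of_toLin' _ _ (((isJordan_jordanType d hd).pow_eq_zero_iff _).mpr
    (fun k => Finset.le_sup (Finset.mem_univ k)))

/-! ### Conjugacy from rank sequences -/

theorem conj_of_rk {V V' : Type u} [AddCommGroup V] [Module F V] [FiniteDimensional F V]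
    [AddCommGroup V'] [Module F V'] [FiniteDimensional F V'] (N : Module.End F V)
    (N' : Module.End F V') (hN : IsNilpotent N) (hN' : IsNilpotent N')
    (h : ∀ i, rk N i = rk N' i) : ∃ P : V ≃ₗ[F] V', ∀ x, P (N x) = N' (P x) := by
  obtain ⟨ι, _, k, v, hpos, hJ⟩ := exists_jordan _ V N hN rfl
  obtain ⟨ι', _, k', v', hpos', hJ'⟩ := exists_jordan _ V' N' hN' rfl
  have hm := multiset_eq_of_sums k k' hpos hpos' (fun m => by
    rw [← hJ.finrank_range_pow, ← hJ'.finrank_range_pow]
    exact h m)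
  exact exists_conj hJ hJ' hm

theorem isNilpotent_toLin' {α : Type*} [Fintype α] [DecidableEq α] (X : Matrix α α F)
    (h : IsNilpotent X) : IsNilpotent (Matrix.toLin' X) := by
  obtain ⟨c, hc⟩ := h
  exact ⟨c, by rw [← Matrix.toLin'_pow, hc, map_zero]⟩

/-- unipotent matrices with the same rank sequences are conjugate (up to reindexing) -/
theorem isConj_of_rank {α β : Type} [Fintype α] [DecidableEq α] [Fintype β] [DecidableEq β]
    (X : Matrix α α F) (Y : Matrix β β F) (e : α ≃ β) (hX : IsNilpotent (X - 1))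
    (hY : IsNilpotent (Y - 1)) (h : ∀ i, ((X - 1) ^ i).rank = ((Y - 1) ^ i).rank) :
    IsConj (Matrix.reindex e e X) Y := by
  obtain ⟨P, hP⟩ := conj_of_rk (Matrix.toLin' (X - 1)) (Matrix.toLin' (Y - 1))
    (isNilpotent_toLin' _ hX) (isNilpotent_toLin' _ hY) (fun i => by
      rw [rk_toLin', rk_toLin']
      exact h i)
  have h1 : LinearMap.toMatrix' P.toLinearMap * LinearMap.toMatrix' P.symm.toLinearMap = 1 := by
    rw [← LinearMap.toMatrix'_comp]
    have : P.toLinearMap ∘ₗ P.symm.toLinearMap = LinearMap.id := by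
      ext x
      simp
    rw [this, LinearMap.toMatrix'_id]
  have h2 : LinearMap.toMatrix' P.symm.toLinearMap * LinearMap.toMatrix' P.toLinearMap = 1 := by
    rw [← LinearMap.toMatrix'_comp]
    have : P.symm.toLinearMap ∘ₗ P.toLinearMap = LinearMap.id := by
      ext x
      simp
    rw [this, LinearMap.toMatrix'_id]
  have h3 : LinearMap.toMatrix' P.toLinearMap * (X - 1) =
      (Y - 1) * LinearMap.toMatrix' P.toLinearMap := by
    have e1 : P.toLinearMap ∘ₗ Matrix.toLin' (X - 1) = Matrix.toLin' (Y - 1) ∘ₗ P.toLinearMap := by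
      apply LinearMap.ext
      intro x
      exact hP x
    have e2 := congrArg LinearMap.toMatrix' e1
    rwa [LinearMap.toMatrix'_comp, LinearMap.toMatrix'_comp, LinearMap.toMatrix'_toLin',
      LinearMap.toMatrix'_toLin'] at e2
  have h4 : LinearMap.toMatrix' P.toLinearMap * X = Y * LinearMap.toMatrix' P.toLinearMap := by
    rw [Matrix.mul_sub, Matrix.sub_mul, Matrix.mul_one, Matrix.one_mul] at h3
    exact sub_left_injective h3
  refine ⟨⟨(LinearMap.toMatrix' P.toLinearMap).submatrix id e.symm,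
    (LinearMap.toMatrix' P.symm.toLinearMap).submatrix e.symm id, ?_, ?_⟩, ?_⟩
  · rw [Matrix.submatrix_mul_equiv, h1, Matrix.submatrix_id_id]
  · rw [← Matrix.submatrix_mul _ _ _ _ _ Function.bijective_id, h2, Matrix.submatrix_one_equiv]
  · show (LinearMap.toMatrix' P.toLinearMap).submatrix id e.symm * Matrix.reindex e e X =
      Y * (LinearMap.toMatrix' P.toLinearMap).submatrix id e.symm
    rw [Matrix.reindex_apply, Matrix.submatrix_mul_equiv, h4]
    have : Y = Y.submatrix id id := (Matrix.submatrix_id_id Y).symm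
    conv_rhs => rw [this]
    rw [← Matrix.submatrix_mul _ _ _ _ _ Function.bijective_id]

/-- a nilpotent endomorphism with one-dimensional kernel is a single Jordan block -/
theorem rk_of_ker_one {V : Type u} [AddCommGroup V] [Module F V] [FiniteDimensional F V]
    (N : Module.End F V) (hN : IsNilpotent N) (hker : finrank F (LinearMap.ker N) = 1) (i : ℕ) :
    rk N i = finrank F V - i := by
  classical
  obtain ⟨ι, _, k, v, hpos, hJ⟩ := exists_jordan _ V N hN rfl
  have h0 := hJ.finrank_range_pow 0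
  have h1 := hJ.finrank_range_pow 1
  have hi := hJ.finrank_range_pow i
  have hrn := LinearMap.finrank_range_add_finrank_ker N
  have e0 : finrank F (LinearMap.range (N ^ 0)) = finrank F V := by
    have : LinearMap.range (N ^ 0) = ⊤ := by
      rw [pow_zero]
      exact LinearMap.range_id
    rw [this, finrank_top]
  rw [pow_one] at h1
  have hs : ∑ j, k j = ∑ j, (k j - 1) + Fintype.card ι := by
    rw [Fintype.card, Finset.card_eq_sum_ones, ← Finset.sum_add_distrib]
    apply Finset.sum_congr rfl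
    intro j _
    have := hpos j
    omega
  simp only [Nat.sub_zero] at h0
  have hcard : Fintype.card ι = 1 := by omega
  obtain ⟨j0, hj0⟩ := Fintype.card_eq_one_iff.mp hcard
  have huniv : (Finset.univ : Finset ι) = {j0} := by
    ext j
    simp [hj0 j]
  rw [rk, hi, huniv, Finset.sum_singleton]
  rw [e0, huniv, Finset.sum_singleton] at h0
  rw [h0]

/-! ### Necessity: parity of ranks for isometries -/

section necessity

variable {n : Type*} [Fintype n] [DecidableEq n]

theorem key_rel (G A : Matrix n n F) (h : Aᵀ * G * A = G) (s : ℕ) :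
    ((A - 1)ᵀ) ^ s * G * A ^ s = (-1 : F) ^ s • (G * (A - 1) ^ s) := by
  induction s with
  | zero => simp
  | succ s ih =>
    have h1 : (A - 1)ᵀ * G * A = -(G * (A - 1)) := by
      rw [Matrix.transpose_sub, Matrix.transpose_one, Matrix.sub_mul, Matrix.sub_mul, h,
        Matrix.one_mul, Matrix.mul_sub, Matrix.mul_one]
      abel
    have hc : (A - 1) ^ s * A = A * (A - 1) ^ s := by
      have : Commute (A - 1) A := (Commute.refl A).sub_left (Commute.one_left A)
      exact (this.pow_left s).eq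
    calc ((A - 1)ᵀ) ^ (s + 1) * G * A ^ (s + 1)
        = (A - 1)ᵀ * (((A - 1)ᵀ) ^ s * G * A ^ s) * A := by
          rw [pow_succ', pow_succ]
          simp only [Matrix.mul_assoc]
      _ = (A - 1)ᵀ * ((-1 : F) ^ s • (G * (A - 1) ^ s)) * A := by rw [ih]
      _ = (-1 : F) ^ s • ((A - 1)ᵀ * G * ((A - 1) ^ s * A)) := by
          simp only [Matrix.mul_smul, Matrix.smul_mul, Matrix.mul_assoc]
      _ = (-1 : F) ^ s • ((A - 1)ᵀ * G * A * (A - 1) ^ s) := by
          rw [hc]
          simp only [Matrix.mul_assoc]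
      _ = (-1 : F) ^ s • (-(G * (A - 1)) * (A - 1) ^ s) := by rw [h1]
      _ = (-1 : F) ^ (s + 1) • (G * (A - 1) ^ (s + 1)) := by
          rw [pow_succ (-1 : F), pow_succ' (A - 1), Matrix.neg_mul, Matrix.mul_assoc, smul_neg,
            mul_neg_one, neg_smul]

theorem isUnit_det_of_isometry (G A : Matrix n n F) (hG : IsUnit G.det) (h : Aᵀ * G * A = G) :
    IsUnit A.det := by
  rw [isUnit_iff_ne_zero] at hG ⊢
  intro h0
  apply hG
  rw [← h, Matrix.det_mul, h0, mul_zero]

/-- for an isometry `A` of an alternating form, the even powers of `A - 1` have even rank -/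
theorem even_rank_even_pow (G A : Matrix n n F) (hG : IsUnit G.det) (h : Aᵀ * G * A = G)
    (halt : ∀ v : n → F, v ⬝ᵥ (G *ᵥ v) = 0) (s : ℕ) : Even (((A - 1) ^ (2 * s)).rank) := by
  have hA := isUnit_det_of_isometry G A hG h
  have hT : Even ((((A - 1) ^ s)ᵀ * G * (A - 1) ^ s).rank) := by
    apply Cfsg.Agent.Lib.Helper40.AltRank.even_rank_of_alt
    intro v
    have := halt ((A - 1) ^ s *ᵥ v)
    rw [← Matrix.mulVec_mulVec, ← Matrix.mulVec_mulVec, Matrix.dotProduct_mulVec,
      Matrix.vecMul_transpose]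
    exact this
  have hc : (A - 1) ^ s * A ^ s = A ^ s * (A - 1) ^ s := by
    have : Commute (A - 1) A := (Commute.refl A).sub_left (Commute.one_left A)
    exact (this.pow_pow s s).eq
  have h1 : (((A - 1) ^ s)ᵀ * G * (A - 1) ^ s) * A ^ s =
      ((-1 : F) ^ s • G) * (A - 1) ^ (2 * s) := by
    rw [Matrix.mul_assoc, hc, ← Matrix.mul_assoc, Matrix.transpose_pow, key_rel G A h s,
      Matrix.smul_mul, Matrix.smul_mul, Matrix.mul_assoc, ← pow_add, two_mul]
  have h2 : ((((A - 1) ^ s)ᵀ * G * (A - 1) ^ s) * A ^ s).rank =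
      (((A - 1) ^ s)ᵀ * G * (A - 1) ^ s).rank :=
    Matrix.rank_mul_eq_left_of_isUnit_det _ _ (by rw [Matrix.det_pow]; exact hA.pow s)
  have h3 : (((-1 : F) ^ s • G) * (A - 1) ^ (2 * s)).rank = ((A - 1) ^ (2 * s)).rank := by
    apply Matrix.rank_mul_eq_right_of_isUnit_det
    rw [Matrix.det_smul]
    exact ((isUnit_iff_ne_zero.mpr (pow_ne_zero _ (neg_ne_zero.mpr one_ne_zero))).pow _).mul hG
  rw [← h3, ← h1, h2]
  exact hT

/-- for a unipotent isometry `A` of a symmetric form in odd characteristic, the odd powers of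
`A - 1` have even rank -/
theorem even_rank_odd_pow (G A : Matrix n n F) (hG : IsUnit G.det) (h : Aᵀ * G * A = G)
    (hsymm : Gᵀ = G) (h2 : (2 : F) ≠ 0) (hnil : IsNilpotent (A - 1)) (s : ℕ) :
    Even (((A - 1) ^ (2 * s + 1)).rank) := by
  have hA := isUnit_det_of_isometry G A hG h
  have hA1 : IsUnit (A + 1).det := by
    rw [← Matrix.isUnit_iff_isUnit_det]
    have hu : IsUnit ((2 : F) • (1 : Matrix n n F)) := by
      rw [Matrix.isUnit_iff_isUnit_det, Matrix.det_smul, Matrix.det_one, mul_one]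
      exact (isUnit_iff_ne_zero.mpr h2).pow _
    have hcomm : Commute (A - 1) ((2 : F) • (1 : Matrix n n F)) :=
      (Commute.one_right _).smul_right _
    have h3 := hnil.isUnit_add_left_of_commute hu hcomm
    have e : (2 : F) • (1 : Matrix n n F) + (A - 1) = A + 1 := by
      rw [two_smul]
      abel
    rwa [e] at h3
  have hc : ∀ a b : ℕ, (A - 1) ^ a * A ^ b = A ^ b * (A - 1) ^ a := by
    intro a b
    have : Commute (A - 1) A := (Commute.refl A).sub_left (Commute.one_left A)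
    exact (this.pow_pow a b).eq
  have hT : Even ((((A - 1) ^ s)ᵀ * G * (A - 1) ^ (s + 1) -
      ((A - 1) ^ (s + 1))ᵀ * G * (A - 1) ^ s).rank) := by
    apply Cfsg.Agent.Lib.Helper40.AltRank.even_rank_of_alt
    intro v
    have hskew : (((A - 1) ^ s)ᵀ * G * (A - 1) ^ (s + 1) -
        ((A - 1) ^ (s + 1))ᵀ * G * (A - 1) ^ s)ᵀ =
        -(((A - 1) ^ s)ᵀ * G * (A - 1) ^ (s + 1) - ((A - 1) ^ (s + 1))ᵀ * G * (A - 1) ^ s) := by
      rw [Matrix.transpose_sub, Matrix.transpose_mul, Matrix.transpose_mul, Matrix.transpose_mul,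
        Matrix.transpose_mul, Matrix.transpose_transpose, Matrix.transpose_transpose, hsymm,
        neg_sub]
      simp only [Matrix.mul_assoc]
    have h4 : v ⬝ᵥ ((((A - 1) ^ s)ᵀ * G * (A - 1) ^ (s + 1) -
        ((A - 1) ^ (s + 1))ᵀ * G * (A - 1) ^ s) *ᵥ v) =
        -(v ⬝ᵥ ((((A - 1) ^ s)ᵀ * G * (A - 1) ^ (s + 1) -
        ((A - 1) ^ (s + 1))ᵀ * G * (A - 1) ^ s) *ᵥ v)) := by
      conv_lhs => rw [Matrix.dotProduct_mulVec, ← Matrix.mulVec_transpose, hskew, Matrix.neg_mulVec,
        neg_dotProduct, dotProduct_comm]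
    have h5 : (2 : F) * (v ⬝ᵥ ((((A - 1) ^ s)ᵀ * G * (A - 1) ^ (s + 1) -
        ((A - 1) ^ (s + 1))ᵀ * G * (A - 1) ^ s) *ᵥ v)) = 0 := by
      linear_combination h4
    rcases mul_eq_zero.mp h5 with h6 | h6
    · exact absurd h6 h2
    · exact h6
  have h1 : (((A - 1) ^ s)ᵀ * G * (A - 1) ^ (s + 1) -
      ((A - 1) ^ (s + 1))ᵀ * G * (A - 1) ^ s) * A ^ (s + 1) =
      ((-1 : F) ^ s • G) * (A - 1) ^ (2 * s + 1) * (A + 1) := by
    have ha : ((A - 1) ^ s)ᵀ * G * (A - 1) ^ (s + 1) * A ^ (s + 1) =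
        ((-1 : F) ^ s • G) * (A - 1) ^ (2 * s + 1) * A := by
      rw [Matrix.mul_assoc, hc, pow_succ A s, Matrix.transpose_pow]
      calc ((A - 1)ᵀ) ^ s * G * (A ^ s * A * (A - 1) ^ (s + 1))
          = (((A - 1)ᵀ) ^ s * G * A ^ s) * (A * (A - 1) ^ (s + 1)) := by
            simp only [Matrix.mul_assoc]
        _ = ((-1 : F) ^ s • (G * (A - 1) ^ s)) * ((A - 1) ^ (s + 1) * A) := by
            rw [key_rel G A h s]
            have := hc (s + 1) 1
            rw [pow_one] at this
            rw [this]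
        _ = ((-1 : F) ^ s • G) * (A - 1) ^ (2 * s + 1) * A := by
            have e1 : s + (s + 1) = 2 * s + 1 := by omega
            rw [Matrix.smul_mul, Matrix.smul_mul, Matrix.smul_mul, ← Matrix.mul_assoc,
              Matrix.mul_assoc G, ← pow_add, e1]
    have hb : ((A - 1) ^ (s + 1))ᵀ * G * (A - 1) ^ s * A ^ (s + 1) =
        -(((-1 : F) ^ s • G) * (A - 1) ^ (2 * s + 1)) := by
      have e1 : s + 1 + s = 2 * s + 1 := by omega
      rw [Matrix.mul_assoc, hc, ← Matrix.mul_assoc, Matrix.transpose_pow, key_rel G A h (s + 1),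
        Matrix.smul_mul, Matrix.smul_mul, Matrix.mul_assoc, ← pow_add, pow_succ (-1 : F),
        mul_neg_one, neg_smul, e1]
    rw [Matrix.sub_mul, ha, hb, Matrix.mul_add, Matrix.mul_one, sub_neg_eq_add]
  have h2' : ((((A - 1) ^ s)ᵀ * G * (A - 1) ^ (s + 1) -
      ((A - 1) ^ (s + 1))ᵀ * G * (A - 1) ^ s) * A ^ (s + 1)).rank =
      (((A - 1) ^ s)ᵀ * G * (A - 1) ^ (s + 1) - ((A - 1) ^ (s + 1))ᵀ * G * (A - 1) ^ s).rank :=
    Matrix.rank_mul_eq_left_of_isUnit_det _ _ (by rw [Matrix.det_pow]; exact hA.pow _)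
  have h3 : (((-1 : F) ^ s • G) * (A - 1) ^ (2 * s + 1) * (A + 1)).rank =
      ((A - 1) ^ (2 * s + 1)).rank := by
    rw [Matrix.rank_mul_eq_left_of_isUnit_det _ _ hA1]
    apply Matrix.rank_mul_eq_right_of_isUnit_det
    rw [Matrix.det_smul]
    exact ((isUnit_iff_ne_zero.mpr (pow_ne_zero _ (neg_ne_zero.mpr one_ne_zero))).pow _).mul hG
  rw [← h3, ← h1, h2']
  exact hT

end necessity

/-- multiplicity of a block size from the rank sequence -/
theorem count_of_sums {κ : Type*} [Fintype κ] [DecidableEq κ] (d : κ → ℕ) (j : ℕ) :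
    ∑ k, (d k - j) + ∑ k, (d k - (j + 2)) =
      2 * ∑ k, (d k - (j + 1)) + (Finset.univ.filter (fun k => d k = j + 1)).card :=
  sum_key d j

end Cfsg.Agent.Lib.Helper95.JType
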