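import Mathlib
import Cfsg.Agent.Lib.Helper95.JType
import Cfsg.Agent.S0752

set_option autoImplicit false

namespace Cfsg.Agent.Lib.Helper95.JAsm

open Module Matrix Cfsg.Agent.Lib.Helper95.NilJordan Cfsg.Agent.Lib.Helper95.JType

universe u

variable {F : Type u} [Field F]

/-- combinatorial assembly of a Jordan type from pairs and allowed single blocks -/
theorem assemble (Good : (ℕ → ℕ) → Prop) (P : ℕ → Prop)
    (hzero : Good (fun _ => 0))
    (hadd : ∀ ρ ρ', Good ρ → Good ρ' → Good (fun i => ρ i + ρ' i))
    (hpair : ∀ j, 0 < j → Good (fun i => 2 * (j - i)))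
    (hsingle : ∀ j, 0 < j → P j → Good (fun i => j - i))
    {κ : Type*} [DecidableEq κ] (d : κ → ℕ) :
    ∀ S : Finset κ, (∀ k ∈ S, 0 < d k) →
      (∀ j, ¬ P j → Even (S.filter (fun k => d k = j)).card) →
      Good (fun i => ∑ k ∈ S, (d k - i)) := by
  classical
  intro S
  induction S using Finset.strongInduction with
  | H S ih =>
    intro hpos hpar
    rcases S.eq_empty_or_nonempty with rfl | ⟨k0, hk0⟩
    · simpa using hzero
    · by_cases hP : P (d k0)
      · have h1 := ih (S.erase k0) (Finset.erase_ssubset hk0)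
          (fun k hk => hpos k (Finset.mem_of_mem_erase hk)) (fun j hj => by
            have : (S.erase k0).filter (fun k => d k = j) = S.filter (fun k => d k = j) := by
              ext k
              simp only [Finset.mem_filter, Finset.mem_erase]
              constructor
              · rintro ⟨⟨_, hk⟩, hd⟩
                exact ⟨hk, hd⟩
              · rintro ⟨hk, hd⟩
                refine ⟨⟨?_, hk⟩, hd⟩
                rintro rfl
                exact hj (hd ▸ hP)
            rw [this]
            exact hpar j hj)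
        have h2 := hadd _ _ (hsingle (d k0) (hpos k0 hk0) hP) h1
        have e : (fun i => ∑ k ∈ S, (d k - i)) =
            (fun i => (d k0 - i) + ∑ k ∈ S.erase k0, (d k - i)) := by
          funext i
          exact (Finset.add_sum_erase S (fun k => d k - i) hk0).symm
        rw [e]
        exact h2
      · have hev := hpar (d k0) hP
        have hmem : k0 ∈ S.filter (fun k => d k = d k0) := Finset.mem_filter.mpr ⟨hk0, rfl⟩
        have hcard : 1 < (S.filter (fun k => d k = d k0)).card := by
          have hpos' : 0 < (S.filter (fun k => d k = d k0)).card := Finset.card_pos.mpr ⟨k0, hmem⟩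
          obtain ⟨c, hc⟩ := hev
          omega
        obtain ⟨k1, hk1, hne⟩ := Finset.exists_mem_ne hcard k0
        rw [Finset.mem_filter] at hk1
        obtain ⟨hk1S, hdk1⟩ := hk1
        have hk1' : k1 ∈ S.erase k0 := Finset.mem_erase.mpr ⟨hne, hk1S⟩
        have hss : (S.erase k0).erase k1 ⊂ S :=
          lt_trans (Finset.erase_ssubset hk1') (Finset.erase_ssubset hk0)
        have h1 := ih _ hss
          (fun k hk => hpos k (Finset.mem_of_mem_erase (Finset.mem_of_mem_erase hk))) (fun j hj => by
            by_cases hjd : j = d k0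
            · subst hjd
              have : ((S.erase k0).erase k1).filter (fun k => d k = d k0) =
                  ((S.filter (fun k => d k = d k0)).erase k0).erase k1 := by
                ext k
                simp only [Finset.mem_filter, Finset.mem_erase]
                tauto
              rw [this, Finset.card_erase_of_mem
                (Finset.mem_erase.mpr ⟨hne, Finset.mem_filter.mpr ⟨hk1S, hdk1⟩⟩),
                Finset.card_erase_of_mem hmem]
              obtain ⟨c, hc⟩ := hev
              rw [hc]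
              exact ⟨c - 1, by omega⟩
            · have : ((S.erase k0).erase k1).filter (fun k => d k = j) =
                  S.filter (fun k => d k = j) := by
                ext k
                simp only [Finset.mem_filter, Finset.mem_erase]
                constructor
                · rintro ⟨⟨_, _, hk⟩, hd⟩
                  exact ⟨hk, hd⟩
                · rintro ⟨hk, hd⟩
                  refine ⟨⟨?_, ?_, hk⟩, hd⟩
                  · rintro rfl
                    exact hjd (by rw [← hd, hdk1])
                  · rintro rfl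
                    exact hjd hd.symm
              rw [this]
              exact hpar j hj)
        have h2 := hadd _ _ (hpair (d k0) (hpos k0 hk0)) h1
        have e : (fun i => ∑ k ∈ S, (d k - i)) =
            (fun i => 2 * (d k0 - i) + ∑ k ∈ (S.erase k0).erase k1, (d k - i)) := by
          funext i
          rw [← Finset.add_sum_erase S (fun k => d k - i) hk0,
            ← Finset.add_sum_erase (S.erase k0) (fun k => d k - i) hk1', hdk1]
          ring
        rw [e]
        exact h2

/-! ### direct sums -/

theorem finrank_range_prodMap {V V' : Type*} [AddCommGroup V] [Module F V]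
    [FiniteDimensional F V] [AddCommGroup V'] [Module F V'] [FiniteDimensional F V']
    (a : Module.End F V) (b : Module.End F V') :
    finrank F (LinearMap.range (a.prodMap b)) =
      finrank F (LinearMap.range a) + finrank F (LinearMap.range b) := by
  have hinj : Function.Injective
      ((LinearMap.range a).subtype.prodMap (LinearMap.range b).subtype) := by
    intro x y h
    have h1 := congrArg Prod.fst h
    have h2 := congrArg Prod.snd h
    simp only [LinearMap.prodMap_apply, Submodule.subtype_apply] at h1 h2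
    exact Prod.ext (Subtype.ext h1) (Subtype.ext h2)
  have hr : LinearMap.range ((LinearMap.range a).subtype.prodMap (LinearMap.range b).subtype) =
      LinearMap.range (a.prodMap b) := by
    rw [LinearMap.range_prodMap, LinearMap.range_prodMap, Submodule.range_subtype,
      Submodule.range_subtype]
  rw [← hr, LinearMap.finrank_range_of_inj hinj, Module.finrank_prod]

theorem prodMap_sub_one {V V' : Type*} [AddCommGroup V] [Module F V] [AddCommGroup V']
    [Module F V'] (a : Module.End F V) (b : Module.End F V') :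
    a.prodMap b - 1 = (a - 1).prodMap (b - 1) := by
  apply LinearMap.ext
  rintro ⟨x, y⟩
  simp [LinearMap.sub_apply, LinearMap.prodMap_apply]

theorem prodMap_pow' {V V' : Type*} [AddCommGroup V] [Module F V] [AddCommGroup V']
    [Module F V'] (a : Module.End F V) (b : Module.End F V') (i : ℕ) :
    (a.prodMap b) ^ i = (a ^ i).prodMap (b ^ i) := by
  induction i with
  | zero =>
    rw [pow_zero, pow_zero, pow_zero]
    exact LinearMap.prodMap_one.symm
  | succ i ih =>
    rw [pow_succ, pow_succ, pow_succ, ih, LinearMap.prodMap_mul]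

theorem rk_prodMap {V V' : Type*} [AddCommGroup V] [Module F V]
    [FiniteDimensional F V] [AddCommGroup V'] [Module F V'] [FiniteDimensional F V']
    (a : Module.End F V) (b : Module.End F V') (i : ℕ) :
    rk (a.prodMap b) i = rk a i + rk b i := by
  rw [rk, prodMap_pow', finrank_range_prodMap]
  rfl

theorem isNilpotent_prodMap {V V' : Type*} [AddCommGroup V] [Module F V] [AddCommGroup V']
    [Module F V'] (a : Module.End F V) (b : Module.End F V') (ha : IsNilpotent a)
    (hb : IsNilpotent b) : IsNilpotent (a.prodMap b) := by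
  obtain ⟨m, hm⟩ := ha
  obtain ⟨m', hm'⟩ := hb
  refine ⟨m + m', ?_⟩
  rw [prodMap_pow', pow_add, hm, zero_mul, pow_add, hm', mul_zero]
  apply LinearMap.ext
  rintro ⟨x, y⟩
  simp

/-! ### alternating forms -/

/-- realisable rank sequences of unipotent isometries of nondegenerate alternating forms -/
def GoodAlt (F : Type u) [Field F] (ρ : ℕ → ℕ) : Prop :=
  ∃ (V : Type u) (_ : AddCommGroup V) (_ : Module F V) (_ : FiniteDimensional F V)
    (f : LinearMap.BilinForm F V) (g : Module.End F V),
    f.IsAlt ∧ (∀ x, (∀ y, f x y = 0) → x = 0) ∧ (∀ x y, f (g x) (g y) = f x y) ∧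
    IsNilpotent (g - 1) ∧ ∀ i, rk (g - 1) i = ρ i

theorem goodAlt_zero : GoodAlt F (fun _ => 0) := by
  refine ⟨PUnit, inferInstance, inferInstance, inferInstance, 0, 1, ?_, ?_, ?_, ?_, ?_⟩
  · intro x
    simp
  · intro x _
    exact Subsingleton.elim _ _
  · intro x y
    simp
  · exact ⟨1, by simp⟩
  · intro i
    rw [rk]
    exact Module.finrank_zero_of_subsingleton

theorem goodAlt_add (ρ ρ' : ℕ → ℕ) (h : GoodAlt F ρ) (h' : GoodAlt F ρ') :
    GoodAlt F (fun i => ρ i + ρ' i) := by
  obtain ⟨V, _, _, _, f, g, hf1, hf2, hf3, hf4, hf5⟩ := h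
  obtain ⟨V', _, _, _, f', g', hf1', hf2', hf3', hf4', hf5'⟩ := h'
  refine ⟨V × V', inferInstance, inferInstance, inferInstance,
    f.compl₁₂ (LinearMap.fst F V V') (LinearMap.fst F V V') +
      f'.compl₁₂ (LinearMap.snd F V V') (LinearMap.snd F V V'), g.prodMap g', ?_, ?_, ?_, ?_, ?_⟩
  · intro x
    simp only [LinearMap.add_apply, LinearMap.compl₁₂_apply, LinearMap.fst_apply,
      LinearMap.snd_apply]
    rw [hf1 x.1, hf1' x.2, add_zero]
  · rintro ⟨x, x'⟩ hx
    have h1 : x = 0 := by
      apply hf2
      intro y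
      have := hx (y, 0)
      simpa [LinearMap.compl₁₂_apply] using this
    have h2 : x' = 0 := by
      apply hf2'
      intro y
      have := hx (0, y)
      simpa [LinearMap.compl₁₂_apply] using this
    rw [h1, h2]
    rfl
  · rintro ⟨x, x'⟩ ⟨y, y'⟩
    simp only [LinearMap.add_apply, LinearMap.compl₁₂_apply, LinearMap.fst_apply,
      LinearMap.snd_apply, LinearMap.prodMap_apply]
    rw [hf3, hf3']
  · rw [prodMap_sub_one]
    exact isNilpotent_prodMap _ _ hf4 hf4'
  · intro i
    rw [prodMap_sub_one, rk_prodMap, hf5, hf5']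

/-! ### shifts and the inverse-transpose partner -/

section shift

/-- the shift `(x_i) ↦ (x_{i-1})` -/
noncomputable def sh (F : Type u) [Field F] (j : ℕ) : Module.End F (Fin j → F) :=
  Matrix.toLin' (shiftM j F)

/-- the transposed shift `(x_i) ↦ (x_{i+1})` -/
noncomputable def sht (F : Type u) [Field F] (j : ℕ) : Module.End F (Fin j → F) :=
  Matrix.toLin' (shiftM j F)ᵀ

/-- the inverse of `1 + sht` -/
noncomputable def wv (F : Type u) [Field F] (j : ℕ) : Module.End F (Fin j → F) :=
  ∑ k ∈ Finset.range j, (-(sht F j)) ^ k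

variable (j : ℕ)

theorem sh_apply (x : Fin j → F) (i : Fin j) :
    sh F j x i = if h : 0 < (i : ℕ) then x ⟨(i : ℕ) - 1, by omega⟩ else 0 := by
  rw [sh, Matrix.toLin'_apply, shiftM_mulVec_apply]

theorem sht_apply (x : Fin j → F) (i : Fin j) :
    sht F j x i = if h : (i : ℕ) + 1 < j then x ⟨(i : ℕ) + 1, h⟩ else 0 := by
  rw [sht, Matrix.toLin'_apply, shiftM_transpose_mulVec_apply]

theorem sh_pow_self : (sh F j) ^ j = 0 := by
  rw [sh, ← Matrix.toLin'_pow, shiftM_pow_self, map_zero]

theorem sht_pow_self : (sht F j) ^ j = 0 := by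
  rw [sht, ← Matrix.toLin'_pow, ← Matrix.transpose_pow, shiftM_pow_self, Matrix.transpose_zero,
    map_zero]

theorem rk_sh (i : ℕ) : rk (sh F j) i = j - i := by
  rw [sh, rk_toLin', rank_shiftM_pow]

theorem rk_sht (i : ℕ) : rk (sht F j) i = j - i := by
  rw [sht, rk_toLin', ← Matrix.transpose_pow, Matrix.rank_transpose, rank_shiftM_pow]

theorem sh_dot (x y : Fin j → F) : (sh F j x) ⬝ᵥ y = x ⬝ᵥ (sht F j y) := by
  rw [sh, sht, Matrix.toLin'_apply, Matrix.toLin'_apply, Matrix.dotProduct_mulVec,
    Matrix.vecMul_transpose]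

theorem one_add_sht_mul_wv : (1 + sht F j) * wv F j = 1 := by
  have h := mul_neg_geom_sum (-(sht F j)) j
  rw [sub_neg_eq_add] at h
  rw [wv, h, neg_pow (sht F j) j, sht_pow_self, mul_zero, sub_zero]

theorem wv_mul_one_add_sht : wv F j * (1 + sht F j) = 1 := by
  have h := geom_sum_mul_neg (-(sht F j)) j
  rw [sub_neg_eq_add] at h
  rw [wv, h, neg_pow (sht F j) j, sht_pow_self, mul_zero, sub_zero]

theorem wv_comm : Commute (sht F j) (wv F j) := by
  unfold wv
  apply Commute.sum_right
  intro k _
  exact ((Commute.refl (sht F j)).neg_right).pow_right k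

theorem wv_sub_one : wv F j - 1 = (-(sht F j)) * wv F j := by
  have h := one_add_sht_mul_wv (F := F) j
  rw [add_mul, one_mul] at h
  have e : (-(sht F j)) * wv F j = -(sht F j * wv F j) := neg_mul (sht F j) (wv F j)
  rw [e, ← h]
  abel

theorem sht_wv_apply (y : Fin j → F) : wv F j y + sht F j (wv F j y) = y := by
  have h := congrArg (fun φ : Module.End F (Fin j → F) => φ y) (one_add_sht_mul_wv (F := F) j)
  simpa [Module.End.mul_apply] using h

theorem wv_sht_apply (y : Fin j → F) : wv F j (y + sht F j y) = y := by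
  have h := congrArg (fun φ : Module.End F (Fin j → F) => φ y) (wv_mul_one_add_sht (F := F) j)
  simpa [Module.End.mul_apply] using h

theorem wv_dot (x y : Fin j → F) : ((1 + sh F j) x) ⬝ᵥ (wv F j y) = x ⬝ᵥ y := by
  rw [LinearMap.add_apply, Module.End.one_apply, add_dotProduct, sh_dot, ← dotProduct_add,
    sht_wv_apply]

theorem wv_fixed_iff (y : Fin j → F) : wv F j y = y ↔ sht F j y = 0 := by
  constructor
  · intro h
    have h1 := sht_wv_apply (F := F) j y
    rw [h] at h1
    exact add_eq_left.mp h1
  · intro h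
    have h1 := wv_sht_apply (F := F) j y
    rw [h, add_zero] at h1
    exact h1

theorem wv_sub_one_pow (i : ℕ) : (wv F j - 1) ^ i = (-(sht F j)) ^ i * (wv F j) ^ i := by
  rw [wv_sub_one]
  exact ((wv_comm (F := F) j).neg_left).mul_pow i

theorem isNilpotent_wv_sub_one : IsNilpotent (wv F j - 1) :=
  ⟨j, by rw [wv_sub_one_pow, neg_pow (sht F j) j, sht_pow_self, mul_zero, zero_mul]⟩

theorem wv_pow_surjective (i : ℕ) : Function.Surjective ((wv F j) ^ i) := by
  have h : (wv F j) ^ i * (1 + sht F j) ^ i = 1 := by
    rw [← ((Commute.one_right (wv F j)).add_right (wv_comm (F := F) j).symm).mul_pow,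
      wv_mul_one_add_sht, one_pow]
  intro y
  refine ⟨((1 + sht F j) ^ i) y, ?_⟩
  have h1 := congrArg (fun φ : Module.End F (Fin j → F) => φ y) h
  simpa [Module.End.mul_apply] using h1

theorem rk_wv_sub_one (i : ℕ) : rk (wv F j - 1) i = j - i := by
  rw [rk, wv_sub_one_pow, ← rk_sht (F := F) j i, rk]
  have h1 : LinearMap.range ((-(sht F j)) ^ i * (wv F j) ^ i) =
      LinearMap.range ((-(sht F j)) ^ i) := by
    rw [Module.End.mul_eq_comp, LinearMap.range_comp,
      LinearMap.range_eq_top.mpr (wv_pow_surjective (F := F) j i), Submodule.map_top]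
  have h2 : LinearMap.range ((-(sht F j)) ^ i) = LinearMap.range ((sht F j) ^ i) := by
    rw [neg_pow (sht F j) i, ← smul_eq_mul]
    have : ((-1 : Module.End F (Fin j → F)) ^ i) • (sht F j) ^ i =
        ((-1 : F) ^ i) • (sht F j) ^ i := by
      apply LinearMap.ext
      intro x
      rw [smul_eq_mul, Module.End.mul_apply, LinearMap.smul_apply]
      have hh : ∀ (m : ℕ) (z : Fin j → F),
          (((-1 : Module.End F (Fin j → F)) ^ m) z) = ((-1 : F) ^ m) • z := by
        intro m
        induction m with
        | zero => intro z; simp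
        | succ m ih =>
          intro z
          rw [pow_succ, Module.End.mul_apply, ih, pow_succ]
          simp
      exact hh i _
    rw [this]
    exact LinearMap.range_smul _ _ (pow_ne_zero _ (neg_ne_zero.mpr one_ne_zero))
  rw [h1, h2]

end shift

/-! ### block-triangular nilpotency -/

theorem isNilpotent_of_triangular {X Y : Type*} [AddCommGroup X] [Module F X] [AddCommGroup Y]
    [Module F Y] (N : Module.End F (X × Y)) (a : Module.End F X) (b : Module.End F Y)
    (h2 : ∀ p, (N p).2 = b p.2) (h1 : ∀ x, N (x, 0) = (a x, 0)) (ha : IsNilpotent a)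
    (hb : IsNilpotent b) : IsNilpotent N := by
  obtain ⟨m, hm⟩ := ha
  obtain ⟨m', hm'⟩ := hb
  have e2 : ∀ (i : ℕ) (p : X × Y), ((N ^ i) p).2 = (b ^ i) p.2 := by
    intro i
    induction i with
    | zero => intro p; simp
    | succ i ih =>
      intro p
      rw [pow_succ', Module.End.mul_apply, h2, ih, pow_succ', Module.End.mul_apply]
  have e1 : ∀ (i : ℕ) (x : X), (N ^ i) (x, 0) = ((a ^ i) x, 0) := by
    intro i
    induction i with
    | zero => intro x; simp
    | succ i ih =>
      intro x
      rw [pow_succ', Module.End.mul_apply, ih, h1, pow_succ', Module.End.mul_apply]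
  refine ⟨m + m', ?_⟩
  apply LinearMap.ext
  intro p
  rw [pow_add, Module.End.mul_apply]
  have h3 : (N ^ m') p = (((N ^ m') p).1, 0) := by
    apply Prod.ext
    · rfl
    · show ((N ^ m') p).2 = 0
      rw [e2, hm']
      rfl
  rw [h3, e1, hm]
  rfl

/-! ### alternating pieces -/

section altpieces

/-- the standard alternating form on `F^j × F^j` -/
noncomputable def altF (F : Type u) [Field F] (j : ℕ) :
    LinearMap.BilinForm F ((Fin j → F) × (Fin j → F)) :=
  LinearMap.mk₂ F (fun p q => p.1 ⬝ᵥ q.2 - q.1 ⬝ᵥ p.2)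
    (by
      intro p p' q
      simp only [Prod.fst_add, Prod.snd_add, add_dotProduct, dotProduct_add]
      ring)
    (by
      intro c p q
      simp only [Prod.smul_fst, Prod.smul_snd, smul_dotProduct, dotProduct_smul, smul_eq_mul]
      ring)
    (by
      intro p q q'
      simp only [Prod.fst_add, Prod.snd_add, add_dotProduct, dotProduct_add]
      ring)
    (by
      intro c p q
      simp only [Prod.smul_fst, Prod.smul_snd, smul_dotProduct, dotProduct_smul, smul_eq_mul]
      ring)

variable (j : ℕ)

theorem altF_apply (p q : (Fin j → F) × (Fin j → F)) :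
    altF F j p q = p.1 ⬝ᵥ q.2 - q.1 ⬝ᵥ p.2 := rfl

theorem altF_isAlt : (altF F j).IsAlt := fun p => by rw [altF_apply, sub_self]

theorem altF_sep (p : (Fin j → F) × (Fin j → F)) (h : ∀ q, altF F j p q = 0) : p = 0 := by
  obtain ⟨x, y⟩ := p
  have hx : x = 0 := by
    funext i
    have := h (0, Pi.single i 1)
    rw [altF_apply] at this
    simpa using this
  have hy : y = 0 := by
    funext i
    have := h (Pi.single i 1, 0)
    rw [altF_apply] at this
    simpa using this
  rw [hx, hy]
  rfl

/-- the pair element `(1 + S, (1 + Sᵀ)⁻¹)` -/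
noncomputable def gpair (F : Type u) [Field F] (j : ℕ) :
    Module.End F ((Fin j → F) × (Fin j → F)) := (1 + sh F j).prodMap (wv F j)

theorem gpair_apply (p : (Fin j → F) × (Fin j → F)) :
    gpair F j p = (p.1 + sh F j p.1, wv F j p.2) := rfl

theorem gpair_isom (p q : (Fin j → F) × (Fin j → F)) :
    altF F j (gpair F j p) (gpair F j q) = altF F j p q := by
  rw [altF_apply, altF_apply]
  simp only [gpair, LinearMap.prodMap_apply]
  rw [wv_dot, wv_dot]

theorem gpair_sub_one : gpair F j - 1 = (sh F j).prodMap (wv F j - 1) := by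
  rw [gpair, prodMap_sub_one, add_sub_cancel_left]

theorem isNilpotent_gpair : IsNilpotent (gpair F j - 1) := by
  rw [gpair_sub_one]
  exact isNilpotent_prodMap _ _ ⟨j, sh_pow_self j⟩ (isNilpotent_wv_sub_one j)

theorem rk_gpair (i : ℕ) : rk (gpair F j - 1) i = 2 * (j - i) := by
  rw [gpair_sub_one, rk_prodMap, rk_sh, rk_wv_sub_one]
  ring

theorem goodAlt_pair : GoodAlt F (fun i => 2 * (j - i)) :=
  ⟨_, inferInstance, inferInstance, inferInstance, altF F j, gpair F j, altF_isAlt j, altF_sep j,
    gpair_isom j, isNilpotent_gpair j, rk_gpair j⟩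

/-- the transvection `(x, y) ↦ (x + y₀ e₀, y)` -/
noncomputable def tauL (F : Type u) [Field F] (j : ℕ) (hj : 0 < j) :
    Module.End F ((Fin j → F) × (Fin j → F)) :=
  LinearMap.prod (LinearMap.fst F _ _ +
    (LinearMap.toSpanSingleton F (Fin j → F) (Pi.single (⟨0, hj⟩ : Fin j) (1 : F))).comp
      ((LinearMap.proj (⟨0, hj⟩ : Fin j)).comp (LinearMap.snd F _ _))) (LinearMap.snd F _ _)

theorem tauL_apply (hj : 0 < j) (p : (Fin j → F) × (Fin j → F)) :
    tauL F j hj p = (p.1 + p.2 ⟨0, hj⟩ • Pi.single (⟨0, hj⟩ : Fin j) (1 : F), p.2) := rfl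

theorem tauL_isom (hj : 0 < j) (p q : (Fin j → F) × (Fin j → F)) :
    altF F j (tauL F j hj p) (tauL F j hj q) = altF F j p q := by
  rw [altF_apply, altF_apply, tauL_apply, tauL_apply]
  simp only [add_dotProduct, smul_dotProduct, single_dotProduct, one_mul, smul_eq_mul]
  ring

/-- the single-block element -/
noncomputable def gsing (F : Type u) [Field F] (j : ℕ) (hj : 0 < j) :
    Module.End F ((Fin j → F) × (Fin j → F)) := gpair F j * tauL F j hj

theorem gsing_apply (hj : 0 < j) (p : (Fin j → F) × (Fin j → F)) :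
    gsing F j hj p = ((p.1 + p.2 ⟨0, hj⟩ • Pi.single (⟨0, hj⟩ : Fin j) (1 : F)) +
      sh F j (p.1 + p.2 ⟨0, hj⟩ • Pi.single (⟨0, hj⟩ : Fin j) (1 : F)), wv F j p.2) := rfl

theorem gsing_isom (hj : 0 < j) (p q : (Fin j → F) × (Fin j → F)) :
    altF F j (gsing F j hj p) (gsing F j hj q) = altF F j p q := by
  rw [gsing, Module.End.mul_apply, Module.End.mul_apply, gpair_isom, tauL_isom]

theorem isNilpotent_gsing (hj : 0 < j) : IsNilpotent (gsing F j hj - 1) := by
  apply isNilpotent_of_triangular (gsing F j hj - 1) (sh F j) (wv F j - 1)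
  · intro p
    rw [LinearMap.sub_apply, gsing_apply]
    rfl
  · intro x
    rw [LinearMap.sub_apply, gsing_apply]
    simp
  · exact ⟨j, sh_pow_self j⟩
  · exact isNilpotent_wv_sub_one j

theorem sh_single_last (hj : 0 < j) :
    sh F j (Pi.single (⟨j - 1, by omega⟩ : Fin j) (1 : F)) = 0 := by
  funext i
  rw [sh_apply]
  split_ifs with h
  · rw [Pi.single_eq_of_ne]
    · rfl
    · intro hh
      have := congrArg Fin.val hh
      simp only at this
      have := i.2
      omega
  · rfl

theorem ker_gsing (hj : 0 < j) :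
    LinearMap.ker (gsing F j hj - 1) =
      Submodule.span F {((Pi.single (⟨j - 1, by omega⟩ : Fin j) (1 : F), 0) :
        (Fin j → F) × (Fin j → F))} := by
  apply le_antisymm
  · rintro ⟨x, y⟩ hp
    rw [LinearMap.mem_ker, LinearMap.sub_apply, sub_eq_zero, gsing_apply] at hp
    have hp1 := congrArg Prod.fst hp
    have hp2 := congrArg Prod.snd hp
    simp only [Module.End.one_apply] at hp1 hp2
    have hy1 : sht F j y = 0 := (wv_fixed_iff j y).mp hp2
    have hy0 : y ⟨0, hj⟩ = 0 := by
      have h0 := congrFun hp1 ⟨0, hj⟩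
      rw [Pi.add_apply, Pi.add_apply, sh_apply, dif_neg (by simp)] at h0
      simpa using h0
    have hy : y = 0 := by
      funext i
      by_cases hi : (i : ℕ) = 0
      · have : i = ⟨0, hj⟩ := Fin.ext hi
        rw [this, hy0]
        rfl
      · have h1 := congrFun hy1 ⟨(i : ℕ) - 1, by omega⟩
        rw [sht_apply, dif_pos (by simp only; omega)] at h1
        have e : (⟨(i : ℕ) - 1 + 1, by omega⟩ : Fin j) = i := by
          apply Fin.ext
          show (i : ℕ) - 1 + 1 = (i : ℕ)
          omega
        rw [e] at h1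
        exact h1
    have hx : sh F j x = 0 := by
      rw [hy0, zero_smul, add_zero] at hp1
      exact add_eq_left.mp hp1
    have hx' : ∀ i : Fin j, (i : ℕ) + 1 < j → x i = 0 := by
      intro i hi
      have h1 := congrFun hx ⟨(i : ℕ) + 1, hi⟩
      rw [sh_apply, dif_pos (by simp)] at h1
      simpa using h1
    rw [Submodule.mem_span_singleton]
    refine ⟨x ⟨j - 1, by omega⟩, ?_⟩
    rw [hy]
    apply Prod.ext
    · funext i
      simp only [Prod.smul_fst, Pi.smul_apply, smul_eq_mul]
      by_cases hi : (i : ℕ) + 1 < j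
      · rw [hx' i hi, Pi.single_eq_of_ne, mul_zero]
        intro hh
        have := congrArg Fin.val hh
        simp only at this
        omega
      · have : i = ⟨j - 1, by omega⟩ := by
          apply Fin.ext
          simp only
          have := i.2
          omega
        rw [this, Pi.single_eq_same, mul_one]
    · simp
  · rw [Submodule.span_singleton_le_iff_mem, LinearMap.mem_ker, LinearMap.sub_apply, sub_eq_zero,
      gsing_apply]
    simp only [Module.End.one_apply, Pi.zero_apply, zero_smul, add_zero, map_zero]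
    rw [sh_single_last j hj, add_zero]

theorem rk_gsing (hj : 0 < j) (i : ℕ) : rk (gsing F j hj - 1) i = (j + j) - i := by
  have hker : finrank F (LinearMap.ker (gsing F j hj - 1)) = 1 := by
    rw [ker_gsing]
    apply finrank_span_singleton
    intro hh
    have h1 := congrFun (congrArg Prod.fst hh) ⟨j - 1, by omega⟩
    simp at h1
  rw [rk_of_ker_one _ (isNilpotent_gsing j hj) hker, Module.finrank_prod, Module.finrank_fin_fun]

theorem goodAlt_single (hj : 0 < j) : GoodAlt F (fun i => (j + j) - i) :=
  ⟨_, inferInstance, inferInstance, inferInstance, altF F j, gsing F j hj, altF_isAlt j,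
    altF_sep j, gsing_isom j hj, isNilpotent_gsing j hj, rk_gsing j hj⟩

/-- every Jordan type whose odd parts have even multiplicity is realised by a unipotent isometry
of a nondegenerate alternating form -/
theorem goodAlt_of_parity {κ : Type*} [Fintype κ] [DecidableEq κ] (d : κ → ℕ)
    (hd : ∀ k, 0 < d k)
    (hpar : ∀ j : ℕ, Odd j → Even (Finset.univ.filter (fun k => d k = j)).card) :
    GoodAlt F (fun i => ∑ k, (d k - i)) := by
  refine assemble (GoodAlt F) Even goodAlt_zero goodAlt_add (fun j _ => goodAlt_pair j) ?_ d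
    Finset.univ (fun k _ => hd k) (fun j hj => hpar j (Nat.not_even_iff_odd.mp hj))
  rintro j hj ⟨c, rfl⟩
  exact goodAlt_single c (by omega)

end altpieces

/-! ### transport to matrices -/

section transport

theorem toMatrix_sub_one_pow {ι : Type*} [Fintype ι] [DecidableEq ι] {V : Type*} [AddCommGroup V]
    [Module F V] (b : Basis ι F V) (g : Module.End F V) (i : ℕ) :
    (LinearMap.toMatrix b b g - 1) ^ i = LinearMap.toMatrix b b ((g - 1) ^ i) := by
  have h := map_pow (LinearMap.toMatrixAlgEquiv b) (g - 1) i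
  rw [map_sub, map_one] at h
  exact h.symm

theorem rank_toMatrix_pow {ι : Type*} [Fintype ι] [DecidableEq ι] {V : Type*} [AddCommGroup V]
    [Module F V] (b : Basis ι F V) (g : Module.End F V) (i : ℕ) :
    ((LinearMap.toMatrix b b g - 1) ^ i).rank = rk (g - 1) i := by
  rw [toMatrix_sub_one_pow, Matrix.rank_eq_finrank_range_toLin _ b b, Matrix.toLin_toMatrix]
  rfl

theorem isNilpotent_toMatrix {ι : Type*} [Fintype ι] [DecidableEq ι] {V : Type*} [AddCommGroup V]
    [Module F V] (b : Basis ι F V) (g : Module.End F V) (h : IsNilpotent (g - 1)) :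
    IsNilpotent (LinearMap.toMatrix b b g - 1) := by
  obtain ⟨c, hc⟩ := h
  exact ⟨c, by rw [toMatrix_sub_one_pow, hc, map_zero]⟩

theorem rank_pow_of_isConj {α β : Type} [Fintype α] [DecidableEq α] [Fintype β] [DecidableEq β]
    (X : Matrix α α F) (Y : Matrix β β F) (e : α ≃ β) (h : IsConj (Matrix.reindex e e X) Y)
    (i : ℕ) : ((Y - 1) ^ i).rank = ((X - 1) ^ i).rank := by
  obtain ⟨c, hc⟩ := h
  have h1 : (c : Matrix β β F) * (Matrix.reindex e e X - 1) ^ i = (Y - 1) ^ i * c := by
    have hs : SemiconjBy (c : Matrix β β F) (Matrix.reindex e e X - 1) (Y - 1) :=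
      hc.sub_right (SemiconjBy.one_right _)
    exact (hs.pow_right i).eq
  have hdet : IsUnit (c : Matrix β β F).det := (Matrix.isUnit_iff_isUnit_det _).mp c.isUnit
  have h2 : ((Y - 1) ^ i).rank = ((Matrix.reindex e e X - 1) ^ i).rank := by
    rw [← Matrix.rank_mul_eq_left_of_isUnit_det (c : Matrix β β F) ((Y - 1) ^ i) hdet, ← h1,
      Matrix.rank_mul_eq_right_of_isUnit_det _ _ hdet]
  rw [h2]
  have h3 : (Matrix.reindex e e X - 1) ^ i = Matrix.reindex e e ((X - 1) ^ i) := by
    have := map_pow (Matrix.reindexAlgEquiv F F e) (X - 1) i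
    rw [map_sub, map_one] at this
    simp only [Matrix.coe_reindexAlgEquiv] at this
    exact this.symm
  rw [h3, Matrix.rank_reindex]

theorem J_alt (m : ℕ) (v : Fin m ⊕ Fin m → F) : v ⬝ᵥ (Matrix.J (Fin m) F *ᵥ v) = 0 := by
  rw [Matrix.J, Matrix.fromBlocks_mulVec]
  simp only [dotProduct, Fintype.sum_sum_type, Sum.elim_inl, Sum.elim_inr, Matrix.zero_mulVec,
    Matrix.neg_mulVec, Matrix.one_mulVec, zero_add, add_zero, Pi.neg_apply, Function.comp_apply]
  rw [← Finset.sum_add_distrib]
  apply Finset.sum_eq_zero
  intro i _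
  ring

theorem even_rank_symp (m : ℕ) (A : Matrix (Fin m ⊕ Fin m) (Fin m ⊕ Fin m) F)
    (hA : A ∈ Matrix.symplecticGroup (Fin m) F) (s : ℕ) : Even (((A - 1) ^ (2 * s)).rank) :=
  even_rank_even_pow (Matrix.J (Fin m) F) A (Matrix.isUnit_det_J _ _)
    (SymplecticGroup.mem_iff'.mp hA) (J_alt m) s

theorem exists_symp_of_goodAlt (m : ℕ) (ρ : ℕ → ℕ) (h : GoodAlt F ρ) (h0 : ρ 0 = 2 * m) :
    ∃ A : Matrix (Fin m ⊕ Fin m) (Fin m ⊕ Fin m) F, A ∈ Matrix.symplecticGroup (Fin m) F ∧
      IsNilpotent (A - 1) ∧ ∀ i, ((A - 1) ^ i).rank = ρ i := by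
  classical
  obtain ⟨V, _, _, _, f, g, hf1, hf2, hf3, hf4, hf5⟩ := h
  obtain ⟨m', k', b, h11, h12, h13, h14⟩ := Cfsg.Agent.S0752.result f hf1
  have hk : k' = 0 := by
    by_contra hk
    obtain ⟨k, rfl⟩ := Nat.exists_eq_succ_of_ne_zero hk
    exact b.ne_zero (Sum.inr 0) (hf2 _ (fun v => h14 0 v))
  subst hk
  have hdim : finrank F V = 2 * m := by
    rw [← h0, ← hf5 0, rk, pow_zero]
    have : LinearMap.range (1 : Module.End F V) = ⊤ := LinearMap.range_id
    rw [this, finrank_top]
  have hm : m' = m := by
    have e1 := Module.finrank_eq_card_basis b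
    simp only [Fintype.card_sum, Fintype.card_fin] at e1
    omega
  subst hm
  obtain ⟨b', hb'⟩ : ∃ b' : Basis (Fin m' ⊕ Fin m') F V, ∀ x, b' x = b (Sum.inl x) :=
    ⟨b.reindex (Equiv.sumEmpty _ _), fun x => by simp⟩
  refine ⟨LinearMap.toMatrix b' b' g, ?_, isNilpotent_toMatrix b' g hf4, fun i => by
    rw [rank_toMatrix_pow, hf5]⟩
  rw [SymplecticGroup.mem_iff']
  have hG : LinearMap.BilinForm.toMatrix b' f = -(Matrix.J (Fin m') F) := by
    ext a c
    rw [LinearMap.BilinForm.toMatrix_apply, hb', hb']
    rcases a with a | a <;> rcases c with c | c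
    · simp [Matrix.J, h12]
    · simp [Matrix.J, h11, Matrix.one_apply]
    · have := hf1.neg_eq (b (Sum.inl (Sum.inr a))) (b (Sum.inl (Sum.inl c)))
      have h' : f (b (Sum.inl (Sum.inr a))) (b (Sum.inl (Sum.inl c))) =
          -(if c = a then (1 : F) else 0) := by
        rw [← h11 c a, ← this, neg_neg]
      rw [h']
      simp [Matrix.J, Matrix.one_apply, eq_comm]
    · simp [Matrix.J, h13]
  have hcomp : f.comp g g = f := by
    apply LinearMap.ext
    intro x
    apply LinearMap.ext
    intro y
    simp [hf3]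
  have h1 := LinearMap.BilinForm.toMatrix_comp b' b' f g g
  rw [hcomp, hG] at h1
  have h2 := congrArg Neg.neg h1
  rw [neg_neg, Matrix.mul_neg, Matrix.neg_mul, neg_neg] at h2
  exact h2.symm

end transport

end Cfsg.Agent.Lib.Helper95.JAsm
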