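import Mathlib
import Cfsg.Agent.Lib.Helper25.AICSpec
import Cfsg.Agent.Lib.Helper39.CTExc
import Cfsg.Agent.Lib.Helper39.CTGroup
import Cfsg.Agent.Lib.CT.ClassMult

/-!
The character-theoretic step of S2202: an abelian TI-subgroup `C` satisfying `CharSet`
has exponent two (exceptional characters and class constants; adapted from
`Cfsg.Agent.Lib.Helper39.CTFinal`).
-/

set_option autoImplicit false

namespace Cfsg.Agent.Lib.Helper95.AICCharProp

open Cfsg Subgroup
open Cfsg.Agent.Lib.CT.FrobRec Cfsg.Agent.Lib.CT.Orth Cfsg.Agent.Lib.CT.Wedderburn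
open Cfsg.Agent.Lib.CT.ClassMult
open Cfsg.Agent.Lib.Helper17.ExcOrb Cfsg.Agent.Lib.Helper17.ExcMain
open Cfsg.Agent.Lib.Helper39.CTExc
open Cfsg.Agent.Lib.Helper25.AICSpec (CharSet ecard CharNum CharPairs CharProp)
open scoped ComplexConjugate

universe u

open scoped Classical in
/-- The elements of `C` of square one. -/
noncomputable def Vs {G : Type u} [Group G] [Fintype G] (C : Subgroup G) : Finset G :=
  Finset.univ.filter (fun u : G => u ∈ C ∧ u ^ 2 = 1)

section

variable {G : Type u} [Group G] [Fintype G]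

theorem mem_Vs {C : Subgroup G} {u : G} : u ∈ Vs C ↔ u ∈ C ∧ u ^ 2 = 1 := by
  classical
  rw [Vs, Finset.mem_filter]
  simp

theorem one_mem_Vs (C : Subgroup G) : (1 : G) ∈ Vs C := mem_Vs.mpr ⟨one_mem _, one_pow 2⟩

theorem mul_mem_Vs {C : Subgroup G} (hcomm : ∀ a b : G, a ∈ C → b ∈ C → a * b = b * a)
    {u v : G} (hu : u ∈ Vs C) (hv : v ∈ Vs C) : u * v ∈ Vs C := by
  rw [mem_Vs] at hu hv ⊢
  refine ⟨mul_mem hu.1 hv.1, ?_⟩
  have hc := hcomm u v hu.1 hv.1
  have huu : u * u = 1 := by rw [← sq]; exact hu.2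
  have hvv : v * v = 1 := by rw [← sq]; exact hv.2
  rw [sq]
  calc u * v * (u * v) = u * (v * u) * v := by group
    _ = u * (u * v) * v := by rw [hc]
    _ = (u * u) * (v * v) := by group
    _ = 1 := by rw [huu, hvv, one_mul]

theorem orderOf_two_iff {u : G} : orderOf u = 2 ↔ u ^ 2 = 1 ∧ u ≠ 1 := by
  haveI : Fact (Nat.Prime 2) := ⟨Nat.prime_two⟩
  exact orderOf_eq_prime_iff

open scoped Classical in
theorem mem_erase_iff {C : Subgroup G} {u : G} :
    u ∈ (Vs C).erase 1 ↔ u ∈ C ∧ orderOf u = 2 := by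
  rw [Finset.mem_erase, mem_Vs, orderOf_two_iff]
  tauto

open scoped Classical in
theorem card_erase (C : Subgroup G) : ((Vs C).erase 1).card = ecard C := by
  have h : ecard C = (Finset.univ.filter (fun t : G => t ∈ C ∧ orderOf t = 2)).card := by
    unfold ecard
    rw [Nat.card_eq_fintype_card, Fintype.card_subtype]
  rw [h]
  congr 1
  ext u
  rw [mem_erase_iff]
  simp

theorem conj_orderOf_two {t : G} (ht : orderOf t = 2) (x : G) : orderOf (x * t * x⁻¹) = 2 := by
  rw [orderOf_two_iff] at ht ⊢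
  refine ⟨?_, ?_⟩
  · have h : (x * t * x⁻¹) ^ 2 = x * t ^ 2 * x⁻¹ := by
      rw [sq, sq]; group
    rw [h, ht.1]; group
  · intro h
    apply ht.2
    have h2 : t = x⁻¹ * (x * t * x⁻¹) * x := by group
    rw [h2, h]; group

open scoped Classical in
/-- Summation over the conjugates of `t` of a function vanishing outside `C`. -/
theorem sum_conj {R : Type*} [CommSemiring R] {C : Subgroup G} {t : G}
    (ht : orderOf t = 2)
    (hfib : ∀ v : G, v ∈ C → orderOf v = 2 →
      Nat.card {x : G // x * t * x⁻¹ = v} = Nat.card C)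
    (E : G → R) (hE : ∀ u, u ∉ C → E u = 0) :
    ∑ x : G, E (x * t * x⁻¹) = (Nat.card C : R) * ∑ u ∈ (Vs C).erase 1, E u := by
  have hmaps : ∀ x ∈ (Finset.univ.filter (fun x : G => x * t * x⁻¹ ∈ C)),
      x * t * x⁻¹ ∈ (Vs C).erase 1 := by
    intro x hx
    rw [Finset.mem_filter] at hx
    rw [mem_erase_iff]
    exact ⟨hx.2, conj_orderOf_two ht x⟩
  calc ∑ x : G, E (x * t * x⁻¹)
      = ∑ x ∈ Finset.univ.filter (fun x : G => x * t * x⁻¹ ∈ C), E (x * t * x⁻¹) := by
        symm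
        apply Finset.sum_filter_of_ne
        intro x _ hx
        by_contra hxC
        exact hx (hE _ hxC)
    _ = ∑ u ∈ (Vs C).erase 1,
          ∑ x ∈ (Finset.univ.filter (fun x : G => x * t * x⁻¹ ∈ C)) with x * t * x⁻¹ = u,
            E (x * t * x⁻¹) :=
        (Finset.sum_fiberwise_of_maps_to hmaps _).symm
    _ = ∑ u ∈ (Vs C).erase 1, (Nat.card C : R) * E u := by
        apply Finset.sum_congr rfl
        intro u hu
        rw [mem_erase_iff] at hu
        have hcard : (Finset.univ.filter (fun g : G => g * t * g⁻¹ = u)).card = Nat.card C := by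
          have h := hfib u hu.1 hu.2
          rw [Nat.card_eq_fintype_card, Fintype.card_subtype] at h
          exact h
        have hfil : (Finset.univ.filter (fun x : G => x * t * x⁻¹ ∈ C)).filter
              (fun x => x * t * x⁻¹ = u)
            = Finset.univ.filter (fun x : G => x * t * x⁻¹ = u) := by
          ext x
          simp only [Finset.mem_filter, Finset.mem_univ, true_and]
          constructor
          · exact fun h => h.2
          · intro h
            exact ⟨by rw [h]; exact hu.1, h⟩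
        rw [hfil, Finset.sum_congr rfl (fun x hx => by rw [(Finset.mem_filter.mp hx).2]),
          Finset.sum_const, hcard, nsmul_eq_mul]
    _ = _ := by rw [Finset.mul_sum]

/-- The value at the involution `t` of a linear character of `C` induced to `G`. -/
theorem indFun_t_cases {C : Subgroup G} (hcomm : ∀ a b : G, a ∈ C → b ∈ C → a * b = b * a)
    {t : G} (ht : orderOf t = 2)
    (hfib : ∀ v : G, v ∈ C → orderOf v = 2 →
      Nat.card {x : G // x * t * x⁻¹ = v} = Nat.card C)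
    (μ : C →* ℂˣ) :
    indFun C (cf μ) t = -1 ∨ indFun C (cf μ) t = ((Vs C).card : ℂ) - 1 := by
  classical
  obtain ⟨E, hE⟩ : ∃ E : G → ℂ, E = extendByZero C (cf μ) := ⟨_, rfl⟩
  have hc0 : ((Nat.card C : ℕ) : ℂ) ≠ 0 := Nat.cast_ne_zero.mpr Nat.card_pos.ne'
  have hEout : ∀ u, u ∉ C → E u = 0 := by
    intro u hu
    rw [hE]
    exact extendByZero_apply_of_not_mem _ _ hu
  have hE1 : E 1 = 1 := by
    rw [hE, extendByZero_apply_of_mem _ _ (one_mem _)]
    exact cf_apply_one μ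
  have hmul : ∀ a b : G, a ∈ C → b ∈ C → E (a * b) = E a * E b := by
    intro a b ha hb
    rw [hE, extendByZero_apply_of_mem _ _ ha, extendByZero_apply_of_mem _ _ hb,
      extendByZero_apply_of_mem _ _ (mul_mem ha hb)]
    have h1 : (⟨a * b, mul_mem ha hb⟩ : C) = ⟨a, ha⟩ * ⟨b, hb⟩ := rfl
    rw [h1, cf_apply, cf_apply, cf_apply, map_mul, Units.val_mul]
  have hval : indFun C (cf μ) t = ∑ u ∈ Vs C, E u - 1 := by
    rw [indFun_apply]
    have hre : ∑ x : G, extendByZero C (cf μ) (x⁻¹ * t * x) = ∑ x : G, E (x * t * x⁻¹) := by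
      rw [hE]
      apply Fintype.sum_equiv (Equiv.inv G)
      intro x
      simp
    rw [hre, sum_conj ht hfib E hEout, ← mul_assoc, inv_mul_cancel₀ hc0, one_mul,
      ← Finset.add_sum_erase _ _ (one_mem_Vs C), hE1]
    ring
  rw [hval]
  by_cases hall : ∀ u ∈ Vs C, E u = 1
  · right
    rw [Finset.sum_congr rfl hall, Finset.sum_const, nsmul_eq_mul, mul_one]
  · left
    push Not at hall
    obtain ⟨v0, hv0, hv0E⟩ := hall
    have hv0v0 : v0 * v0 = 1 := by rw [← sq]; exact (mem_Vs.mp hv0).2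
    have hshift : ∑ u ∈ Vs C, E (v0 * u) = ∑ u ∈ Vs C, E u := by
      apply Finset.sum_equiv (Equiv.mulLeft v0)
      · intro u
        constructor
        · intro hu
          exact mul_mem_Vs hcomm hv0 hu
        · intro hu
          have h1 : u = v0 * (v0 * u) := by rw [← mul_assoc, hv0v0, one_mul]
          rw [h1]
          exact mul_mem_Vs hcomm hv0 hu
      · intro u _
        rfl
    have hfac : ∑ u ∈ Vs C, E (v0 * u) = E v0 * ∑ u ∈ Vs C, E u := by
      rw [Finset.mul_sum]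
      apply Finset.sum_congr rfl
      intro u hu
      exact hmul v0 u (mem_Vs.mp hv0).1 (mem_Vs.mp hu).1
    have hzero : (E v0 - 1) * ∑ u ∈ Vs C, E u = 0 := by
      rw [sub_mul, one_mul, ← hfac, hshift, sub_self]
    rcases mul_eq_zero.mp hzero with h | h
    · exact absurd (sub_eq_zero.mp h) hv0E
    · rw [h]
      ring

end

/-- arithmetic: `b = 0` -/
theorem b_zero {e n : ℕ} {ε b : ℤ} (hε : ε = 1 ∨ ε = -1) (hn2 : e + 2 ≤ n)
    (hineq : (n : ℤ) * b ^ 2 + 1 ≤ (e : ℤ) + 2 * ε * b) : b = 0 := by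
  have hε2 : ε * ε = 1 := by rcases hε with h | h <;> rw [h] <;> norm_num
  obtain ⟨s, hs⟩ : ∃ s : ℤ, s = ε * b := ⟨_, rfl⟩
  have hs2 : s ^ 2 = b ^ 2 := by rw [hs, mul_pow, sq ε, hε2, one_mul]
  have hn2' : ((e : ℤ) + 2) ≤ (n : ℤ) := by exact_mod_cast hn2
  have he0' : (0 : ℤ) ≤ (e : ℤ) := Int.natCast_nonneg e
  have h1 : ((e : ℤ) + 2) * s ^ 2 + 1 ≤ (e : ℤ) + 2 * s := by
    have h2 : ((e : ℤ) + 2) * s ^ 2 ≤ (n : ℤ) * s ^ 2 :=
      mul_le_mul_of_nonneg_right hn2' (sq_nonneg s)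
    rw [hs2] at h2
    rw [hs2]
    have h3 : 2 * ε * b = 2 * s := by rw [hs]; ring
    linarith
  have hs0 : s = 0 := by
    by_contra hne
    rcases lt_or_gt_of_ne hne with h | h
    · have h4 : s ≤ -1 := by omega
      have h5 : 1 ≤ s ^ 2 := by nlinarith
      have h6 := mul_le_mul_of_nonneg_left h5 (by linarith : (0 : ℤ) ≤ (e : ℤ) + 2)
      linarith
    · have h4 : 1 ≤ s := by omega
      have h5 : s ≤ s ^ 2 := by nlinarith
      have h6 := mul_le_mul_of_nonneg_left h5 (by linarith : (0 : ℤ) ≤ (e : ℤ) + 2)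
      have h7 : (e : ℤ) ≤ (e : ℤ) * s := by nlinarith
      linarith
  rw [hs] at hs0
  rcases mul_eq_zero.mp hs0 with h | h
  · rcases hε with h' | h' <;> rw [h'] at h <;> norm_num at h
  · exact h

theorem arith1 {e c : ℕ} (hsq : (e + 1) ^ 2 ≤ c) : 2 * e + 1 ≤ c := by nlinarith

theorem arith2 {e c n : ℕ} (he2 : 2 ≤ e) (hsq : (e + 1) ^ 2 ≤ c) (hn : n * e + 1 = c) :
    e + 2 ≤ n := by
  have h1 : (e + 2) * e ≤ n * e := by nlinarith
  exact Nat.le_of_mul_le_mul_right h1 (by omega)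

theorem arith3 {gN dn : ℕ} (hgpos : 0 < gN) (hdeg2 : dn * dn + 1 ≤ gN) :
    gN * (dn * dn) < gN * gN := by nlinarith

/-- Every element of `C` has square one. -/
theorem main (h1 : CharNum.{u}) (h2 : CharPairs.{u}) : CharProp.{u} := by
  intro G _ _ C hCS x0 hx0
  classical
  haveI : Fintype G := Fintype.ofFinite G
  by_contra hx02
  haveI := finite_irrCharacter G
  haveI : Fintype (IrrCharacter G) := Fintype.ofFinite _
  have hx01 : x0 ≠ 1 := fun h => hx02 (by rw [h, one_pow])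
  obtain ⟨hN, hcG0, hsq0⟩ := h1 G C hCS
  obtain ⟨t, htC, ht2⟩ : ∃ t : G, t ∈ C ∧ orderOf t = 2 := by
    have h := hCS.two
    have hpos : 0 < Nat.card {t : G // t ∈ C ∧ orderOf t = 2} := by omega
    obtain ⟨⟨t, ht⟩⟩ := (Nat.card_pos_iff.mp hpos).1
    exact ⟨t, ht⟩
  obtain ⟨hfib, hpt, hpx⟩ := h2 G C hCS t htC ht2
  have ht1 : t ≠ 1 := (orderOf_two_iff.mp ht2).2
  have ht : t ^ 2 = 1 := (orderOf_two_iff.mp ht2).1
  -- group-theoretic data
  have hcommC : ∀ a b : C, a * b = b * a :=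
    fun a b => Subtype.ext (hCS.comm a b a.2 b.2)
  have hTI : ∀ g y : G, y ∈ C → y ≠ 1 → g⁻¹ * y * g ∈ C → g ∈ normalizer (C : Set G) :=
    hCS.ti
  have hstab : ∀ g : G, g ∈ normalizer (C : Set G) → ∀ y : G, y ∈ C → y ≠ 1 →
      g⁻¹ * y * g = y → g ∈ C := hCS.stab
  obtain ⟨c, hc⟩ : ∃ c : ℕ, c = Nat.card C := ⟨_, rfl⟩
  obtain ⟨gN, hgN⟩ : ∃ gN : ℕ, gN = Nat.card G := ⟨_, rfl⟩
  obtain ⟨e, he⟩ : ∃ e : ℕ, e = ecard C := ⟨_, rfl⟩
  have hVe : (Vs C).card = e + 1 := by
    have h3 := card_erase C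
    rw [Finset.card_erase_of_mem (one_mem_Vs C)] at h3
    have h4 : 0 < (Vs C).card := Finset.card_pos.mpr ⟨1, one_mem_Vs C⟩
    omega
  have he2 : 2 ≤ e := by rw [he]; exact hCS.two
  have hcardN : Nat.card (normalizer (C : Set G)) = c * e := by
    rw [hc, he]
    exact hN
  have hsq : (e + 1) ^ 2 ≤ c := by
    rw [hc, he]
    exact hsq0 ⟨x0, hx0, hx02⟩
  have hcG : c ^ 2 ≤ gN := by
    rw [hc, hgN]
    exact hcG0
  have he' : 2 * e + 1 ≤ c := arith1 hsq
  obtain ⟨n, ε, b, r, θ, hn, hε, hθinj, hθT, hineq, hnonexc, hθone, hθval⟩ :=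
    exceptional_ab C hc.symm hcommC hTI hstab hcardN he'
  have hε2 : ε * ε = 1 := by rcases hε with h | h <;> rw [h] <;> norm_num
  have hn2 : e + 2 ≤ n := arith2 he2 hsq hn
  -- `b = 0`
  have hb0 : b = 0 := b_zero hε hn2 hineq
  -- the degree of the exceptional characters
  obtain ⟨i₀, -⟩ : ∃ i₀ : Fin n, True := ⟨⟨0, by omega⟩, trivial⟩
  obtain ⟨dn, hdpos, hd⟩ := irr_exists_apply_one_pos (θ i₀).2
  have hdeg : ∀ i, (θ i : G → ℂ) 1 = (dn : ℂ) := fun i => (hθone i i₀).trans hd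
  have hdn0 : (dn : ℂ) ≠ 0 := Nat.cast_ne_zero.mpr hdpos.ne'
  -- values at `t`
  have hτ : ∀ i, (θ i : G → ℂ) t = -(ε : ℂ) ∨ (θ i : G → ℂ) t = (ε : ℂ) * (e : ℂ) := by
    intro i
    have h := hθval i t htC ht1
    rw [hb0, Int.cast_zero, zero_add] at h
    rcases indFun_t_cases hCS.comm ht2 hfib (r i) with h1 | h1
    · left
      rw [h, h1]
      ring
    · right
      rw [h, h1, hVe]
      push_cast
      ring
  have hεc2 : (ε : ℂ) * (ε : ℂ) = 1 := by exact_mod_cast hε2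
  have hτ2 : ∀ i, (θ i : G → ℂ) t * (θ i : G → ℂ) t
      = (ε : ℂ) * ((e : ℂ) - 1) * (θ i : G → ℂ) t + (e : ℂ) := by
    intro i
    rcases hτ i with h | h
    · rw [h]
      linear_combination (e : ℂ) * hεc2
    · rw [h]
      linear_combination (e : ℂ) * hεc2
  -- the differences of values at `t` and `x0`
  obtain ⟨X, hX⟩ : ∃ X : IrrCharacter G → ℂ,
      ∀ ψ, X ψ = conj ((ψ : G → ℂ) t) - conj ((ψ : G → ℂ) x0) := ⟨_, fun _ => rfl⟩
  have hX0 : ∀ ψ : IrrCharacter G, (∀ i, θ i ≠ ψ) → X ψ = 0 := by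
    intro ψ hψ
    rw [hX, hnonexc ψ hψ t x0 htC ht1 hx0 hx01, sub_self]
  have hsplit0 : ∀ F : IrrCharacter G → ℂ, (∀ ψ, (∀ i, θ i ≠ ψ) → F ψ = 0) →
      ∑ ψ, F ψ = ∑ i, F (θ i) := by
    intro F hF
    rw [sum_split θ hθinj F]
    have h0 : ∑ ψ : IrrCharacter G, (if ∃ i, θ i = ψ then 0 else F ψ) = 0 := by
      apply Finset.sum_eq_zero
      intro ψ _
      by_cases hψ : ∃ i, θ i = ψ
      · rw [if_pos hψ]
      · rw [if_neg hψ]
        exact hF ψ (not_exists.mp hψ)
    rw [h0, zero_add]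
  have hnc1t : ¬ IsConj (1 : G) t := fun h => ht1 (isConj_one_right.mp h)
  have hnc1x : ¬ IsConj (1 : G) x0 := fun h => hx01 (isConj_one_right.mp h)
  have hnctx : ¬ IsConj t x0 := by
    intro h
    obtain ⟨c', hc'⟩ := isConj_iff.mp h
    apply hx02
    rw [← hc']
    exact Cfsg.Agent.Lib.Helper39.CTGroup.conj_sq ht
  have hS1 : ∑ i, X (θ i) = 0 := by
    have h1 := second_orthogonality_sum_of_not_isConj (1 : G) t hnc1t
    have h2 := second_orthogonality_sum_of_not_isConj (1 : G) x0 hnc1x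
    have h3 : ∑ ψ : IrrCharacter G, (ψ : G → ℂ) 1 * X ψ = 0 := by
      have h4 : ∑ ψ : IrrCharacter G, (ψ : G → ℂ) 1 * X ψ
          = ∑ ψ : IrrCharacter G, (ψ : G → ℂ) 1 * conj ((ψ : G → ℂ) t)
            - ∑ ψ : IrrCharacter G, (ψ : G → ℂ) 1 * conj ((ψ : G → ℂ) x0) := by
        rw [← Finset.sum_sub_distrib]
        apply Finset.sum_congr rfl
        intro ψ _
        rw [hX]
        ring
      rw [h4, h1, h2, sub_self]
    rw [hsplit0 _ (fun ψ hψ => by rw [hX0 ψ hψ, mul_zero])] at h3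
    have h4 : ∑ i, (θ i : G → ℂ) 1 * X (θ i) = (dn : ℂ) * ∑ i, X (θ i) := by
      rw [Finset.mul_sum]
      apply Finset.sum_congr rfl
      intro i _
      rw [hdeg i]
    rw [h4] at h3
    exact (mul_eq_zero.mp h3).resolve_left hdn0
  have hS2 : ∑ i, (θ i : G → ℂ) t * X (θ i) = (c : ℂ) := by
    have h1 := second_orthogonality_sum_of_isConj t t (IsConj.refl t)
    have h2 := second_orthogonality_sum_of_not_isConj t x0 hnctx
    have hcent : Nat.card (centralizer ({t} : Set G)) = c := by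
      have hEq : centralizer ({t} : Set G) = C := by
        apply le_antisymm
        · intro g hg
          have hgt : g * t = t * g := mem_centralizer_singleton_iff.mp hg
          have hconj : g⁻¹ * t * g = t := by
            rw [mul_assoc, ← hgt, ← mul_assoc, inv_mul_cancel, one_mul]
          have hgN : g ∈ normalizer (C : Set G) := hTI g t htC ht1 (by rw [hconj]; exact htC)
          exact hstab g hgN t htC ht1 hconj
        · intro g hg
          rw [mem_centralizer_singleton_iff]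
          exact hCS.comm g t hg htC
      rw [hEq, hc]
    have h3 : ∑ ψ : IrrCharacter G, (ψ : G → ℂ) t * X ψ = (c : ℂ) := by
      have h4 : ∑ ψ : IrrCharacter G, (ψ : G → ℂ) t * X ψ
          = ∑ ψ : IrrCharacter G, (ψ : G → ℂ) t * conj ((ψ : G → ℂ) t)
            - ∑ ψ : IrrCharacter G, (ψ : G → ℂ) t * conj ((ψ : G → ℂ) x0) := by
        rw [← Finset.sum_sub_distrib]
        apply Finset.sum_congr rfl
        intro ψ _
        rw [hX]
        ring
      rw [h4, h1, h2, sub_zero, hcent]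
    rw [hsplit0 _ (fun ψ hψ => by rw [hX0 ψ hψ, mul_zero])] at h3
    exact h3
  have hS3 : (gN : ℂ) * ((ε : ℂ) * ((e : ℂ) - 1) * (c : ℂ))
      = ((c : ℂ) ^ 2 * ((e : ℂ) - 1)) * (dn : ℂ) := by
    have h1 : (gN : ℂ) * ∑ ψ : IrrCharacter G,
        (ψ : G → ℂ) t * (ψ : G → ℂ) t * conj ((ψ : G → ℂ) t) / (ψ : G → ℂ) 1
        = (c : ℂ) ^ 2 * ((e : ℂ) - 1) := by
      have h := conj_pair_count t t t
      rw [hgN, ← h]
      have h'' : (Finset.univ.filter
          (fun p : G × G => p.1 * t * p.1⁻¹ * (p.2 * t * p.2⁻¹) = t)).card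
          = c ^ 2 * (e - 1) := by
        rw [hc, he, ← hpt, Nat.card_eq_fintype_card, Fintype.card_subtype]
      rw [h'']
      push_cast [Nat.cast_sub (show 1 ≤ e by omega)]
      ring
    have h2 : (gN : ℂ) * ∑ ψ : IrrCharacter G,
        (ψ : G → ℂ) t * (ψ : G → ℂ) t * conj ((ψ : G → ℂ) x0) / (ψ : G → ℂ) 1 = 0 := by
      have h := conj_pair_count t t x0
      rw [hgN, ← h]
      have h'' : (Finset.univ.filter
          (fun p : G × G => p.1 * t * p.1⁻¹ * (p.2 * t * p.2⁻¹) = x0)).card = 0 := by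
        rw [Finset.card_eq_zero, Finset.filter_eq_empty_iff]
        intro p _
        exact hpx x0 hx0 hx02 p.1 p.2
      rw [h'']
      simp
    have h3 : ∑ ψ : IrrCharacter G, (ψ : G → ℂ) t * (ψ : G → ℂ) t * X ψ / (ψ : G → ℂ) 1
        = ∑ ψ : IrrCharacter G,
            (ψ : G → ℂ) t * (ψ : G → ℂ) t * conj ((ψ : G → ℂ) t) / (ψ : G → ℂ) 1
          - ∑ ψ : IrrCharacter G,
            (ψ : G → ℂ) t * (ψ : G → ℂ) t * conj ((ψ : G → ℂ) x0) / (ψ : G → ℂ) 1 := by
      rw [← Finset.sum_sub_distrib]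
      apply Finset.sum_congr rfl
      intro ψ _
      rw [hX]
      ring
    have h4 : (gN : ℂ) * ∑ ψ : IrrCharacter G,
        (ψ : G → ℂ) t * (ψ : G → ℂ) t * X ψ / (ψ : G → ℂ) 1
        = (c : ℂ) ^ 2 * ((e : ℂ) - 1) := by
      rw [h3, mul_sub, h1, h2, sub_zero]
    rw [hsplit0 _ (fun ψ hψ => by rw [hX0 ψ hψ, mul_zero, zero_div])] at h4
    have h5 : ∑ i, (θ i : G → ℂ) t * (θ i : G → ℂ) t * X (θ i) / (θ i : G → ℂ) 1
        = ((ε : ℂ) * ((e : ℂ) - 1) * (c : ℂ)) / (dn : ℂ) := by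
      have h6 : ∀ i, (θ i : G → ℂ) t * (θ i : G → ℂ) t * X (θ i) / (θ i : G → ℂ) 1
          = ((ε : ℂ) * ((e : ℂ) - 1) * ((θ i : G → ℂ) t * X (θ i)) + (e : ℂ) * X (θ i))
            / (dn : ℂ) := by
        intro i
        rw [hdeg i, hτ2 i]
        ring
      rw [Finset.sum_congr rfl (fun i _ => h6 i), ← Finset.sum_div, Finset.sum_add_distrib,
        ← Finset.mul_sum, ← Finset.mul_sum, hS1, hS2]
      ring
    rw [h5] at h4
    rw [← h4]
    field_simp
  -- `c * dn = ε * |G|`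
  have hcne : (c : ℂ) ≠ 0 := by
    rw [hc]
    exact Nat.cast_ne_zero.mpr Nat.card_pos.ne'
  have he1 : (e : ℂ) - 1 ≠ 0 := by
    have h1 : (e : ℂ) ≠ 1 := by
      intro h
      have h2 : e = 1 := by exact_mod_cast h
      omega
    exact sub_ne_zero.mpr h1
  have hcd : (c : ℂ) * (dn : ℂ) = (ε : ℂ) * (gN : ℂ) := by
    have h : ((c : ℂ) * ((e : ℂ) - 1)) * ((c : ℂ) * (dn : ℂ))
        = ((c : ℂ) * ((e : ℂ) - 1)) * ((ε : ℂ) * (gN : ℂ)) := by
      linear_combination -hS3
    exact mul_left_cancel₀ (mul_ne_zero hcne he1) h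
  have hgpos : 0 < gN := by
    rw [hgN]
    exact Nat.card_pos
  have hε1 : ε = 1 := by
    rcases hε with h | h
    · exact h
    · exfalso
      rw [h] at hcd
      have h1 : ((c * dn + gN : ℕ) : ℂ) = 0 := by
        push_cast
        rw [hcd]
        push_cast
        ring
      have h2 : c * dn + gN = 0 := by exact_mod_cast h1
      omega
  rw [hε1] at hcd
  have hcdN : c * dn = gN := by
    have h1 : ((c * dn : ℕ) : ℂ) = ((gN : ℕ) : ℂ) := by
      push_cast
      rw [hcd]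
      push_cast
      ring
    exact_mod_cast h1
  -- `dn ^ 2 + 1 ≤ |G|`
  have hdeg2 : dn * dn + 1 ≤ gN := by
    have h1 := sum_charDegree_sq_sum (G := G)
    have hne : trivIrr G ≠ θ i₀ := fun h => hθT i₀ h.symm
    have h2 : ∑ χ ∈ ({trivIrr G, θ i₀} : Finset (IrrCharacter G)),
        charDegree (χ : G → ℂ) ^ 2 ≤ ∑ χ : IrrCharacter G, charDegree (χ : G → ℂ) ^ 2 :=
      Finset.sum_le_sum_of_subset (Finset.subset_univ _)
    rw [Finset.sum_pair hne, h1] at h2
    have h3 : charDegree ((trivIrr G : IrrCharacter G) : G → ℂ) = 1 := by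
      have h := char_natCast_charDegree (isCharacter_of_irr (trivIrr G).2)
      rw [trivIrr_apply] at h
      exact_mod_cast h
    have h4 : charDegree ((θ i₀ : IrrCharacter G) : G → ℂ) = dn := by
      have h := char_natCast_charDegree (isCharacter_of_irr (θ i₀).2)
      rw [hd] at h
      exact_mod_cast h
    rw [h3, h4, ← hgN, one_pow, sq] at h2
    omega
  -- contradiction
  have h1 : gN * gN = (c * c) * (dn * dn) := by
    rw [← hcdN]
    ring
  have h2 : (c * c) * (dn * dn) ≤ gN * (dn * dn) :=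
    Nat.mul_le_mul_right _ (by rw [← sq]; exact hcG)
  have h3 : gN * (dn * dn) < gN * gN := arith3 hgpos hdeg2
  linarith

end Cfsg.Agent.Lib.Helper95.AICCharProp

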