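import Mathlib
import Cfsg.Agent.Lib.Helper25.AICSpec

/-! Piece QuotC of S2202: centralizers of Sylow 2-subgroups lift through quotients by central
subgroups of odd order (with the basic lemmas used for QuotA and QuotB). -/

set_option autoImplicit false

namespace Cfsg.Agent.Lib.Helper95.AICQuotC

open Subgroup Cfsg.Agent.Lib.Helper25.AICSpec

universe u

/-- an element of an odd-order subgroup killed by a power of two is trivial -/
theorem eq_one_of_pow_two {G : Type u} [Group G] [Finite G] (N : Subgroup G)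
    (hodd : Odd (Nat.card N)) {n : G} (hn : n ∈ N) (k : ℕ) (h : n ^ (2 ^ k) = 1) : n = 1 := by
  have h1 : orderOf n ∣ 2 ^ k := orderOf_dvd_of_pow_eq_one h
  have h2 : orderOf n ∣ Nat.card N := by
    have h3 := orderOf_dvd_natCard (⟨n, hn⟩ : N)
    rwa [Subgroup.orderOf_mk] at h3
  have hcop : Nat.Coprime (2 ^ k) (Nat.card N) :=
    Nat.Coprime.pow_left k (Nat.coprime_two_left.mpr hodd)
  have h3 : orderOf n = 1 := Nat.Coprime.eq_one_of_dvd (Nat.Coprime.coprime_dvd_left h1 hcop) h2
  exact orderOf_eq_one_iff.mp h3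

/-- if `g s g⁻¹ = s' n` with `s`, `s'` killed by `2^k` and `n` in the central odd-order `N`,
then `n = 1` -/
theorem conj_eq {G : Type u} [Group G] [Finite G] (N : Subgroup G) (hN : N ≤ center G)
    (hodd : Odd (Nat.card N)) (g s s' n : G) (k : ℕ) (hs : s ^ 2 ^ k = 1) (hs' : s' ^ 2 ^ k = 1)
    (hn : n ∈ N) (h : g * s * g⁻¹ = s' * n) : n = 1 := by
  apply eq_one_of_pow_two N hodd hn k
  have hc : Commute s' n := (Subgroup.mem_center_iff.mp (hN hn)) s'
  have h1 : (g * s * g⁻¹) ^ 2 ^ k = 1 := by rw [conj_pow, hs, mul_one, mul_inv_cancel]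
  rw [h, hc.mul_pow, hs', one_mul] at h1
  exact h1

/-- elements of a Sylow 2-subgroup are killed by a power of two -/
theorem exists_pow {G : Type u} [Group G] [Finite G] (S : Sylow 2 G) :
    ∃ k : ℕ, ∀ s ∈ S, s ^ 2 ^ k = 1 := by
  obtain ⟨k, hk⟩ := IsPGroup.iff_card.mp S.isPGroup'
  refine ⟨k, fun s hs => ?_⟩
  have h := pow_card_eq_one' (G := (S : Subgroup G)) (x := ⟨s, hs⟩)
  rw [hk] at h
  exact congrArg Subtype.val h

/-- if the image of `g s g⁻¹` commutes … : an element commuting with `s` modulo `N` commutes with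
`s` -/
theorem comm_of_quot {G : Type u} [Group G] [Finite G] (N : Subgroup G) [N.Normal]
    (hN : N ≤ center G) (hodd : Odd (Nat.card N)) (g s : G) (k : ℕ) (hs : s ^ 2 ^ k = 1)
    (h : QuotientGroup.mk' N s * QuotientGroup.mk' N g =
      QuotientGroup.mk' N g * QuotientGroup.mk' N s) : s * g = g * s := by
  have hn : s⁻¹ * (g * s * g⁻¹) ∈ N := by
    apply (QuotientGroup.eq_one_iff _).mp
    show QuotientGroup.mk' N (s⁻¹ * (g * s * g⁻¹)) = 1
    rw [map_mul, map_mul, map_mul, map_inv, map_inv, ← h, mul_inv_cancel_right, inv_mul_cancel]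
  have h1 := conj_eq N hN hodd g s s _ k hs hs hn (by group)
  have h2 : s = g * s * g⁻¹ := inv_mul_eq_one.mp h1
  calc s * g = g * s * g⁻¹ * g := by rw [← h2]
    _ = g * s := by group

theorem main : QuotC.{u} := by
  intro G _ _ S N _ hN hodd T hT x hx
  obtain ⟨g, rfl⟩ := QuotientGroup.mk'_surjective N x
  refine ⟨g, ?_, rfl⟩
  obtain ⟨k, hk⟩ := exists_pow S
  show g ∈ centralizer ((S : Subgroup G) : Set G)
  rw [Subgroup.mem_centralizer_iff]
  intro s hs
  have hsT : QuotientGroup.mk' N s ∈ (T : Subgroup (G ⧸ N)) := by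
    rw [hT]
    exact Subgroup.mem_map_of_mem _ hs
  have hcomm := (Subgroup.mem_centralizer_iff.mp hx) _ hsT
  exact comm_of_quot N hN hodd g s k (hk s hs) hcomm

end Cfsg.Agent.Lib.Helper95.AICQuotC
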