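import Mathlib
import Cfsg.Agent.Lib.Helper25.AICSpec
import Cfsg.Agent.Lib.Helper95.AICQuotC

/-! Piece QuotA of S2202: the image of a non-cyclic non-normal Sylow 2-subgroup in a quotient by
a central subgroup of odd order is a non-cyclic non-normal Sylow 2-subgroup of the same order,
and the number of Sylow 2-subgroups is the same. -/

set_option autoImplicit false

namespace Cfsg.Agent.Lib.Helper95.AICQuotA

open Subgroup Cfsg.Agent.Lib.Helper25.AICSpec Cfsg.Agent.Lib.Helper95.AICQuotC

universe u

/-- if the image of `g s g⁻¹` lies in the image of `S`, then `g s g⁻¹ ∈ S` -/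
theorem conj_mem {G : Type u} [Group G] [Finite G] (S : Sylow 2 G) (N : Subgroup G) [N.Normal]
    (hN : N ≤ center G) (hodd : Odd (Nat.card N)) (g s : G) (hs : s ∈ S)
    (h : QuotientGroup.mk' N (g * s * g⁻¹) ∈ (S : Subgroup G).map (QuotientGroup.mk' N)) :
    g * s * g⁻¹ ∈ S := by
  obtain ⟨s', hs', he⟩ := h
  obtain ⟨k, hk⟩ := exists_pow S
  have hn : s'⁻¹ * (g * s * g⁻¹) ∈ N := by
    apply (QuotientGroup.eq_one_iff _).mp
    show QuotientGroup.mk' N (s'⁻¹ * (g * s * g⁻¹)) = 1
    rw [map_mul, map_inv, ← he, inv_mul_cancel]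
  have h1 := conj_eq N hN hodd g s s' _ k (hk s hs) (hk s' hs') hn (by group)
  have h2 : s' = g * s * g⁻¹ := inv_mul_eq_one.mp h1
  rw [← h2]
  exact hs'

theorem main : QuotA.{u} := by
  intro G _ _ S hcyc hnorm N _ hN hodd
  obtain ⟨k, hk⟩ := exists_pow S
  -- the restriction of the quotient map to `S` is injective
  obtain ⟨f, hf⟩ : ∃ f : (S : Subgroup G) →* G ⧸ N,
      f = (QuotientGroup.mk' N).comp (S : Subgroup G).subtype := ⟨_, rfl⟩
  have hfx : ∀ x : (S : Subgroup G), f x = QuotientGroup.mk' N (x : G) := fun x => by rw [hf]; rfl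
  have hinj : Function.Injective f := by
    rw [injective_iff_map_eq_one]
    intro x hx
    rw [hfx] at hx
    have hxN : (x : G) ∈ N := (QuotientGroup.eq_one_iff _).mp hx
    exact Subtype.ext (eq_one_of_pow_two N hodd hxN k (hk _ x.2))
  have hrange : f.range = (S : Subgroup G).map (QuotientGroup.mk' N) := by
    ext y
    constructor
    · rintro ⟨x, rfl⟩
      exact ⟨x, x.2, (hfx x).symm⟩
    · rintro ⟨s, hs, rfl⟩
      exact ⟨⟨s, hs⟩, hfx _⟩
  have hcard : Nat.card ((S : Subgroup G).map (QuotientGroup.mk' N)) = Nat.card (S : Subgroup G) := by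
    rw [← hrange]
    exact (Nat.card_congr (MonoidHom.ofInjective hinj).toEquiv).symm
  have hfac : (Nat.card (G ⧸ N)).factorization 2 = (Nat.card G).factorization 2 := by
    have h1 := Subgroup.card_eq_card_quotient_mul_card_subgroup N
    have h2 : (Nat.card N).factorization 2 = 0 := by
      apply Nat.factorization_eq_zero_of_not_dvd
      intro h
      exact (Nat.not_even_iff_odd.mpr hodd) (even_iff_two_dvd.mpr h)
    rw [h1, Nat.factorization_mul Nat.card_pos.ne' Nat.card_pos.ne', Finsupp.add_apply, h2,
      add_zero]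
  have hTcard : Nat.card ((S : Subgroup G).map (QuotientGroup.mk' N)) =
      2 ^ (Nat.card (G ⧸ N)).factorization 2 := by
    rw [hcard, hfac]
    exact S.card_eq_multiplicity
  obtain ⟨T, hT⟩ : ∃ T : Sylow 2 (G ⧸ N),
      (T : Subgroup (G ⧸ N)) = (S : Subgroup G).map (QuotientGroup.mk' N) :=
    ⟨Sylow.ofCard _ hTcard, Sylow.coe_ofCard _ _⟩
  refine ⟨T, hT, ?_, ?_, ?_, ?_⟩
  · intro hc
    apply hcyc
    have e2 : ↥(T : Subgroup (G ⧸ N)) ≃* ↥(S : Subgroup G) :=
      (MulEquiv.subgroupCongr (hT.trans hrange.symm)).trans (MonoidHom.ofInjective hinj).symm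
    exact isCyclic_of_surjective e2 e2.surjective
  · intro hn
    apply hnorm
    refine ⟨fun s hs g => ?_⟩
    apply conj_mem S N hN hodd g s hs
    rw [← hT]
    have h1 : QuotientGroup.mk' N s ∈ (T : Subgroup (G ⧸ N)) := by
      rw [hT]; exact Subgroup.mem_map_of_mem _ hs
    have h2 := hn.conj_mem _ h1 (QuotientGroup.mk' N g)
    rw [map_mul, map_mul, map_inv]
    exact h2
  · rw [hT]; exact hcard
  · rw [Sylow.card_eq_index_normalizer T, Sylow.card_eq_index_normalizer S]
    have hcomap : (normalizer ((T : Subgroup (G ⧸ N)) : Set (G ⧸ N))).comap (QuotientGroup.mk' N) =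
        normalizer ((S : Subgroup G) : Set G) := by
      ext g
      rw [Subgroup.mem_comap, Subgroup.mem_normalizer_iff, Subgroup.mem_normalizer_iff]
      constructor
      · intro h s
        constructor
        · intro hs
          apply conj_mem S N hN hodd g s hs
          rw [← hT, map_mul, map_mul, map_inv]
          apply (h _).mp
          show QuotientGroup.mk' N s ∈ (T : Subgroup (G ⧸ N))
          rw [hT]; exact Subgroup.mem_map_of_mem _ hs
        · intro hs
          have h1 : QuotientGroup.mk' N (g * s * g⁻¹) ∈ (T : Subgroup (G ⧸ N)) := by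
            rw [hT]; exact Subgroup.mem_map_of_mem _ hs
          have h2 : QuotientGroup.mk' N s ∈ (T : Subgroup (G ⧸ N)) := by
            apply (h _).mpr
            rw [← map_inv, ← map_mul, ← map_mul]
            exact h1
          have h3 : g⁻¹ * (g * s * g⁻¹) * g⁻¹⁻¹ ∈ S := by
            apply conj_mem S N hN hodd g⁻¹ _ hs
            rw [← hT]
            have e : g⁻¹ * (g * s * g⁻¹) * g⁻¹⁻¹ = s := by group
            rw [e]
            exact h2
          have e : g⁻¹ * (g * s * g⁻¹) * g⁻¹⁻¹ = s := by group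
          rw [e] at h3
          exact h3
      · intro h y
        constructor
        · intro hy
          have hy' : y ∈ (S : Subgroup G).map (QuotientGroup.mk' N) := hT ▸ hy
          obtain ⟨s, hs, rfl⟩ := hy'
          show _ ∈ (T : Subgroup (G ⧸ N))
          rw [hT, ← map_inv, ← map_mul, ← map_mul]
          exact Subgroup.mem_map_of_mem _ ((h s).mp hs)
        · intro hy
          have hy' : QuotientGroup.mk' N g * y * (QuotientGroup.mk' N g)⁻¹ ∈
              (S : Subgroup G).map (QuotientGroup.mk' N) := hT ▸ hy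
          obtain ⟨s1, hs1, he⟩ := hy'
          have hy2 : y = QuotientGroup.mk' N (g⁻¹ * s1 * g) := by
            rw [map_mul, map_mul, map_inv, he]
            group
          show y ∈ (T : Subgroup (G ⧸ N))
          rw [hT, hy2]
          apply Subgroup.mem_map_of_mem
          apply (h _).mpr
          have e : g * (g⁻¹ * s1 * g) * g⁻¹ = s1 := by group
          rw [e]
          exact hs1
    have h1 : (normalizer ((T : Subgroup (G ⧸ N)) : Set (G ⧸ N))).index =
        (normalizer ((S : Subgroup G) : Set G)).index := by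
      rw [← hcomap, Subgroup.index_comap_of_surjective _ (QuotientGroup.mk'_surjective N)]
    exact h1

end Cfsg.Agent.Lib.Helper95.AICQuotA
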