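import Mathlib
import Cfsg.Agent.Lib.Helper25.AICSpec
import Cfsg.Agent.Lib.Helper95.AICQuotC

/-! Piece QuotB of S2202: the property "involution centralizers are abelian" passes to quotients
by central subgroups of odd order. -/

set_option autoImplicit false

namespace Cfsg.Agent.Lib.Helper95.AICQuotB

open Subgroup Cfsg.Agent.Lib.Helper25.AICSpec Cfsg.Agent.Lib.Helper95.AICQuotC

universe u

theorem main : QuotB.{u} := by
  intro G _ _ hAIC N _ hN hodd t ht a b ha hb
  obtain ⟨t0, rfl⟩ := QuotientGroup.mk'_surjective N t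
  obtain ⟨a0, rfl⟩ := QuotientGroup.mk'_surjective N a
  obtain ⟨b0, rfl⟩ := QuotientGroup.mk'_surjective N b
  -- an involution lifting `t`
  have ht2 : t0 ^ 2 ∈ N := by
    apply (QuotientGroup.eq_one_iff _).mp
    show QuotientGroup.mk' N (t0 ^ 2) = 1
    rw [map_pow, ← ht, pow_orderOf_eq_one]
  obtain ⟨j, hj⟩ := hodd
  obtain ⟨z, hz⟩ : ∃ z : G, z = t0 ^ 2 := ⟨_, rfl⟩
  have hzN : z ∈ N := hz ▸ ht2
  have hzc : ∀ x : G, x * z = z * x := Subgroup.mem_center_iff.mp (hN hzN)
  have hzpow : z ^ (2 * j + 1) = 1 := by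
    have h := pow_card_eq_one' (G := N) (x := ⟨z, hzN⟩)
    rw [hj] at h
    exact congrArg Subtype.val h
  obtain ⟨t', ht'⟩ : ∃ t' : G, t' = t0 * z ^ j := ⟨_, rfl⟩
  have hzjN : z ^ j ∈ N := N.pow_mem hzN j
  have hone : QuotientGroup.mk' N (z ^ j) = 1 := (QuotientGroup.eq_one_iff _).mpr hzjN
  have hmk : QuotientGroup.mk' N t' = QuotientGroup.mk' N t0 := by
    rw [ht', map_mul, hone, mul_one]
  have hc : Commute t0 (z ^ j) := by
    have h1 : Commute t0 z := hzc t0
    exact h1.pow_right j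
  have ht'2 : t' ^ 2 = 1 := by
    rw [ht', hc.mul_pow, ← hz, ← pow_mul, ← pow_succ']
    rw [show j * 2 + 1 = 2 * j + 1 by ring]
    exact hzpow
  have ht'1 : t' ≠ 1 := by
    intro h
    rw [h, map_one] at hmk
    rw [← hmk, orderOf_one] at ht
    omega
  have ht'o : orderOf t' = 2 := orderOf_eq_prime ht'2 ht'1
  have hk : t' ^ 2 ^ 1 = 1 := by rw [pow_one]; exact ht'2
  -- lifts of centralizing elements centralize `t'`
  have hlift : ∀ x0 : G, QuotientGroup.mk' N x0 ∈ centralizer {QuotientGroup.mk' N t0} →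
      x0 ∈ centralizer ({t'} : Set G) := by
    intro x0 hx0
    rw [Subgroup.mem_centralizer_iff] at hx0 ⊢
    intro y hy
    rw [Set.mem_singleton_iff] at hy
    rw [hy]
    have h1 := hx0 _ (Set.mem_singleton _)
    rw [← hmk] at h1
    exact comm_of_quot N hN ⟨j, hj⟩ x0 t' 1 hk h1
  have h := hAIC t' ht'o a0 b0 (hlift a0 ha) (hlift b0 hb)
  rw [← map_mul, ← map_mul, h]

end Cfsg.Agent.Lib.Helper95.AICQuotB
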