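import Cfsg.Agent.Lib.Helper25.AICSpec

set_option autoImplicit false

namespace Cfsg.Agent.Lib.Helper95.AICSub

open Subgroup Cfsg.Agent.Lib.Helper25.AICSpec

universe u

theorem main : Cfsg.Agent.Lib.Helper25.AICSpec.Sub.{u} := by
  intro G _ _ S hyp K hSK hKN
  obtain ⟨haic, hncyc, hnn⟩ := hyp
  have hcoe : ((S.subtype hSK : Sylow 2 K) : Subgroup K) = (S : Subgroup G).subgroupOf K :=
    Sylow.coe_subtype S hSK
  have hmem : ∀ a : K, a ∈ S.subtype hSK ↔ (a : G) ∈ S := by
    intro a
    show a ∈ ((S.subtype hSK : Sylow 2 K) : Subgroup K) ↔ _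
    rw [hcoe, Subgroup.mem_subgroupOf]
    rfl
  have hcard : Nat.card ((S.subtype hSK : Sylow 2 K) : Subgroup K) = Nat.card (S : Subgroup G) := by
    rw [hcoe]
    exact Nat.card_congr (Subgroup.subgroupOfEquivOfLe hSK).toEquiv
  refine ⟨⟨?_, ?_, ?_⟩, ?_, hmem, hcard, ?_⟩
  · -- AIC K
    intro t ht a b ha hb
    have ht' : orderOf (t : G) = 2 := by rw [Subgroup.orderOf_coe]; exact ht
    have ha' : (a : G) ∈ centralizer ({(t : G)} : Set G) := by
      rw [Subgroup.mem_centralizer_iff]
      intro h hh
      rw [Set.mem_singleton_iff] at hh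
      subst hh
      have := (Subgroup.mem_centralizer_iff.mp ha) t (Set.mem_singleton t)
      exact_mod_cast congrArg (Subtype.val) this
    have hb' : (b : G) ∈ centralizer ({(t : G)} : Set G) := by
      rw [Subgroup.mem_centralizer_iff]
      intro h hh
      rw [Set.mem_singleton_iff] at hh
      subst hh
      have := (Subgroup.mem_centralizer_iff.mp hb) t (Set.mem_singleton t)
      exact_mod_cast congrArg (Subtype.val) this
    have := haic (t : G) ht' a b ha' hb'
    exact Subtype.ext (by exact_mod_cast this)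
  · -- non-cyclic
    intro hc
    apply hncyc
    rw [hcoe] at hc
    exact isCyclic_of_surjective (Subgroup.subgroupOfEquivOfLe hSK).toMonoidHom
      (Subgroup.subgroupOfEquivOfLe hSK).surjective
  · -- non-normal
    intro hn
    apply hKN
    rw [hcoe] at hn
    exact (Subgroup.normal_subgroupOf_iff_le_normalizer hSK).mp hn
  · -- Aset
    intro a
    show (a ∈ CS (S.subtype hSK) ∧ Odd (orderOf a)) ↔ ((a : G) ∈ CS S ∧ Odd (orderOf (a : G)))
    rw [Subgroup.orderOf_coe]
    constructor
    · rintro ⟨h1, h2⟩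
      refine ⟨?_, h2⟩
      show (a : G) ∈ centralizer ((S : Subgroup G) : Set G)
      rw [Subgroup.mem_centralizer_iff]
      intro h hh
      have hhK : h ∈ K := hSK hh
      have h1' : a ∈ centralizer (((S.subtype hSK : Sylow 2 K) : Subgroup K) : Set K) := h1
      have := (Subgroup.mem_centralizer_iff.mp h1') ⟨h, hhK⟩ ((hmem ⟨h, hhK⟩).mpr hh)
      exact congrArg (Subtype.val) this
    · rintro ⟨h1, h2⟩
      refine ⟨?_, h2⟩
      show a ∈ centralizer (((S.subtype hSK : Sylow 2 K) : Subgroup K) : Set K)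
      rw [Subgroup.mem_centralizer_iff]
      intro h hh
      have h1' : (a : G) ∈ centralizer ((S : Subgroup G) : Set G) := h1
      have := (Subgroup.mem_centralizer_iff.mp h1') (h : G) ((hmem h).mp hh)
      exact Subtype.ext (by exact_mod_cast this)
  · -- Sylow count
    have h1 : Nat.card (Sylow 2 K) = (normalizer ((((S.subtype hSK : Sylow 2 K) : Subgroup K)) : Set K)).index :=
      Sylow.card_eq_index_normalizer (S.subtype hSK)
    have h2 : (normalizer ((S : Subgroup G) : Set G)).subgroupOf K
        = normalizer (((S : Subgroup G).subgroupOf K : Subgroup K) : Set K) :=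
      Subgroup.subgroupOf_normalizer_eq hSK
    have h3 : Nat.card ((NS S ⊓ K : Subgroup G)) = Nat.card ((NS S).subgroupOf K) := by
      rw [← Subgroup.inf_subgroupOf_right]
      exact (Nat.card_congr (Subgroup.subgroupOfEquivOfLe (inf_le_right : NS S ⊓ K ≤ K)).toEquiv).symm
    rw [h1, h3, hcoe, ← h2, mul_comm]
    exact Subgroup.card_mul_index _

end Cfsg.Agent.Lib.Helper95.AICSub

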