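import Mathlib
import Cfsg.Agent.Lib.Helper59.C2Stmt
import Cfsg.Agent.Lib.Helper44.NegPairs

set_option autoImplicit false

/-!
# S5974C piece QUADVAN (helper95): char 2, `x * x = 1` isometry of the plus form:
if `β(w, x w) = 0` on the singular vectors of a nonzero nondegenerate plus-type `A`, then
`β(u, x u) = 0` on all of `A`.
-/

namespace Cfsg.Agent.Lib.Helper95.C2QUADVAN

open QuadraticMap
open Cfsg.Agent.Lib.Helper44.NegPairs (plusQ)
open Cfsg.Agent.Lib.Helper44.TPStmt (J NDeg Stab TSub Plus)

universe u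

theorem main : Cfsg.Agent.Lib.Helper59.C2Stmt.QuadVan.{u} := by
  intro F _ _ _ d x hx hxx A hND hPlus hA0 hsing
  classical
  obtain ⟨Q, hQ⟩ : ∃ Q : QuadraticForm F (J d → F), Q = plusQ d F := ⟨_, rfl⟩
  obtain ⟨X, hX⟩ : ∃ X : (J d → F) →ₗ[F] (J d → F),
      X = Matrix.toLin' (x : Matrix (J d) (J d) F) := ⟨_, rfl⟩
  have h2 : (2 : F) = 0 := CharTwo.two_eq_zero
  have hXX : ∀ v, X (X v) = v := by
    intro v
    rw [hX, Matrix.toLin'_apply, Matrix.toLin'_apply, Matrix.mulVec_mulVec, hxx,
      Matrix.one_mulVec]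
  have hXQ : ∀ v, Q (X v) = Q v := by
    intro v
    rw [hX, hQ, Matrix.toLin'_apply]
    exact hx v v
  have hXB : ∀ a b, polar Q (X a) (X b) = polar Q a b := by
    intro a b
    unfold polar
    rw [← map_add, hXQ, hXQ, hXQ]
  have hsing' : ∀ w ∈ A, Q w = 0 → polar Q w (X w) = 0 := by
    intro w hw hw0
    rw [hQ] at hw0
    have h := hsing w hw hw0
    rw [hX, hQ, Matrix.toLin'_apply]
    exact h
  have hadd : ∀ u v, polar Q (u + v) (X (u + v)) = polar Q u (X u) + polar Q v (X v) := by
    intro u v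
    have h1 : polar Q v (X u) = polar Q u (X v) := by
      have h := hXB v (X u)
      rw [hXX] at h
      rw [← h, polar_comm]
    rw [map_add, polar_add_left, polar_add_right, polar_add_right, h1]
    have h3 : polar Q u (X v) + polar Q u (X v) = 0 := by
      rw [← two_mul, h2, zero_mul]
    linear_combination h3
  have hsmul : ∀ (c : F) u, polar Q (c • u) (X (c • u)) = c * c * polar Q u (X u) := by
    intro c u
    rw [map_smul, polar_smul_left, polar_smul_right]
    simp only [smul_eq_mul]
    ring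
  obtain ⟨U, hUA, hUts, hUdim⟩ := hPlus
  have hUts' : ∀ w ∈ U, Q w = 0 := by
    intro w hw
    rw [hQ]
    exact hUts w hw
  have key : ∀ f ∈ A, ∀ e' ∈ U, polar Q e' f ≠ 0 → polar Q f (X f) = 0 := by
    intro f hf e' he' hne
    have he'A : e' ∈ A := hUA he'
    have he'0 : Q e' = 0 := hUts' e' he'
    have hw : f + (Q f / polar Q e' f) • e' ∈ A := A.add_mem hf (A.smul_mem _ he'A)
    have hQw : Q (f + (Q f / polar Q e' f) • e') = 0 := by
      rw [QuadraticMap.map_add Q f, QuadraticMap.map_smul, he'0, polar_smul_right,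
        polar_comm Q f e']
      simp only [smul_eq_mul, mul_zero, add_zero]
      rw [div_mul_cancel₀ _ hne, ← two_mul, h2, zero_mul]
    have h1 := hsing' _ hw hQw
    rw [hadd, hsmul, hsing' e' he'A he'0, mul_zero, add_zero] at h1
    exact h1
  intro u hu
  have goal : polar Q u (X u) = 0 := by
    by_cases hex : ∃ e' ∈ U, polar Q e' u ≠ 0
    · obtain ⟨e', he', hne⟩ := hex
      exact key u hu e' he' hne
    · have hex' : ∀ e' ∈ U, polar Q e' u = 0 := by
        intro e' he'
        by_contra hne
        exact hex ⟨e', he', hne⟩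
      have hUne : U ≠ ⊥ := by
        intro hU
        have h0 : Module.finrank F ↥U = 0 := by rw [hU]; exact finrank_bot F (J d → F)
        have h1 : Module.finrank F ↥A = 0 := by omega
        exact hA0 (Submodule.finrank_eq_zero.mp h1)
      obtain ⟨e, he, he0⟩ := Submodule.exists_mem_ne_zero_of_ne_bot hUne
      obtain ⟨-, f₁, hf₁, hne⟩ := hND e (hUA he) he0
      have hne' : polar Q e f₁ ≠ 0 := by
        rw [hQ]
        exact hne
      have h1 := key f₁ hf₁ e he hne'
      have h3 := key (u + f₁) (A.add_mem hu hf₁) e he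
        (by rw [polar_add_right, hex' e he, zero_add]; exact hne')
      rw [hadd, h1, add_zero] at h3
      exact h3
  rw [hX, hQ, Matrix.toLin'_apply] at goal
  exact goal

end Cfsg.Agent.Lib.Helper95.C2QUADVAN

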