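import Mathlib
import Cfsg.Agent.Lib.Helper68.M11UStmt
import Cfsg.Agent.Lib.Helper68.M11Facts

/-!
Piece `FIX2` of S0420: an involution fixes at most three cosets.
-/

set_option autoImplicit false

namespace Cfsg.Agent.Lib.Helper95.MUFIX2

open Cfsg Cfsg.Agent.Lib.Helper68.M11UStmt Cfsg.Agent.Lib.Helper92.M11Stmt

universe u

theorem main (hIC : InvConj.{u}) (hS3 : Stab3.{u}) : Fix2.{u} := by
  intro G _ _ _ hG M hM t ht
  classical
  have : Fintype G := Fintype.ofFinite G
  have : Fintype (G ⧸ M) := Fintype.ofFinite _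
  have hΩ : Fintype.card (G ⧸ M) = 11 := by
    rw [← Nat.card_eq_fintype_card]; exact hM
  -- conjugate involutions have the same number of fixed points
  have hconj : ∀ s : G, orderOf s = 2 →
      Nat.card (MulAction.fixedBy (G ⧸ M) s) = Nat.card (MulAction.fixedBy (G ⧸ M) t) := by
    intro s hs
    obtain ⟨g, hg⟩ := isConj_iff.mp (hIC G hG t s ht hs)
    refine Nat.card_congr
      { toFun := fun a => ⟨g⁻¹ • a.1, ?_⟩
        invFun := fun b => ⟨g • b.1, ?_⟩
        left_inv := fun a => by simp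
        right_inv := fun b => by simp }
    · have ha := a.2
      rw [MulAction.mem_fixedBy] at ha ⊢
      have ha' : (g * t * g⁻¹) • a.1 = a.1 := by rw [hg]; exact ha
      calc t • g⁻¹ • a.1 = g⁻¹ • ((g * t * g⁻¹) • a.1) := by simp [mul_smul]
        _ = g⁻¹ • a.1 := by rw [ha']
    · have hb := b.2
      rw [MulAction.mem_fixedBy] at hb ⊢
      rw [← hg]
      simp [mul_smul, hb]
  -- parity
  have hpar : Nat.card (MulAction.fixedBy (G ⧸ M) t) % 2 = 1 := by
    have hp2 : Fact (Nat.Prime 2) := ⟨Nat.prime_two⟩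
    have ht2 : t * t = 1 := by rw [← pow_two, ← ht]; exact pow_orderOf_eq_one t
    obtain ⟨F, hF⟩ : ∃ F : Function.End (G ⧸ M), ∀ a, F a = t • a :=
      ⟨fun a => t • a, fun _ => rfl⟩
    have hF2 : F ^ 2 ^ 1 = 1 := by
      rw [pow_one, pow_two]
      funext a
      show F (F a) = a
      rw [hF, hF, ← mul_smul, ht2, one_smul]
    have h1 := Equiv.Perm.card_fixedPoints_modEq (f := F) (p := 2) (n := 1) hF2
    have hset : ∀ a : G ⧸ M, a ∈ Function.fixedPoints F ↔ a ∈ MulAction.fixedBy (G ⧸ M) t := by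
      intro a
      show F a = a ↔ t • a = a
      rw [hF]
    rw [Fintype.card_eq_nat_card, Fintype.card_eq_nat_card,
      Nat.card_congr (Equiv.subtypeEquivRight hset)] at h1
    have h11 : Nat.card (G ⧸ M) = 11 := hM
    rw [h11] at h1
    have h3 := h1.symm
    unfold Nat.ModEq at h3
    omega
  obtain ⟨f, hf⟩ : ∃ f, f = Nat.card (MulAction.fixedBy (G ⧸ M) t) := ⟨_, rfl⟩
  -- triples fixed by an involution
  have hemb : ∀ s : G, orderOf s = 2 →
      (Finset.univ.filter (fun q : Fin 3 ↪ G ⧸ M => ∀ i, s • q i = q i)).card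
        = f.descFactorial 3 := by
    intro s hs
    rw [← Fintype.card_subtype, ← Nat.card_eq_fintype_card]
    have e : {q : Fin 3 ↪ G ⧸ M // ∀ i, s • q i = q i} ≃
        (Fin 3 ↪ ↥(MulAction.fixedBy (G ⧸ M) s)) :=
      { toFun := fun q => q.1.codRestrict _ (fun i => q.2 i)
        invFun := fun q' => ⟨q'.trans (Function.Embedding.subtype _), fun i => (q' i).2⟩
        left_inv := fun q => by ext i; rfl
        right_inv := fun q' => by ext i; rfl }
    rw [Nat.card_congr e, Nat.card_eq_fintype_card, Fintype.card_embedding_eq, Fintype.card_fin,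
      ← Nat.card_eq_fintype_card, hconj s hs, hf]
  -- involutions fixing a triple
  have hstab : ∀ q : Fin 3 ↪ G ⧸ M,
      ((Finset.univ.filter (fun s : G => orderOf s = 2)).filter
        (fun s => ∀ i, s • q i = q i)).card ≤ 7 := by
    intro q
    have hne : ∀ i j : Fin 3, i ≠ j → q i ≠ q j := fun i j hij h => hij (q.injective h)
    have h8 := hS3 G hG M hM (q 0) (q 1) (q 2) (hne 0 1 (by decide)) (hne 0 2 (by decide))
      (hne 1 2 (by decide))
    obtain ⟨H, hH⟩ : ∃ H : Subgroup G, H = MulAction.stabilizer G (q 0) ⊓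
        MulAction.stabilizer G (q 1) ⊓ MulAction.stabilizer G (q 2) := ⟨_, rfl⟩
    rw [← hH] at h8
    have hHF : (Finset.univ.filter (fun s : G => s ∈ H)).card = 8 := by
      rw [← Fintype.card_subtype, ← Nat.card_eq_fintype_card]; exact h8
    have hsub : ((Finset.univ.filter (fun s : G => orderOf s = 2)).filter
        (fun s => ∀ i, s • q i = q i)) ⊆ (Finset.univ.filter (fun s : G => s ∈ H)).erase 1 := by
      intro s hs
      rw [Finset.mem_filter, Finset.mem_filter] at hs
      obtain ⟨⟨-, hs2⟩, hfix⟩ := hs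
      rw [Finset.mem_erase, Finset.mem_filter]
      refine ⟨?_, Finset.mem_univ _, ?_⟩
      · rintro rfl
        rw [orderOf_one] at hs2
        omega
      · rw [hH]
        exact Subgroup.mem_inf.mpr ⟨Subgroup.mem_inf.mpr ⟨hfix 0, hfix 1⟩, hfix 2⟩
    have h1 := Finset.card_le_card hsub
    rw [Finset.card_erase_of_mem (by rw [Finset.mem_filter]; exact ⟨Finset.mem_univ _, H.one_mem⟩),
      hHF] at h1
    exact h1
  have hInv : (Finset.univ.filter (fun s : G => orderOf s = 2)).card = 165 := by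
    rw [← Fintype.card_subtype, ← Nat.card_eq_fintype_card]
    exact Cfsg.Agent.Lib.Helper68.M11Facts.card_inv hG
  have hdc := Finset.sum_card_bipartiteAbove_eq_sum_card_bipartiteBelow
    (r := fun (s : G) (q : Fin 3 ↪ G ⧸ M) => ∀ i, s • q i = q i)
    (s := Finset.univ.filter (fun s : G => orderOf s = 2))
    (t := (Finset.univ : Finset (Fin 3 ↪ G ⧸ M)))
  have hL : ∑ s ∈ Finset.univ.filter (fun s : G => orderOf s = 2),
      ((Finset.univ : Finset (Fin 3 ↪ G ⧸ M)).bipartiteAbove
        (fun (s : G) (q : Fin 3 ↪ G ⧸ M) => ∀ i, s • q i = q i) s).card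
      = 165 * f.descFactorial 3 := by
    have h1 : ∀ s ∈ Finset.univ.filter (fun s : G => orderOf s = 2),
        ((Finset.univ : Finset (Fin 3 ↪ G ⧸ M)).bipartiteAbove
          (fun (s : G) (q : Fin 3 ↪ G ⧸ M) => ∀ i, s • q i = q i) s).card
        = f.descFactorial 3 := fun s hs => hemb s (Finset.mem_filter.mp hs).2
    rw [Finset.sum_congr rfl h1, Finset.sum_const, smul_eq_mul, hInv]
  have hR : ∑ q ∈ (Finset.univ : Finset (Fin 3 ↪ G ⧸ M)),
      ((Finset.univ.filter (fun s : G => orderOf s = 2)).bipartiteBelow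
        (fun (s : G) (q : Fin 3 ↪ G ⧸ M) => ∀ i, s • q i = q i) q).card ≤ 990 * 7 := by
    have h1 : ∀ q ∈ (Finset.univ : Finset (Fin 3 ↪ G ⧸ M)),
        ((Finset.univ.filter (fun s : G => orderOf s = 2)).bipartiteBelow
          (fun (s : G) (q : Fin 3 ↪ G ⧸ M) => ∀ i, s • q i = q i) q).card ≤ 7 :=
      fun q _ => hstab q
    refine (Finset.sum_le_sum h1).trans ?_
    rw [Finset.sum_const, smul_eq_mul, Finset.card_univ, Fintype.card_embedding_eq,
      Fintype.card_fin, hΩ]
    decide
  have hcount : 165 * f.descFactorial 3 ≤ 990 * 7 := by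
    rw [← hL, hdc]; exact hR
  have hf11 : f ≤ 11 := by
    rw [hf, ← hΩ, ← Nat.card_eq_fintype_card]
    exact Finite.card_subtype_le _
  have key : ∀ n : ℕ, n ≤ 11 → n % 2 = 1 → 165 * n.descFactorial 3 ≤ 990 * 7 → n ≤ 3 := by
    decide
  rw [← hf]
  exact key f hf11 (hf ▸ hpar) hcount

end Cfsg.Agent.Lib.Helper95.MUFIX2
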