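import Mathlib
import Cfsg.Agent.Lib.Helper68.M11UStmt

/-!
Piece `FIXLE3` of S0420: every non-trivial element fixes at most three cosets.
-/

set_option autoImplicit false

namespace Cfsg.Agent.Lib.Helper95.MUFIXLE3

open Cfsg Cfsg.Agent.Lib.Helper68.M11UStmt Cfsg.Agent.Lib.Helper92.M11Stmt

universe u

theorem main (h5 : Fix5.{u}) (h3 : Fix3.{u}) (h2 : Fix2.{u}) : FixLe3.{u} := by
  intro G _ _ _ hG M hM g hg
  have hn0 : orderOf g ≠ 0 := (orderOf_pos g).ne'
  have hn1 : orderOf g ≠ 1 := fun h => hg (orderOf_eq_one_iff.mp h)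
  obtain ⟨p, hp, hpn⟩ := Nat.exists_prime_and_dvd hn1
  obtain ⟨w, hw⟩ : ∃ w : G, w = g ^ (orderOf g / p) := ⟨_, rfl⟩
  have hord : orderOf w = p := by rw [hw]; exact orderOf_pow_orderOf_div hn0 hpn
  have hsub : MulAction.fixedBy (G ⧸ M) g ⊆ MulAction.fixedBy (G ⧸ M) w := by
    intro a ha
    rw [MulAction.mem_fixedBy] at ha ⊢
    rw [hw]
    generalize orderOf g / p = k
    induction k with
    | zero => simp
    | succ k ih => rw [pow_succ, mul_smul, ha, ih]
  have hle : Nat.card (MulAction.fixedBy (G ⧸ M) g) ≤ Nat.card (MulAction.fixedBy (G ⧸ M) w) :=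
    Nat.card_mono (Set.toFinite _) hsub
  have hpG : p ∣ 7920 := by
    rw [← hG]; exact hpn.trans (orderOf_dvd_natCard g)
  have hcases : p = 2 ∨ p = 3 ∨ p = 5 ∨ p = 11 := by
    have h7920 : (7920 : ℕ) = 2 ^ 4 * 3 ^ 2 * 5 * 11 := by norm_num
    rw [h7920] at hpG
    rcases (Nat.Prime.dvd_mul hp).mp hpG with h | h
    · rcases (Nat.Prime.dvd_mul hp).mp h with h | h
      · rcases (Nat.Prime.dvd_mul hp).mp h with h | h
        · left
          exact (Nat.prime_dvd_prime_iff_eq hp (by norm_num)).mp (hp.dvd_of_dvd_pow h)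
        · right; left
          exact (Nat.prime_dvd_prime_iff_eq hp (by norm_num)).mp (hp.dvd_of_dvd_pow h)
      · right; right; left
        exact (Nat.prime_dvd_prime_iff_eq hp (by norm_num)).mp h
    · right; right; right
      exact (Nat.prime_dvd_prime_iff_eq hp (by norm_num)).mp h
  rcases hcases with rfl | rfl | rfl | rfl
  · exact hle.trans (h2 G hG M hM w hord)
  · exact hle.trans (by rw [h3 G hG M hM w hord]; norm_num)
  · exact hle.trans (by rw [h5 G hG M hM w hord]; norm_num)
  · have hM720 : Nat.card M = 720 := by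
      have h := Subgroup.card_mul_index M
      rw [hM, hG] at h
      omega
    have hempty : MulAction.fixedBy (G ⧸ M) w = ∅ := by
      ext a
      simp only [Set.mem_empty_iff_false, iff_false]
      intro ha
      rw [MulAction.mem_fixedBy] at ha
      induction a using QuotientGroup.induction_on with
      | H x =>
        have h1 : x⁻¹ * (w * x) ∈ M := by
          rw [← QuotientGroup.eq]
          exact ha.symm
        have h2' : orderOf (x⁻¹ * (w * x)) = 11 := by
          have h := MulEquiv.orderOf_eq (MulAut.conj x⁻¹) w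
          rw [MulAut.conj_apply, inv_inv, mul_assoc] at h
          rw [h, hord]
        have h3' : orderOf (⟨_, h1⟩ : M) = 11 := by
          rw [← h2']; exact Subgroup.orderOf_mk _ _
        have h4 := orderOf_dvd_natCard (⟨_, h1⟩ : M)
        rw [h3', hM720] at h4
        omega
    have h0 : Nat.card (∅ : Set (G ⧸ M)) = 0 := Nat.card_of_isEmpty
    rw [hempty, h0] at hle
    omega

end Cfsg.Agent.Lib.Helper95.MUFIXLE3
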