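import Mathlib
import Cfsg.Agent.Lib.Helper87.PCStmt
import Cfsg.Agent.Lib.Helper88.PResStmt
import Cfsg.Agent.H85.PrimeIdx
import Cfsg.Agent.H85.FullyNorm
import Cfsg.Agent.S5077
import Cfsg.Agent.S5110
import Cfsg.Agent.H84.FusSat2

/-! Piece SATH of S5243: the saturation criterion S5110 for a subsystem `D` of a saturated `F`
with the Frattini property, relative to a family closed under `F`-conjugacy. -/

set_option autoImplicit false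

namespace Cfsg.Agent.Lib.Helper95.PCSATH

open Cfsg Cfsg.FusionSystem Cfsg.Agent.Lib.Helper88.PResStmt Cfsg.Agent.Lib.Helper87.PCStmt

universe u

/-- The extension property: a map of `F` whose restriction to a member of `ℋ` is a map of `D` is a
map of `D`. -/
theorem extMem {Ω : Type u} [Group Ω] {S : Subgroup Ω} [Finite S]
    (F : FusionSystem S) (D : FusionSystem S)
    (hDF : D.IsSubsystemOf F) (ℋ : Set (Subgroup Ω)) (hℋS : ∀ P ∈ ℋ, P ≤ S)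
    (hℋconj : ∀ P ∈ ℋ, ∀ Q, F.IsConj P Q → Q ∈ ℋ) (hfrat : FratC F D) (hcl : ClosedHc F D ℋ)
    (N R : Subgroup Ω) (hRN : R ≤ N) (hR : R ∈ ℋ)
    (ψ : N →* Ω) (hψ : ψ ∈ F.Hom N) (hψR : ψ.comp (Subgroup.inclusion hRN) ∈ D.Hom R) :
    ψ ∈ D.Hom N := by
  obtain ⟨α, hα, ψ₀, hψ₀, hψα⟩ := hfrat N ψ hψ
  have hψ₀S : ∀ x, ψ₀ x ∈ S := (D.le_of_mem hψ₀).2
  have hρ₀ : ψ₀.comp (Subgroup.inclusion hRN) ∈ D.Hom R := H85.restrict_mem D hψ₀ hRN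
  generalize hρ₀def : ψ₀.comp (Subgroup.inclusion hRN) = ρ₀ at hρ₀
  have hρ₀x : ∀ x : R, ρ₀ x = ψ₀ (Subgroup.inclusion hRN x) := fun x => by rw [← hρ₀def]; rfl
  have hR' : ρ₀.range ∈ ℋ := hℋconj R hR _ ⟨ρ₀, hDF R hρ₀, rfl⟩
  obtain ⟨χ, hχ, hχx⟩ := D.inv_mem hρ₀
  have hχR : ∀ y : ρ₀.range, χ y ∈ R := by
    rintro ⟨_, x, rfl⟩
    rw [hχx]
    exact x.2
  have hres : resAut α ρ₀.range (hℋS _ hR') ∈ D.Hom ρ₀.range := by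
    refine H85.comp_mem' D hχ hψR hχR (fun y => ?_)
    obtain ⟨_, x, rfl⟩ := y
    have e : (⟨χ ⟨ρ₀ x, ⟨x, rfl⟩⟩, hχR ⟨ρ₀ x, ⟨x, rfl⟩⟩⟩ : R) = x := Subtype.ext (hχx x)
    rw [e]
    have h1 := hψα (Subgroup.inclusion hRN x) (hψ₀S _)
    show ((α ⟨ρ₀ x, _⟩ : S) : Ω) = ψ (Subgroup.inclusion hRN x)
    rw [h1]
    congr 2
    exact Subtype.ext (hρ₀x x)
  have hαE : α ∈ D.autGroup S := hcl α hα ρ₀.range hR' (hℋS _ hR') hres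
  have hαE' := (H85.mem_autGroup_iff D le_rfl α).mp hαE
  exact H85.comp_mem' D hψ₀ hαE' hψ₀S (fun x => hψα x (hψ₀S x))

/-- Saturation on the family `ℋ`. -/
theorem satFam {Ω : Type u} [Group Ω] {S : Subgroup Ω} [Finite S] (p : ℕ) [Fact p.Prime]
    (hS : IsPGroup p S) (F : FusionSystem S) (hF : F.IsSaturated p) (E : FusionSystem S)
    (hEF : E.IsSubsystemOf F) (ℋ : Set (Subgroup Ω)) (hℋS : ∀ P ∈ ℋ, P ≤ S)
    (hℋconj : ∀ P ∈ ℋ, ∀ Q, F.IsConj P Q → Q ∈ ℋ) (hfrat : FratC F E)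
    (hext : ∀ (N R : Subgroup Ω) (hRN : R ≤ N), R ∈ ℋ →
      ∀ ψ : N →* Ω, ψ ∈ F.Hom N → ψ.comp (Subgroup.inclusion hRN) ∈ E.Hom R → ψ ∈ E.Hom N)
    (P : Subgroup Ω) (hPc : P ∈ ℋ) :
    ∃ Q : Subgroup Ω, E.IsConj P Q ∧ E.IsFullyAutomized p Q ∧ E.IsReceptive Q := by
  have hP : P ≤ S := hℋS P hPc
  obtain ⟨P', hPP', hP'fn⟩ := Cfsg.Agent.S5077.exists_fullyNormalized F hP
  obtain ⟨φ, hφ, hφr⟩ := hPP'
  obtain ⟨α, hα, φ₀, hφ₀, hφα⟩ := hfrat P φ hφ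
  have hφ₀S : ∀ x, φ₀ x ∈ S := (E.le_of_mem hφ₀).2
  obtain ⟨Q, hQdef⟩ : ∃ Q : Subgroup Ω, Q = φ₀.range := ⟨_, rfl⟩
  have hEPQ : E.IsConj P Q := ⟨φ₀, hφ₀, hQdef.symm⟩
  have hFPQ : F.IsConj P Q := ⟨φ₀, hEF P hφ₀, hQdef.symm⟩
  have hQS : Q ≤ S := Cfsg.Agent.H85.IsConj_le_right F hFPQ
  have hFPP' : F.IsConj P P' := ⟨φ, hφ, hφr⟩
  -- `α` carries `Q` onto `P'`
  have hαQ : ∀ (q : Ω) (hq : q ∈ Q), ((α ⟨q, hQS hq⟩ : S) : Ω) ∈ P' := by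
    intro q hq
    have hq' := hq
    rw [hQdef] at hq'
    obtain ⟨x, rfl⟩ := hq'
    rw [← hφα x (hφ₀S x), ← hφr]
    exact ⟨x, rfl⟩
  have hαP' : ∀ t ∈ P', ∃ (q : Ω) (hq : q ∈ Q), ((α ⟨q, hQS hq⟩ : S) : Ω) = t := by
    intro t ht
    rw [← hφr] at ht
    obtain ⟨x, rfl⟩ := ht
    exact ⟨φ₀ x, by rw [hQdef]; exact ⟨x, rfl⟩, (hφα x (hφ₀S x)).symm⟩
  -- conjugation by `α⁻¹ n` preserves `Q` when conjugation by `n` preserves `P'`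
  have key : ∀ (n : Ω) (hn : n ∈ S), (∀ t ∈ P', n * t * n⁻¹ ∈ P') → ∀ t ∈ Q,
      ((α⁻¹ ⟨n, hn⟩ : S) : Ω) * t * ((α⁻¹ ⟨n, hn⟩ : S) : Ω)⁻¹ ∈ Q := by
    intro n hn hnP t ht
    obtain ⟨g, hg⟩ : ∃ g : S, g = α⁻¹ ⟨n, hn⟩ := ⟨_, rfl⟩
    rw [← hg]
    have hαg : α g = ⟨n, hn⟩ := by rw [hg]; exact MulAut.apply_inv_self _ α _
    have h1 : ((α (g * ⟨t, hQS ht⟩ * g⁻¹) : S) : Ω) = n * ((α ⟨t, hQS ht⟩ : S) : Ω) * n⁻¹ := by
      rw [map_mul, map_mul, map_inv, hαg]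
      rfl
    have h2 : n * ((α ⟨t, hQS ht⟩ : S) : Ω) * n⁻¹ ∈ P' := hnP _ (hαQ t ht)
    obtain ⟨q, hq, hqe⟩ := hαP' _ h2
    have h3 : α ⟨q, hQS hq⟩ = α (g * ⟨t, hQS ht⟩ * g⁻¹) := Subtype.ext (hqe.trans h1.symm)
    have h4 : (⟨q, hQS hq⟩ : S) = g * ⟨t, hQS ht⟩ * g⁻¹ := α.injective h3
    have h5 : q = (g : Ω) * t * (g : Ω)⁻¹ := congrArg Subtype.val h4
    rw [← h5]
    exact hq
  -- `Q` is fully normalized in `F`
  have hQfn : F.IsFullyNormalized Q := by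
    refine ⟨hQS, fun R hQR => ?_⟩
    have hP'R : F.IsConj P' R :=
      Cfsg.Agent.H85.isConj_trans F (Cfsg.Agent.H85.isConj_symm F hFPP')
        (Cfsg.Agent.H85.isConj_trans F hFPQ hQR)
    refine le_trans (hP'fn.2 R hP'R) ?_
    have hmem : ∀ n : ↥(normalizerIn S P'),
        ((α⁻¹ ⟨(n : Ω), n.2.1⟩ : S) : Ω) ∈ normalizerIn S Q := by
      intro n
      refine ⟨(α⁻¹ ⟨(n : Ω), n.2.1⟩ : S).2, Cfsg.Agent.H85.mem_normalizer_of_forall ?_ ?_⟩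
      · exact key (n : Ω) n.2.1 (fun t ht => (n.2.2 t).mp ht)
      · intro t ht
        have hninv : (n : Ω)⁻¹ ∈ Subgroup.normalizer (P' : Set Ω) := Subgroup.inv_mem _ n.2.2
        have h := key (n : Ω)⁻¹ (S.inv_mem n.2.1) (fun t ht => (hninv t).mp ht) t ht
        have e0 : (α⁻¹ ⟨(n : Ω)⁻¹, S.inv_mem n.2.1⟩ : S) = (α⁻¹ ⟨(n : Ω), n.2.1⟩ : S)⁻¹ := by
          rw [← map_inv]
          rfl
        have e : ((α⁻¹ ⟨(n : Ω)⁻¹, S.inv_mem n.2.1⟩ : S) : Ω) =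
            ((α⁻¹ ⟨(n : Ω), n.2.1⟩ : S) : Ω)⁻¹ := by
          rw [e0, Subgroup.coe_inv]
        rw [e, inv_inv] at h
        exact h
    have : Finite ↥(normalizerIn S Q) := Cfsg.Agent.H85.finite_of_le inf_le_left
    refine Nat.card_le_card_of_injective
      (fun n : ↥(normalizerIn S P') =>
        (⟨((α⁻¹ ⟨(n : Ω), n.2.1⟩ : S) : Ω), hmem n⟩ : ↥(normalizerIn S Q))) ?_
    intro a b hab
    have h1 : ((α⁻¹ ⟨(a : Ω), a.2.1⟩ : S) : Ω) = ((α⁻¹ ⟨(b : Ω), b.2.1⟩ : S) : Ω) :=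
      congrArg (fun z : ↥(normalizerIn S Q) => (z : Ω)) hab
    have h2 : (α⁻¹ ⟨(a : Ω), a.2.1⟩ : S) = α⁻¹ ⟨(b : Ω), b.2.1⟩ := Subtype.ext h1
    have h3 : (⟨(a : Ω), a.2.1⟩ : S) = ⟨(b : Ω), b.2.1⟩ := (α⁻¹).injective h2
    exact Subtype.ext (congrArg (fun z : S => (z : Ω)) h3)
  have hQfa : F.IsFullyAutomized p Q := Cfsg.Agent.H84.fullyAutomized_of_fn hS F hF hQfn
  have hQfc : F.IsFullyCentralized Q := Cfsg.Agent.H84.fullyCentralized_of_fn hS F hF hQfn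
  have hQrec : F.IsReceptive Q := Cfsg.Agent.H84.receptive_of_fc hS F hF hQfc
  -- fully automized in `E`
  have hle : E.autGroup Q ≤ F.autGroup Q := Subgroup.closure_mono (fun a ha => hEF Q ha)
  have hSE : autInducedBy S Q ≤ E.autGroup Q := Cfsg.Agent.H85.autInducedBy_le_autGroup E hQS
  have hEfa : E.IsFullyAutomized p Q := by
    obtain ⟨-, R, hR⟩ := hQfa
    refine ⟨hQS, ⟨⟨(autInducedBy S Q).subgroupOf (E.autGroup Q), ?_, ?_⟩, rfl⟩⟩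
    · exact (Cfsg.Agent.H85.isPGroup_autInducedBy hS Q).comap_subtype
    · intro K hK hHK
      refine le_antisymm ?_ hHK
      intro k hk
      rw [Subgroup.mem_subgroupOf]
      have hKp : IsPGroup p (K.map (Subgroup.inclusion hle)) := hK.map _
      have hRK : (R : Subgroup (F.autGroup Q)) ≤ K.map (Subgroup.inclusion hle) := by
        rw [hR]
        intro a ha
        rw [Subgroup.mem_subgroupOf] at ha
        exact ⟨⟨a.1, hSE ha⟩, hHK (Subgroup.mem_subgroupOf.mpr ha), Subtype.ext rfl⟩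
      have hEq := R.is_maximal' hKp hRK
      have hk' : Subgroup.inclusion hle k ∈ K.map (Subgroup.inclusion hle) := ⟨k, hk, rfl⟩
      rw [hEq] at hk'
      have hk'' : Subgroup.inclusion hle k ∈ (R : Subgroup (F.autGroup Q)) := hk'
      rw [hR, Subgroup.mem_subgroupOf] at hk''
      exact hk''
  -- receptive in `E`
  have hErec : E.IsReceptive Q := by
    refine ⟨hQS, fun R φ₁ hφ₁ hr => ?_⟩
    have hφ₁F := hEF R hφ₁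
    obtain ⟨ψ, hψ, hψx⟩ := hQrec.2 R φ₁ hφ₁F hr
    have hRS : R ≤ S := (E.le_of_mem hφ₁).1
    have hRle : R ≤ extender S R φ₁ :=
      Cfsg.Agent.H85.le_extender S R φ₁ hRS (E.le_of_mem hφ₁).2
    have hRc : R ∈ ℋ := hℋconj P hPc R
      (Cfsg.Agent.H85.isConj_trans F hFPQ (Cfsg.Agent.H85.isConj_symm F ⟨φ₁, hφ₁F, hr⟩))
    refine ⟨ψ, hext (extender S R φ₁) R hRle hRc ψ hψ ?_, hψx⟩
    exact Cfsg.Agent.H85.hom_congr E hφ₁ (fun x => hψx x x.2 (hRle x.2))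
  exact ⟨Q, hEPQ, hEfa, hErec⟩

theorem main : Cfsg.Agent.Lib.Helper87.PCStmt.SatH.{u} := by
  intro Ω _ S _ p _ hS F hF D hDF ℋ hℋS hℋconj hfrat hcl hgen hstar
  refine Cfsg.Agent.S5110.result p hS D ℋ hℋS ?_ ?_ hgen hstar
  · intro P hP Q hPQ
    obtain ⟨φ, hφ, hφr⟩ := hPQ
    exact hℋconj P hP Q ⟨φ, hDF P hφ, hφr⟩
  · intro P hP
    exact satFam p hS F hF D hDF ℋ hℋS hℋconj hfrat
      (fun N R hRN hR ψ hψ hψR => extMem F D hDF ℋ hℋS hℋconj hfrat hcl N R hRN hR ψ hψ hψR) P hP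

end Cfsg.Agent.Lib.Helper95.PCSATH
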