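import Mathlib
import Cfsg.Agent.Lib.Helper25.BSWSpec

/-!
Piece `CombB` of S3282 (corrected statement, with the extra hypothesis `d o = 1`, without which
the statement of `BSWSpec.CombB` is false): the combinatorial classification of the vectors `v`.
-/

set_option autoImplicit false

namespace Cfsg.Agent.Lib.Helper95.BSWCombB

open Cfsg.Agent.Lib.Helper25.BSWSpec

universe u

/-- `BSWSpec.CombB` with the additional hypothesis `d o = 1` -/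
def CombB' : Prop := ∀ (I Φ : Type u) [Fintype I] [Fintype Φ]
  (ι : Φ → Φ) (e σ : Φ) (o : I) (d : I → ℤ) (v : Φ → I → ℤ),
  (∀ φ, ι (ι φ) = φ) → ι e = e → ι σ = σ → σ ≠ e → (∀ φ, ι φ = φ → φ = e ∨ φ = σ) →
  (∃ φ, ι φ ≠ φ) → (∀ ψ, 0 < d ψ) → d o = 1 →
  (∀ φ φ', φ ≠ e → φ' ≠ e → ∑ ψ, v φ ψ * v φ' ψ =
    (open Classical in if φ = φ' then 1 else 0) +
      (open Classical in if φ = ι φ' then 1 else 0) + 2) →
  (∀ φ, v (ι φ) = v φ) → (∀ φ, φ ≠ e → v φ o = -1) → (∀ φ, φ ≠ e → ∑ ψ, v φ ψ * d ψ = 0) →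
  (∃ (Λ Γ₁ Γ₂ : I) (Θ : Φ → I) (δ ε δ₁ δ₂ : ℤ), ConfigIData ι σ o v Λ Γ₁ Γ₂ Θ δ ε δ₁ δ₂) ∨
  (∃ (φ₀ φ₁ : Φ) (Λ Θ Γ₁ Γ₂ : I) (δ ε δ₁ δ₂ : ℤ),
    ConfigIIData ι e σ o v φ₀ φ₁ Λ Θ Γ₁ Γ₂ δ ε δ₁ δ₂)

section shapes

variable {I : Type u}

theorem known_one [DecidableEq I] (w : I → ℤ) (s : Finset I) (n : ℤ) (A : I) (hA : A ∈ s)
    (hwA : w A ≠ 0) (hs : ∑ ψ ∈ s, w ψ ^ 2 = n + 1) (hn3 : n ≤ 2) :
    (w A = 1 ∨ w A = -1) ∧ ∑ ψ ∈ s.erase A, w ψ ^ 2 = n := by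
  have h2 := Finset.add_sum_erase s (fun ψ => w ψ ^ 2) hA
  have h3 : 0 ≤ ∑ ψ ∈ s.erase A, w ψ ^ 2 := Finset.sum_nonneg (fun ψ _ => sq_nonneg _)
  have h2' : w A ^ 2 + ∑ ψ ∈ s.erase A, w ψ ^ 2 = n + 1 := by rw [← hs]; exact h2
  have h4 : w A ^ 2 ≤ 3 := by linarith
  have h5 : w A = 1 ∨ w A = -1 := by
    have h6 : -2 < w A := by nlinarith
    have h7 : w A < 2 := by nlinarith
    omega
  refine ⟨h5, ?_⟩
  rcases h5 with h | h <;> rw [h] at h2' <;> linarith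

theorem extract_one [DecidableEq I] (w : I → ℤ) (s : Finset I) (n : ℤ)
    (hs : ∑ ψ ∈ s, w ψ ^ 2 = n + 1) (hn : 0 ≤ n) (hn3 : n ≤ 2) :
    ∃ A ∈ s, (w A = 1 ∨ w A = -1) ∧ ∑ ψ ∈ s.erase A, w ψ ^ 2 = n := by
  have h1 : ∃ A ∈ s, w A ≠ 0 := by
    by_contra hcon
    push Not at hcon
    rw [Finset.sum_eq_zero (fun ψ hψ => by rw [hcon ψ hψ]; ring)] at hs
    omega
  obtain ⟨A, hA, hwA⟩ := h1
  exact ⟨A, hA, known_one w s n A hA hwA hs hn3⟩

theorem all_zero (w : I → ℤ) (s : Finset I) (hs : ∑ ψ ∈ s, w ψ ^ 2 = 0) (ψ : I) (hψ : ψ ∈ s) :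
    w ψ = 0 := by
  have h := (Finset.sum_eq_zero_iff_of_nonneg (fun ψ _ => sq_nonneg (w ψ))).mp hs ψ hψ
  exact pow_eq_zero_iff (two_ne_zero) |>.mp h

/-- `f = -[o] + a[A] + b[B]` -/
structure Sh2 (o : I) (f : I → ℤ) (A B : I) (a b : ℤ) : Prop where
  hAo : A ≠ o
  hBo : B ≠ o
  hAB : A ≠ B
  ha : a = 1 ∨ a = -1
  hb : b = 1 ∨ b = -1
  hf : ∀ ψ : I, f ψ = (open Classical in if ψ = o then -1 else 0) +
    (open Classical in if ψ = A then a else 0) + (open Classical in if ψ = B then b else 0)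

/-- `f = -[o] + a[A] + b[B] + c[C]` -/
structure Sh3 (o : I) (f : I → ℤ) (A B C : I) (a b c : ℤ) : Prop where
  hAo : A ≠ o
  hBo : B ≠ o
  hCo : C ≠ o
  hAB : A ≠ B
  hAC : A ≠ C
  hBC : B ≠ C
  ha : a = 1 ∨ a = -1
  hb : b = 1 ∨ b = -1
  hc : c = 1 ∨ c = -1
  hf : ∀ ψ : I, f ψ = (open Classical in if ψ = o then -1 else 0) +
    (open Classical in if ψ = A then a else 0) + (open Classical in if ψ = B then b else 0) +
    (open Classical in if ψ = C then c else 0)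

variable {o : I} {f : I → ℤ} {A B C : I} {a b c : ℤ}

theorem Sh2.symm (h : Sh2 o f A B a b) : Sh2 o f B A b a :=
  ⟨h.hBo, h.hAo, h.hAB.symm, h.hb, h.ha, fun ψ => by rw [h.hf ψ]; ring⟩

theorem Sh2.left (h : Sh2 o f A B a b) : f A = a := by
  rw [h.hf A]; simp [h.hAo, h.hAB]

theorem Sh2.right (h : Sh2 o f A B a b) : f B = b := by
  rw [h.hf B]; simp [h.hBo, h.hAB.symm]

theorem Sh2.zero_of (h : Sh2 o f A B a b) {ψ : I} (h1 : ψ ≠ o) (h2 : ψ ≠ A) (h3 : ψ ≠ B) :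
    f ψ = 0 := by
  rw [h.hf ψ]; simp [h1, h2, h3]

theorem Sh2.mem_of_ne_zero (h : Sh2 o f A B a b) {ψ : I} (h1 : ψ ≠ o) (h2 : f ψ ≠ 0) :
    ψ = A ∨ ψ = B := by
  by_contra hcon
  push Not at hcon
  exact h2 (h.zero_of h1 hcon.1 hcon.2)

theorem Sh2.sum [Fintype I] (h : Sh2 o f A B a b) (w : I → ℤ) :
    ∑ ψ, f ψ * w ψ = - w o + a * w A + b * w B := by
  classical
  simp_rw [h.hf, add_mul, ite_mul, zero_mul, Finset.sum_add_distrib]
  simp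

theorem Sh3.zero_of (h : Sh3 o f A B C a b c) {ψ : I} (h1 : ψ ≠ o) (h2 : ψ ≠ A) (h3 : ψ ≠ B)
    (h4 : ψ ≠ C) : f ψ = 0 := by
  rw [h.hf ψ]; simp [h1, h2, h3, h4]

theorem Sh3.mem_of_ne_zero (h : Sh3 o f A B C a b c) {ψ : I} (h1 : ψ ≠ o) (h2 : f ψ ≠ 0) :
    ψ = A ∨ ψ = B ∨ ψ = C := by
  by_contra hcon
  push Not at hcon
  exact h2 (h.zero_of h1 hcon.1 hcon.2.1 hcon.2.2)

theorem Sh3.sum [Fintype I] (h : Sh3 o f A B C a b c) (w : I → ℤ) :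
    ∑ ψ, f ψ * w ψ = - w o + a * w A + b * w B + c * w C := by
  classical
  simp_rw [h.hf, add_mul, ite_mul, zero_mul, Finset.sum_add_distrib]
  simp

theorem sq_total_erase [Fintype I] [DecidableEq I] (o : I) (f : I → ℤ) (ho : f o = -1) :
    ∑ ψ ∈ Finset.univ.erase o, f ψ ^ 2 = ∑ ψ, f ψ ^ 2 - 1 := by
  have h := Finset.add_sum_erase Finset.univ (fun ψ => f ψ ^ 2) (Finset.mem_univ o)
  rw [ho] at h
  linarith

theorem entry_bd [Fintype I] (o : I) (f : I → ℤ) (ho : f o = -1) (hsq : ∑ ψ, f ψ ^ 2 ≤ 4)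
    (ψ : I) : f ψ = 1 ∨ f ψ = 0 ∨ f ψ = -1 := by
  classical
  by_cases h : ψ = o
  · subst h; right; right; exact ho
  · have h1 := sq_total_erase o f ho
    have h2 : f ψ ^ 2 ≤ ∑ ψ ∈ Finset.univ.erase o, f ψ ^ 2 :=
      Finset.single_le_sum (f := fun ψ => f ψ ^ 2) (fun i _ => sq_nonneg _)
        (Finset.mem_erase.mpr ⟨h, Finset.mem_univ _⟩)
    have h3 : f ψ ^ 2 ≤ 3 := by linarith
    have h6 : -2 < f ψ := by nlinarith
    have h7 : f ψ < 2 := by nlinarith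
    omega

theorem sh2_of [Fintype I] (o : I) (f : I → ℤ) (ho : f o = -1) (hsq : ∑ ψ, f ψ ^ 2 = 3)
    (A : I) (hAo : A ≠ o) (hA : f A ≠ 0) : ∃ B, Sh2 o f A B (f A) (f B) := by
  classical
  have h1 := sq_total_erase o f ho
  rw [hsq] at h1
  have hAmem : A ∈ Finset.univ.erase o := Finset.mem_erase.mpr ⟨hAo, Finset.mem_univ _⟩
  obtain ⟨hA1, h2⟩ := known_one f (Finset.univ.erase o) 1 A hAmem hA (by rw [h1]; norm_num)
    (by norm_num)
  obtain ⟨B, hBmem, hB1, h3⟩ := extract_one f ((Finset.univ.erase o).erase A) 0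
    (by rw [h2]; norm_num) le_rfl (by norm_num)
  have hBA : B ≠ A := (Finset.mem_erase.mp hBmem).1
  have hBo : B ≠ o := (Finset.mem_erase.mp (Finset.mem_erase.mp hBmem).2).1
  refine ⟨B, hAo, hBo, hBA.symm, hA1, hB1, fun ψ => ?_⟩
  by_cases h4 : ψ = o
  · rw [h4]; simp [ho, hAo.symm, hBo.symm]
  · by_cases h5 : ψ = A
    · rw [h5]; simp [hAo, hBA.symm]
    · by_cases h6 : ψ = B
      · rw [h6]; simp [hBo, hBA]
      · have h7 := all_zero f _ h3 ψ (by simp [h4, h5, h6])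
        simp [h4, h5, h6, h7]

theorem sh2_exists [Fintype I] (o : I) (f : I → ℤ) (ho : f o = -1) (hsq : ∑ ψ, f ψ ^ 2 = 3) :
    ∃ (A B : I) (a b : ℤ), Sh2 o f A B a b := by
  classical
  have h1 := sq_total_erase o f ho
  rw [hsq] at h1
  obtain ⟨A, hAmem, hA1, -⟩ := extract_one f (Finset.univ.erase o) 1 (by rw [h1]; norm_num)
    (by norm_num) (by norm_num)
  have hAo : A ≠ o := (Finset.mem_erase.mp hAmem).1
  have hA0 : f A ≠ 0 := by rcases hA1 with h | h <;> rw [h] <;> norm_num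
  obtain ⟨B, hB⟩ := sh2_of o f ho hsq A hAo hA0
  exact ⟨A, B, _, _, hB⟩

theorem sh3_of₂ [Fintype I] (o : I) (f : I → ℤ) (ho : f o = -1) (hsq : ∑ ψ, f ψ ^ 2 = 4)
    (A B : I) (hAo : A ≠ o) (hBo : B ≠ o) (hAB : A ≠ B) (hA : f A ≠ 0) (hB : f B ≠ 0) :
    ∃ C, Sh3 o f A B C (f A) (f B) (f C) := by
  classical
  have h1 := sq_total_erase o f ho
  rw [hsq] at h1
  have hAmem : A ∈ Finset.univ.erase o := Finset.mem_erase.mpr ⟨hAo, Finset.mem_univ _⟩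
  obtain ⟨hA1, h2⟩ := known_one f (Finset.univ.erase o) 2 A hAmem hA (by rw [h1]; norm_num)
    (by norm_num)
  have hBmem : B ∈ (Finset.univ.erase o).erase A :=
    Finset.mem_erase.mpr ⟨hAB.symm, Finset.mem_erase.mpr ⟨hBo, Finset.mem_univ _⟩⟩
  obtain ⟨hB1, h3⟩ := known_one f _ 1 B hBmem hB (by rw [h2]; norm_num) (by norm_num)
  obtain ⟨C, hCmem, hC1, h4⟩ := extract_one f (((Finset.univ.erase o).erase A).erase B) 0
    (by rw [h3]; norm_num) le_rfl (by norm_num)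
  have hCB : C ≠ B := (Finset.mem_erase.mp hCmem).1
  have hCA : C ≠ A := (Finset.mem_erase.mp (Finset.mem_erase.mp hCmem).2).1
  have hCo : C ≠ o :=
    (Finset.mem_erase.mp (Finset.mem_erase.mp (Finset.mem_erase.mp hCmem).2).2).1
  refine ⟨C, hAo, hBo, hCo, hAB, hCA.symm, hCB.symm, hA1, hB1, hC1, fun ψ => ?_⟩
  by_cases h5 : ψ = o
  · rw [h5]; simp [ho, hAo.symm, hBo.symm, hCo.symm]
  by_cases h6 : ψ = A
  · rw [h6]; simp [hAo, hAB, hCA.symm]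
  by_cases h7 : ψ = B
  · rw [h7]; simp [hBo, hAB.symm, hCB.symm]
  by_cases h8 : ψ = C
  · rw [h8]; simp [hCo, hCA, hCB]
  · have h9 := all_zero f _ h4 ψ (by simp [h5, h6, h7, h8])
    simp [h5, h6, h7, h8, h9]

theorem sh3_of₁ [Fintype I] (o : I) (f : I → ℤ) (ho : f o = -1) (hsq : ∑ ψ, f ψ ^ 2 = 4)
    (A : I) (hAo : A ≠ o) (hA : f A ≠ 0) : ∃ B C, Sh3 o f A B C (f A) (f B) (f C) := by
  classical
  have h1 := sq_total_erase o f ho
  rw [hsq] at h1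
  have hAmem : A ∈ Finset.univ.erase o := Finset.mem_erase.mpr ⟨hAo, Finset.mem_univ _⟩
  obtain ⟨hA1, h2⟩ := known_one f (Finset.univ.erase o) 2 A hAmem hA (by rw [h1]; norm_num)
    (by norm_num)
  obtain ⟨B, hBmem, hB1, -⟩ := extract_one f ((Finset.univ.erase o).erase A) 1
    (by rw [h2]; norm_num) (by norm_num) (by norm_num)
  have hBA : B ≠ A := (Finset.mem_erase.mp hBmem).1
  have hBo : B ≠ o := (Finset.mem_erase.mp (Finset.mem_erase.mp hBmem).2).1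
  have hB0 : f B ≠ 0 := by rcases hB1 with h | h <;> rw [h] <;> norm_num
  obtain ⟨C, hC⟩ := sh3_of₂ o f ho hsq A B hAo hBo hBA.symm hA hB0
  exact ⟨B, C, hC⟩

end shapes

theorem main : CombB'.{u} := by
  intro I Φ _ _ ι e σ o d v hι hιe hισ hσe hfix hex hd hdo hgram hvι hvo hdeg
  classical
  have : Nonempty I := ⟨o⟩
  have hN : ∀ φ, ι φ ≠ φ → φ ≠ e ∧ φ ≠ σ := fun φ h =>
    ⟨fun h' => h (by rw [h', hιe]), fun h' => h (by rw [h', hισ])⟩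
  have hσN : ∀ φ, ι φ ≠ φ → σ ≠ φ ∧ σ ≠ ι φ := by
    intro φ hφ
    refine ⟨fun h => (hN φ hφ).2 h.symm, fun h => (hN φ hφ).2 ?_⟩
    have h1 := congrArg ι h
    rw [hισ, hι] at h1
    exact h1.symm
  have hsq3 : ∀ φ, ι φ ≠ φ → ∑ ψ, v φ ψ ^ 2 = 3 := by
    intro φ hφ
    have h := hgram φ φ (hN φ hφ).1 (hN φ hφ).1
    rw [if_pos rfl, if_neg (show ¬ (φ = ι φ) from fun h => hφ h.symm)] at h
    rw [Finset.sum_congr rfl (fun ψ _ => pow_two (v φ ψ)), h]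
    norm_num
  have hsq4 : ∑ ψ, v σ ψ ^ 2 = 4 := by
    have h := hgram σ σ hσe hσe
    rw [if_pos rfl, if_pos hισ.symm] at h
    rw [Finset.sum_congr rfl (fun ψ _ => pow_two (v σ ψ)), h]
    norm_num
  have hbd : ∀ φ, φ ≠ e → ∀ ψ, v φ ψ = 1 ∨ v φ ψ = 0 ∨ v φ ψ = -1 := by
    intro φ hφ ψ
    apply entry_bd o (v φ) (hvo φ hφ)
    have h := hgram φ φ hφ hφ
    rw [Finset.sum_congr rfl (fun ψ _ => pow_two (v φ ψ)), h, if_pos rfl]
    split_ifs <;> norm_num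
  have hK : ∀ φ, ι φ ≠ φ → ∀ (A B : I) (a b : ℤ), Sh2 o (v φ) A B a b →
      ∀ φ', φ' ≠ e → φ' ≠ φ → φ' ≠ ι φ →
      (v φ' A = a ∧ v φ' B = 0) ∨ (v φ' A = 0 ∧ v φ' B = b) := by
    intro φ hφ A B a b hsh φ' hφ'e hφ'φ hφ'ι
    have h := hgram φ φ' (hN φ hφ).1 hφ'e
    rw [if_neg (show ¬ (φ = φ') from fun h => hφ'φ h.symm),
      if_neg (show ¬ (φ = ι φ') from fun h => hφ'ι (by rw [h, hι]))] at h
    rw [hsh.sum, hvo φ' hφ'e] at h
    have h1 := hbd φ' hφ'e A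
    have h2 := hbd φ' hφ'e B
    rcases hsh.ha with rfl | rfl <;> rcases hsh.hb with rfl | rfl <;> omega
  obtain ⟨φs, hφs⟩ := hex
  by_cases hC : ∃ Λ, Λ ≠ o ∧ v σ Λ ≠ 0 ∧ ∀ φ, ι φ ≠ φ → v φ Λ ≠ 0
  · left
    obtain ⟨Λ, hΛo, hσΛ, hall⟩ := hC
    obtain ⟨Γ₁, Γ₂, hS⟩ := sh3_of₁ o (v σ) (hvo σ hσe) hsq4 Λ hΛo hσΛ
    have hex2 : ∀ f : I → ℤ, (∃ B, Sh2 o f Λ B (f Λ) (f B)) →
        ∃ B, Sh2 o f Λ B (f Λ) (f B) := fun f h => h
    choose! Θf hΘf using hex2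
    have hΘ : ∀ φ, ι φ ≠ φ → Sh2 o (v φ) Λ (Θf (v φ)) (v φ Λ) (v φ (Θf (v φ))) :=
      fun φ hφ => hΘf (v φ)
        (sh2_of o (v φ) (hvo φ (hN φ hφ).1) (hsq3 φ hφ) Λ hΛo (hall φ hφ))
    have hσK : ∀ φ, ι φ ≠ φ → v σ Λ = v φ Λ ∧ v σ (Θf (v φ)) = 0 := by
      intro φ hφ
      rcases hK φ hφ _ _ _ _ (hΘ φ hφ) σ hσe (hσN φ hφ).1 (hσN φ hφ).2 with h | h
      · exact ⟨h.1, h.2⟩
      · exact absurd h.1 hσΛ
    have hdegφ : ∀ φ, ι φ ≠ φ →
        v φ (Θf (v φ)) * d (Θf (v φ)) = d o - v σ Λ * d Λ := by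
      intro φ hφ
      have h := hdeg φ (hN φ hφ).1
      rw [(hΘ φ hφ).sum, ← (hσK φ hφ).1] at h
      linarith
    have hε : ∀ φ, ι φ ≠ φ → v φ (Θf (v φ)) = v φs (Θf (v φs)) := by
      intro φ hφ
      have h1 := hdegφ φ hφ
      have h2 := hdegφ φs hφs
      have h3 := hd (Θf (v φ))
      have h4 := hd (Θf (v φs))
      rcases (hΘ φ hφ).hb with h5 | h5 <;> rcases (hΘ φs hφs).hb with h6 | h6
      · rw [h5, h6]
      · rw [h5] at h1; rw [h6] at h2; exfalso; linarith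
      · rw [h5] at h1; rw [h6] at h2; exfalso; linarith
      · rw [h5, h6]
    refine ⟨Λ, Γ₁, Γ₂, fun φ => Θf (v φ), v σ Λ, v φs (Θf (v φs)), v σ Γ₁, v σ Γ₂, ?_⟩
    refine { hδ := hS.ha, hε := (hΘ φs hφs).hb, hδ₁ := hS.hb, hδ₂ := hS.hc, hΛo := hΛo,
             hΓ₁o := hS.hBo, hΓ₂o := hS.hCo, hΓ₁Λ := hS.hAB.symm, hΓ₂Λ := hS.hAC.symm,
             hΓ := hS.hBC, hΘ := ?_, hΘinj := ?_, hv := ?_, hσ := hS.hf }
    · intro φ hφ
      have h1 := hΘ φ hφ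
      have h2 := (hσK φ hφ).2
      refine ⟨h1.hBo, h1.hAB.symm, ?_, ?_, ?_⟩
      · intro h
        have h3 : v σ Γ₁ = 0 := by rw [← h]; exact h2
        rcases hS.hb with h4 | h4 <;> omega
      · intro h
        have h3 : v σ Γ₂ = 0 := by rw [← h]; exact h2
        rcases hS.hc with h4 | h4 <;> omega
      · exact congrArg Θf (hvι φ)
    · intro φ φ' hφ hφ' hΘeq
      by_contra hcon
      push Not at hcon
      have h1 := hΘ φ hφ
      have h1' := hΘ φ' hφ'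
      rcases hK φ hφ _ _ _ _ h1 φ' (hN φ' hφ').1 hcon.1 hcon.2 with h | h
      · have h2 := h.2
        have hΘeq' : Θf (v φ) = Θf (v φ') := hΘeq
        rw [hΘeq'] at h2
        rcases h1'.hb with h3 | h3 <;> omega
      · exact hall φ' hφ' h.1
    · intro φ hφ ψ
      have h1 := (hΘ φ hφ).hf ψ
      rw [← (hσK φ hφ).1, hε φ hφ] at h1
      exact h1
  · right
    push Not at hC
    obtain ⟨A, B, a, b, hAB⟩ := sh2_exists o (v φs) (hvo φs (hN φs hφs).1) (hsq3 φs hφs)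
    obtain ⟨Y, X, y, x, h0, hσY, hσX⟩ :
        ∃ (Y X : I) (y x : ℤ), Sh2 o (v φs) Y X y x ∧ v σ Y = y ∧ v σ X = 0 := by
      rcases hK φs hφs A B a b hAB σ hσe (hσN φs hφs).1 (hσN φs hφs).2 with h | h
      · exact ⟨A, B, a, b, hAB, h.1, h.2⟩
      · exact ⟨B, A, b, a, hAB.symm, h.2, h.1⟩
    have hy0 : y ≠ 0 := by rcases h0.ha with h | h <;> rw [h] <;> norm_num
    have hx0 : x ≠ 0 := by rcases h0.hb with h | h <;> rw [h] <;> norm_num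
    obtain ⟨φ1, hφ1, hφ1Y⟩ := hC Y h0.hAo (by rw [hσY]; exact hy0)
    have h10 : φ1 ≠ φs := by
      intro h
      rw [h, h0.left] at hφ1Y
      exact hy0 hφ1Y
    have h10' : φ1 ≠ ι φs := by
      intro h
      rw [h, hvι, h0.left] at hφ1Y
      exact hy0 hφ1Y
    have hφ1X : v φ1 X = x := by
      rcases hK φs hφs Y X y x h0 φ1 (hN φ1 hφ1).1 h10 h10' with h | h
      · rw [hφ1Y] at h; exact absurd h.1.symm hy0
      · exact h.2
    obtain ⟨Y1, h1⟩ := sh2_of o (v φ1) (hvo φ1 (hN φ1 hφ1).1) (hsq3 φ1 hφ1) X h0.hBo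
      (by rw [hφ1X]; exact hx0)
    rw [hφ1X] at h1
    have hσY1 : v σ Y1 = v φ1 Y1 := by
      rcases hK φ1 hφ1 X Y1 x _ h1 σ hσe (hσN φ1 hφ1).1 (hσN φ1 hφ1).2 with h | h
      · rw [hσX] at h; exact absurd h.1.symm hx0
      · exact h.2
    have hy10 : v φ1 Y1 ≠ 0 := by rcases h1.hb with h | h <;> rw [h] <;> norm_num
    have hY1Y : Y1 ≠ Y := by
      intro h
      rw [h] at hy10
      exact hy10 hφ1Y
    obtain ⟨Γ₂, hS⟩ := sh3_of₂ o (v σ) (hvo σ hσe) hsq4 Y Y1 h0.hAo h1.hBo hY1Y.symm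
      (by rw [hσY]; exact hy0) (by rw [hσY1]; exact hy10)
    rw [hσY, hσY1] at hS
    have hall : ∀ φ : Φ, φ = e ∨ φ = σ ∨ φ = φs ∨ φ = ι φs ∨ φ = φ1 ∨ φ = ι φ1 := by
      intro φ
      by_contra hcon
      push Not at hcon
      obtain ⟨he, hs, hφ0, hφ0', hφ1', hφ1''⟩ := hcon
      have hφ : ι φ ≠ φ := fun h => by
        rcases hfix φ h with h | h
        · exact he h
        · exact hs h
      rcases hK φs hφs Y X y x h0 φ he hφ0 hφ0' with hA | hA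
      · rcases hK φ1 hφ1 X Y1 x _ h1 φ he hφ1' hφ1'' with hB | hB
        · rw [hA.2] at hB; exact hx0 hB.1.symm
        · obtain ⟨B', h2⟩ := sh2_of o (v φ) (hvo φ he) (hsq3 φ hφ) Y h0.hAo
            (by rw [hA.1]; exact hy0)
          have h3 : Y1 = B' := by
            rcases h2.mem_of_ne_zero h1.hBo (by rw [hB.2]; exact hy10) with h | h
            · exact absurd h hY1Y
            · exact h
          rw [← h3] at h2
          rcases hK φ hφ Y Y1 _ _ h2 σ hσe (hσN φ hφ).1 (hσN φ hφ).2 with h | h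
          · have h4 := h.2
            rw [hσY1] at h4
            exact hy10 h4
          · have h4 := h.1
            rw [hσY] at h4
            exact hy0 h4
      · obtain ⟨Y2, h2⟩ := sh2_of o (v φ) (hvo φ he) (hsq3 φ hφ) X h0.hBo
          (by rw [hA.2]; exact hx0)
        rw [hA.2] at h2
        have hy20 : v φ Y2 ≠ 0 := by rcases h2.hb with h | h <;> rw [h] <;> norm_num
        have hσY2 : v σ Y2 = v φ Y2 := by
          rcases hK φ hφ X Y2 x _ h2 σ hσe (hσN φ hφ).1 (hσN φ hφ).2 with h | h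
          · rw [hσX] at h; exact absurd h.1.symm hx0
          · exact h.2
        have hφY1 : v φ Y1 = 0 := by
          rcases hK φ1 hφ1 X Y1 x _ h1 φ he hφ1' hφ1'' with hB | hB
          · exact hB.2
          · rw [hA.2] at hB; exact absurd hB.1 hx0
        have hY2 : Y2 = Γ₂ := by
          rcases hS.mem_of_ne_zero h2.hBo (by rw [hσY2]; exact hy20) with h | h | h
          · rw [h, hA.1] at hy20; exact absurd rfl hy20
          · rw [h, hφY1] at hy20; exact absurd rfl hy20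
          · exact h
        rw [← hY2] at hS
        have d0 := hdeg φs (hN φs hφs).1
        rw [h0.sum] at d0
        have d1 := hdeg φ1 (hN φ1 hφ1).1
        rw [h1.sum] at d1
        have d2 := hdeg φ he
        rw [h2.sum] at d2
        have d3 := hdeg σ hσe
        rw [hS.sum, hσY2] at d3
        rw [hdo] at d0 d1 d2 d3
        have h5 : 3 * (x * d X) = 2 := by linarith
        generalize x * d X = T at h5
        omega
    refine ⟨φs, φ1, Y, X, Y1, Γ₂, y, x, v φ1 Y1, v σ Γ₂, ?_⟩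
    exact { hδ := h0.ha, hε := h0.hb, hδ₁ := h1.hb, hδ₂ := hS.hc, h₀ := hφs, h₁ := hφ1,
            h₁₀ := h10, h₁₀' := h10', hall := hall, hΛo := h0.hAo, hΘo := h0.hBo,
            hΓ₁o := h1.hBo, hΓ₂o := hS.hCo, hΘΛ := h0.hAB.symm, hΓ₁Λ := hY1Y,
            hΓ₂Λ := hS.hAC.symm, hΓ₁Θ := h1.hAB.symm,
            hΓ₂Θ := fun h => by
              have h4 := hS.hc
              rw [h, hσX] at h4
              omega,
            hΓ := hS.hBC, hv₀ := h0.hf, hv₁ := h1.hf, hσ := hS.hf }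

end Cfsg.Agent.Lib.Helper95.BSWCombB
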