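import Mathlib
import Cfsg.Agent.Lib.Helper25.BSWSpec2
import Cfsg.Agent.Lib.Helper95.BSWCombB

/-!
Piece `CombB2` of S3282: bridge from `BSWCombB.main` to the corrected specification.
-/

set_option autoImplicit false

namespace Cfsg.Agent.Lib.Helper95.BSWCombB2

universe u

theorem main : Cfsg.Agent.Lib.Helper25.BSWSpec.CombB2.{u} :=
  Cfsg.Agent.Lib.Helper95.BSWCombB.main

end Cfsg.Agent.Lib.Helper95.BSWCombB2
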