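import Mathlib
import Cfsg.Agent.Lib.Helper25.BSWSpec

/-!
Piece `Dual` of S3282: the dual group of `K`.
-/

set_option autoImplicit false

namespace Cfsg.Agent.Lib.Helper95.BSWDual

universe u

/-- the dual group of a finite abelian group with exactly one involution -/
theorem dual_aux (A : Type u) [CommGroup A] [Finite A] [Fintype (A →* ℂˣ)] (t : A) (k : ℕ)
    (hcard : Nat.card A = k) (ht : orderOf t = 2) (hinv : ∀ x : A, orderOf x = 2 → x = t)
    (hk : 4 ≤ k) :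
    Fintype.card (A →* ℂˣ) = k ∧
    (∀ x : A, x ≠ 1 → ∑ φ : A →* ℂˣ, ((φ x : ℂˣ) : ℂ) = 0) ∧
    (∃ φ₀ : A →* ℂˣ, φ₀⁻¹ ≠ φ₀) ∧
    ∃ σ : A →* ℂˣ, σ ≠ 1 ∧ σ⁻¹ = σ ∧ ∀ φ : A →* ℂˣ, φ⁻¹ = φ → φ = 1 ∨ φ = σ := by
  classical
  obtain ⟨e⟩ := CommGroup.monoidHom_mulEquiv_of_hasEnoughRootsOfUnity A ℂ
  have hc : Fintype.card (A →* ℂˣ) = k := by
    rw [← Nat.card_eq_fintype_card, Nat.card_congr e.toEquiv, hcard]
  have ht1 : t ≠ 1 := by
    rintro rfl
    rw [orderOf_one] at ht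
    omega
  have ht2 : t⁻¹ = t := by
    have h := pow_orderOf_eq_one t
    rw [ht, pow_two] at h
    exact inv_eq_of_mul_eq_one_left h
  have hσ : ∀ φ : A →* ℂˣ, φ⁻¹ = φ → φ = 1 ∨ φ = e.symm t := by
    intro φ hφ
    have h1 : (e φ)⁻¹ = e φ := by rw [← map_inv, hφ]
    by_cases h2 : e φ = 1
    · left
      exact (MulEquiv.map_eq_one_iff e).mp h2
    · right
      have h3 : e φ ^ 2 = 1 := by
        rw [pow_two]
        nth_rewrite 1 [← h1]
        exact inv_mul_cancel _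
      have h4 : orderOf (e φ) = 2 := orderOf_eq_prime h3 h2
      rw [← hinv _ h4, MulEquiv.symm_apply_apply]
  refine ⟨hc, ?_, ?_, e.symm t, ?_, ?_, hσ⟩
  · intro x hx
    obtain ⟨φ₀, hφ₀⟩ := CommGroup.exists_apply_ne_one_of_hasEnoughRootsOfUnity A ℂ hx
    have h1 : ∑ φ : A →* ℂˣ, ((φ x : ℂˣ) : ℂ)
        = ((φ₀ x : ℂˣ) : ℂ) * ∑ φ : A →* ℂˣ, ((φ x : ℂˣ) : ℂ) := by
      rw [Finset.mul_sum]
      rw [← Equiv.sum_comp (Equiv.mulLeft φ₀) (fun φ : A →* ℂˣ => ((φ x : ℂˣ) : ℂ))]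
      refine Finset.sum_congr rfl (fun φ _ => ?_)
      simp
    have h2 : ((φ₀ x : ℂˣ) : ℂ) ≠ 1 := by
      intro h
      apply hφ₀
      exact Units.ext h
    have h3 : (1 - ((φ₀ x : ℂˣ) : ℂ)) * ∑ φ : A →* ℂˣ, ((φ x : ℂˣ) : ℂ) = 0 := by
      rw [sub_mul, one_mul, ← h1, sub_self]
    rcases mul_eq_zero.mp h3 with h4 | h4
    · exact absurd (sub_eq_zero.mp h4).symm h2
    · exact h4
  · by_contra hcon
    push Not at hcon
    have h1 : (Finset.univ : Finset (A →* ℂˣ)) ⊆ {1, e.symm t} := by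
      intro φ _
      rcases hσ φ (hcon φ) with h | h
      · simp [h]
      · simp [h]
    have h2 := Finset.card_le_card h1
    have h3 : ({1, e.symm t} : Finset (A →* ℂˣ)).card ≤ 2 := Finset.card_le_two
    rw [Finset.card_univ, hc] at h2
    omega
  · intro h
    apply ht1
    have := congrArg e h
    simpa using this
  · apply e.injective
    rw [map_inv, MulEquiv.apply_symm_apply, ht2]

theorem main : Cfsg.Agent.Lib.Helper25.BSWSpec.Dual.{u} := by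
  intro G _ _ t K s k _ hb hk
  letI : CommGroup ↥K :=
    { (inferInstance : Group ↥K) with
      mul_comm := fun x y => Subtype.ext (hb.comm x x.2 y y.2) }
  have hcoe : ∀ x : ↥K, orderOf (x : G) = orderOf x := fun x => Subgroup.orderOf_coe x
  refine dual_aux ↥K ⟨t, hb.htK⟩ k hb.card_K ?_ ?_ hk
  · rw [← hcoe]
    exact hb.ht
  · intro x hx
    rw [← hcoe] at hx
    exact Subtype.ext (hb.invol_K x x.2 hx)

end Cfsg.Agent.Lib.Helper95.BSWDual
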