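import Mathlib
import Cfsg.Agent.Lib.Helper25.BSWSpec

/-!
Piece `Indep` of S3282: the linear characters of a finite group are linearly independent modulo
the regular character.
-/

set_option autoImplicit false

namespace Cfsg.Agent.Lib.Helper95.BSWIndep

universe u

theorem main : Cfsg.Agent.Lib.Helper25.BSWSpec.Indep.{u} := by
  intro G _ K _ _ _ a ha
  classical
  haveI : Fintype ↥K := Fintype.ofFinite _
  have key : ∀ ψ : ↥K →* ℂˣ, a ψ * (Fintype.card ↥K : ℂ) = ∑ φ : ↥K →* ℂˣ, a φ := by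
    intro ψ
    have h1 : ∑ x : ↥K, (∑ φ : ↥K →* ℂˣ, a φ * ((φ x : ℂˣ) : ℂ)) * (((ψ x)⁻¹ : ℂˣ) : ℂ)
        = ∑ φ : ↥K →* ℂˣ, a φ := by
      rw [← Finset.add_sum_erase _ _ (Finset.mem_univ (1 : ↥K))]
      rw [Finset.sum_eq_zero (s := Finset.univ.erase 1)]
      · simp
      · intro x hx
        rw [ha x (Finset.ne_of_mem_erase hx), zero_mul]
    have h2 : ∑ x : ↥K, (∑ φ : ↥K →* ℂˣ, a φ * ((φ x : ℂˣ) : ℂ)) * (((ψ x)⁻¹ : ℂˣ) : ℂ)
        = ∑ φ : ↥K →* ℂˣ, a φ * ∑ x : ↥K, ((φ x : ℂˣ) : ℂ) * (((ψ x)⁻¹ : ℂˣ) : ℂ) := by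
      simp_rw [Finset.sum_mul, Finset.mul_sum]
      rw [Finset.sum_comm]
      refine Finset.sum_congr rfl (fun φ _ => Finset.sum_congr rfl (fun x _ => by ring))
    have h3 : ∀ φ : ↥K →* ℂˣ, ∑ x : ↥K, ((φ x : ℂˣ) : ℂ) * (((ψ x)⁻¹ : ℂˣ) : ℂ)
        = if φ = ψ then (Fintype.card ↥K : ℂ) else 0 := by
      intro φ
      split_ifs with h
      · subst h
        simp
      · have hne : (Units.coeHom ℂ).comp (φ * ψ⁻¹) ≠ 1 := by
          intro h'
          apply h
          ext x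
          have h4 := DFunLike.congr_fun h' x
          simp only [MonoidHom.coe_comp, Function.comp_apply, MonoidHom.mul_apply,
            MonoidHom.inv_apply, Units.coeHom_apply, MonoidHom.one_apply] at h4
          have h5 : φ x * (ψ x)⁻¹ = 1 := Units.ext h4
          rw [mul_inv_eq_one] at h5
          rw [h5]
        have h6 := sum_hom_units_eq_zero ((Units.coeHom ℂ).comp (φ * ψ⁻¹)) hne
        simpa using h6
    rw [← h1, h2]
    simp_rw [h3]
    simp
  intro φ φ'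
  have hK : (Fintype.card ↥K : ℂ) ≠ 0 := by exact_mod_cast Fintype.card_ne_zero
  exact mul_right_cancel₀ hK ((key φ).trans (key φ').symm)

end Cfsg.Agent.Lib.Helper95.BSWIndep
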