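import Mathlib
import Cfsg.Agent.Lib.Helper44.BCStmt

set_option autoImplicit false

namespace Cfsg.Agent.Lib.Helper95.BCBLOCKDIAG

open Matrix

universe u

theorem blockdiag {F : Type u} [Field F] {ι : Type} [Fintype ι] [DecidableEq ι]
    (T D : Matrix ι ι F) (k₁ k₂ : ℕ) (T₂ : Matrix (Fin k₂) (Fin k₂) F)
    (J : (Fin k₁ ⊕ Fin k₂ → F) ≃ₗ[F] (ι → F))
    (hfix : ∀ v : Fin k₂ → F, T₂ *ᵥ v = v → v = 0)
    (hT : ∀ u : Fin k₁ ⊕ Fin k₂ → F,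
      T *ᵥ (J u) = J (Sum.elim (u ∘ Sum.inl) (T₂ *ᵥ (u ∘ Sum.inr))))
    (hDT : D * T = T * D) :
    ∃ (D₁ : Matrix (Fin k₁) (Fin k₁) F) (D₂ : Matrix (Fin k₂) (Fin k₂) F),
      (∀ u : Fin k₁ ⊕ Fin k₂ → F,
        D *ᵥ (J u) = J (Sum.elim (D₁ *ᵥ (u ∘ Sum.inl)) (D₂ *ᵥ (u ∘ Sum.inr)))) ∧
      D₂ * T₂ = T₂ * D₂ := by
  classical
  -- the conjugated maps
  let g : (Fin k₁ ⊕ Fin k₂ → F) →ₗ[F] (Fin k₁ ⊕ Fin k₂ → F) :=
    (J.symm : (ι → F) →ₗ[F] (Fin k₁ ⊕ Fin k₂ → F)) ∘ₗ D.mulVecLin ∘ₗ (J : (Fin k₁ ⊕ Fin k₂ → F) →ₗ[F] (ι → F))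
  let M : Matrix (Fin k₁ ⊕ Fin k₂) (Fin k₁ ⊕ Fin k₂) F := LinearMap.toMatrix' g
  let Mt : Matrix (Fin k₁ ⊕ Fin k₂) (Fin k₁ ⊕ Fin k₂) F := Matrix.fromBlocks 1 0 0 T₂
  have hM : ∀ u, D *ᵥ (J u) = J (M *ᵥ u) := by
    intro u
    have h1 : M *ᵥ u = g u := by
      show (LinearMap.toMatrix' g) *ᵥ u = g u
      rw [← Matrix.toLin'_apply, Matrix.toLin'_toMatrix']
    rw [h1]
    show D *ᵥ (J u) = J (J.symm (D *ᵥ (J u)))
    rw [LinearEquiv.apply_symm_apply]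
  have hMt : ∀ u, T *ᵥ (J u) = J (Mt *ᵥ u) := by
    intro u
    rw [hT u]
    congr 1
    show _ = Matrix.fromBlocks 1 0 0 T₂ *ᵥ u
    rw [Matrix.fromBlocks_mulVec]
    simp
  -- commutation
  have hcomm : M * Mt = Mt * M := by
    apply Matrix.toLin'.injective
    apply LinearMap.ext
    intro u
    rw [Matrix.toLin'_apply, Matrix.toLin'_apply, ← Matrix.mulVec_mulVec, ← Matrix.mulVec_mulVec]
    apply J.injective
    rw [← hM, ← hMt, ← hMt, ← hM, Matrix.mulVec_mulVec, Matrix.mulVec_mulVec, hDT]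
  -- blocks
  obtain ⟨A, B, C, E, hMb⟩ : ∃ A B C E, M = Matrix.fromBlocks A B C E :=
    ⟨M.toBlocks₁₁, M.toBlocks₁₂, M.toBlocks₂₁, M.toBlocks₂₂, (Matrix.fromBlocks_toBlocks M).symm⟩
  have hcomm2 : Matrix.fromBlocks A B C E * Matrix.fromBlocks 1 0 0 T₂
      = Matrix.fromBlocks 1 0 0 T₂ * Matrix.fromBlocks A B C E := by
    rw [← hMb]; exact hcomm
  rw [Matrix.fromBlocks_multiply, Matrix.fromBlocks_multiply] at hcomm2
  simp only [Matrix.mul_one, Matrix.mul_zero, Matrix.zero_mul, Matrix.one_mul, add_zero,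
    zero_add] at hcomm2
  rw [Matrix.fromBlocks_inj] at hcomm2
  obtain ⟨-, hB, hC, hE⟩ := hcomm2
  -- T₂ - 1 is invertible
  have hinj : Function.Injective (T₂ - 1).mulVec := by
    intro x y hxy
    have h1 : (T₂ - 1) *ᵥ (x - y) = 0 := by
      rw [Matrix.mulVec_sub, hxy, sub_self]
    rw [Matrix.sub_mulVec, Matrix.one_mulVec, sub_eq_zero] at h1
    exact sub_eq_zero.mp (hfix _ h1)
  have hunit : IsUnit (T₂ - 1) := Matrix.mulVec_injective_iff_isUnit.mp hinj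
  have hB0 : B = 0 := by
    have h1 : B * (T₂ - 1) = 0 := by rw [Matrix.mul_sub, Matrix.mul_one, hB, sub_self]
    obtain ⟨V, hV⟩ := hunit.exists_right_inv
    calc B = B * ((T₂ - 1) * V) := by rw [hV, Matrix.mul_one]
      _ = (B * (T₂ - 1)) * V := by rw [Matrix.mul_assoc]
      _ = 0 := by rw [h1, Matrix.zero_mul]
  have hC0 : C = 0 := by
    have h1 : (T₂ - 1) * C = 0 := by rw [Matrix.sub_mul, Matrix.one_mul, ← hC, sub_self]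
    obtain ⟨V, hV⟩ := hunit.exists_left_inv
    calc C = (V * (T₂ - 1)) * C := by rw [hV, Matrix.one_mul]
      _ = V * ((T₂ - 1) * C) := by rw [Matrix.mul_assoc]
      _ = 0 := by rw [h1, Matrix.mul_zero]
  refine ⟨A, E, ?_, hE⟩
  intro u
  rw [hM u, hMb, hB0, hC0, Matrix.fromBlocks_mulVec]
  simp

theorem main : Cfsg.Agent.Lib.Helper44.BCStmt.BlockDiag.{u} := by
  intro F _ ι _ _ T D k₁ k₂ T₂ J hfix hT hDT
  exact blockdiag T D k₁ k₂ T₂ J hfix hT hDT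

end Cfsg.Agent.Lib.Helper95.BCBLOCKDIAG
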