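import Mathlib
import Cfsg.Agent.Lib.Helper44.BCStmt

set_option autoImplicit false

namespace Cfsg.Agent.Lib.Helper95.BCIRRKILL

open Matrix Polynomial

universe u

theorem irr_kill {F : Type u} [Field F] {κ : Type} [Fintype κ] [DecidableEq κ]
    (T D : Matrix κ κ F) (hirr : Irreducible T.charpoly) (hDT : D * T = T * D)
    (v : κ → F) (hv : v ≠ 0) (hDv : D *ᵥ v = 0) : D = 0 := by
  classical
  have key : ∀ f : F[X], (aeval T f) *ᵥ v = 0 → T.charpoly ∣ f := by
    intro f hf
    by_contra hnd
    have hcop : IsCoprime T.charpoly f := (hirr.coprime_iff_not_dvd).mpr hnd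
    obtain ⟨a, b, hab⟩ := hcop
    have h1 : (aeval T (a * T.charpoly + b * f)) *ᵥ v = v := by rw [hab]; simp
    rw [map_add, map_mul, map_mul, Matrix.aeval_self_charpoly, mul_zero, zero_add,
      ← Matrix.mulVec_mulVec, hf, Matrix.mulVec_zero] at h1
    exact hv h1.symm
  have hpow : ∀ i : ℕ, D * T ^ i = T ^ i * D := by
    intro i
    induction i with
    | zero => simp
    | succ i ih => rw [pow_succ, ← mul_assoc, ih, mul_assoc, hDT, mul_assoc]
  set n := Fintype.card κ with hn
  have hli : LinearIndependent F (fun i : Fin n => (T ^ (i : ℕ)) *ᵥ v) := by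
    rw [Fintype.linearIndependent_iff]
    intro c hc i
    have hf : (aeval T (∑ i : Fin n, C (c i) * X ^ (i : ℕ))) *ᵥ v = 0 := by
      rw [map_sum, Matrix.sum_mulVec, ← hc]
      refine Finset.sum_congr rfl (fun j _ => ?_)
      rw [map_mul, aeval_C, map_pow, aeval_X, Algebra.algebraMap_eq_smul_one, Matrix.smul_mul,
        Matrix.one_mul, Matrix.smul_mulVec]
    have hdvd := key _ hf
    have hdeg : (∑ i : Fin n, C (c i) * X ^ (i : ℕ)).degree < (n : WithBot ℕ) :=
      Polynomial.degree_sum_fin_lt c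
    have h0 : (∑ i : Fin n, C (c i) * X ^ (i : ℕ)) = 0 :=
      Polynomial.eq_zero_of_dvd_of_degree_lt hdvd (by rw [Matrix.charpoly_degree_eq_dim]; exact hdeg)
    have h1 := congrArg (fun g => g.coeff (i : ℕ)) h0
    simp only [Polynomial.finsetSum_coeff, coeff_C_mul, coeff_X_pow, coeff_zero] at h1
    rw [Finset.sum_eq_single i] at h1
    · simpa using h1
    · intro j _ hji
      rw [if_neg, mul_zero]
      intro h
      exact hji (Fin.ext h.symm)
    · intro h; exact absurd (Finset.mem_univ i) h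
  have hspan : Submodule.span F (Set.range (fun i : Fin n => (T ^ (i : ℕ)) *ᵥ v)) = ⊤ :=
    hli.span_eq_top_of_card_eq_finrank' (by simp [hn])
  have hker : ∀ w : κ → F, D *ᵥ w = 0 := by
    intro w
    have hw : w ∈ Submodule.span F (Set.range (fun i : Fin n => (T ^ (i : ℕ)) *ᵥ v)) := by
      rw [hspan]; exact Submodule.mem_top
    induction hw using Submodule.span_induction with
    | mem x hx =>
      obtain ⟨i, rfl⟩ := hx
      show D *ᵥ (T ^ (i : ℕ) *ᵥ v) = 0
      rw [Matrix.mulVec_mulVec, hpow, ← Matrix.mulVec_mulVec, hDv, Matrix.mulVec_zero]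
    | zero => exact Matrix.mulVec_zero _
    | add x y _ _ hx hy => rw [Matrix.mulVec_add, hx, hy, add_zero]
    | smul a x _ hx => rw [Matrix.mulVec_smul, hx, smul_zero]
  ext i j
  have := congrFun (hker (Pi.single j 1)) i
  simpa using this

theorem main : Cfsg.Agent.Lib.Helper44.BCStmt.IrrKill.{u} := by
  intro F _ κ _ _ T D hirr hDT ⟨v, hv, hDv⟩
  exact irr_kill T D hirr hDT v hv hDv

end Cfsg.Agent.Lib.Helper95.BCIRRKILL
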