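import Mathlib
import Cfsg.Agent.Lib.Helper44.BCStmt

set_option autoImplicit false

namespace Cfsg.Agent.Lib.Helper95.BCSPLIT

open Matrix

universe u

theorem pow_fix {F : Type u} [Field F] {ι : Type} [Fintype ι] [DecidableEq ι]
    (T : Matrix ι ι F) (x : ι → F) (hx : T *ᵥ x = x) (i : ℕ) : (T ^ i) *ᵥ x = x := by
  induction i with
  | zero => simp
  | succ i ih => rw [pow_succ, ← Matrix.mulVec_mulVec, hx, ih]

theorem disj {F : Type u} [Field F] {ι : Type} [Fintype ι] [DecidableEq ι]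
    (T : Matrix ι ι F) (r : ℕ) (hr : (r : F) ≠ 0) (hT : T ^ r = 1)
    (x y : ι → F) (hx : T *ᵥ x = x) (hy : x = (T - 1) *ᵥ y) : x = 0 := by
  have h1 : (∑ i ∈ Finset.range r, T ^ i) *ᵥ x = (r : F) • x := by
    rw [Matrix.sum_mulVec]
    rw [Finset.sum_congr rfl (fun i _ => pow_fix T x hx i)]
    rw [Finset.sum_const, Finset.card_range, Nat.cast_smul_eq_nsmul]
  have h2 : (∑ i ∈ Finset.range r, T ^ i) *ᵥ x = 0 := by
    rw [hy, Matrix.mulVec_mulVec, geom_sum_mul, hT, sub_self, Matrix.zero_mulVec]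
  rw [h1] at h2
  rcases smul_eq_zero.mp h2 with h | h
  · exact absurd h hr
  · exact h

theorem split {F : Type u} [Field F] {ι : Type} [Fintype ι] [DecidableEq ι]
    (T : Matrix ι ι F) (r : ℕ) (hr : (r : F) ≠ 0) (hT : T ^ r = 1) :
    ∃ (k₁ k₂ : ℕ) (T₂ : Matrix (Fin k₂) (Fin k₂) F) (J : (Fin k₁ ⊕ Fin k₂ → F) ≃ₗ[F] (ι → F)),
      (∀ v : Fin k₂ → F, T₂ *ᵥ v = v → v = 0) ∧
      (∀ u : Fin k₁ ⊕ Fin k₂ → F,
        T *ᵥ (J u) = J (Sum.elim (u ∘ Sum.inl) (T₂ *ᵥ (u ∘ Sum.inr)))) := by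
  classical
  set V₁ : Submodule F (ι → F) := LinearMap.ker (T - 1).mulVecLin with hV₁
  set W : Submodule F (ι → F) := LinearMap.range (T - 1).mulVecLin with hW
  have hV₁mem : ∀ x : ι → F, x ∈ V₁ ↔ T *ᵥ x = x := by
    intro x
    rw [hV₁, LinearMap.mem_ker, Matrix.mulVecLin_apply, Matrix.sub_mulVec, Matrix.one_mulVec,
      sub_eq_zero]
  have hWmem : ∀ x : ι → F, x ∈ W ↔ ∃ y, (T - 1) *ᵥ y = x := by
    intro x
    rw [hW, LinearMap.mem_range]
    rfl
  have hdisj : Disjoint V₁ W := by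
    rw [Submodule.disjoint_def]
    intro x hx1 hx2
    obtain ⟨y, hy⟩ := (hWmem x).mp hx2
    exact disj T r hr hT x y ((hV₁mem x).mp hx1) hy.symm
  have hdim : Module.finrank F V₁ + Module.finrank F W = Module.finrank F (ι → F) := by
    rw [add_comm]
    exact LinearMap.finrank_range_add_finrank_ker (T - 1).mulVecLin
  have hcompl : IsCompl V₁ W :=
    ⟨hdisj, codisjoint_iff.mpr (Submodule.eq_top_of_disjoint V₁ W hdim.ge hdisj)⟩
  have hstab : ∀ x ∈ W, T.mulVecLin x ∈ W := by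
    intro x hx
    obtain ⟨y, hy⟩ := (hWmem x).mp hx
    refine (hWmem _).mpr ⟨T *ᵥ y, ?_⟩
    rw [Matrix.mulVecLin_apply, ← hy, Matrix.mulVec_mulVec, Matrix.mulVec_mulVec]
    congr 1
    noncomm_ring
  let b₁ := Module.finBasis F V₁
  let b₂ := Module.finBasis F W
  let TW : W →ₗ[F] W := T.mulVecLin.restrict hstab
  let T₂ : Matrix (Fin (Module.finrank F W)) (Fin (Module.finrank F W)) F :=
    LinearMap.toMatrix b₂ b₂ TW
  let J : (Fin (Module.finrank F V₁) ⊕ Fin (Module.finrank F W) → F) ≃ₗ[F] (ι → F) :=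
    ((LinearEquiv.sumArrowLequivProdArrow (Fin (Module.finrank F V₁)) (Fin (Module.finrank F W))
      F F).trans (b₁.equivFun.symm.prodCongr b₂.equivFun.symm)).trans
      (Submodule.prodEquivOfIsCompl V₁ W hcompl)
  have hJ : ∀ u, J u = ((b₁.equivFun.symm (u ∘ Sum.inl) : V₁) : ι → F)
      + ((b₂.equivFun.symm (u ∘ Sum.inr) : W) : ι → F) := by
    intro u
    rfl
  have hT₂ : ∀ w : Fin (Module.finrank F W) → F,
      ((b₂.equivFun.symm (T₂ *ᵥ w) : W) : ι → F) = T *ᵥ ((b₂.equivFun.symm w : W) : ι → F) := by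
    intro w
    have h1 := LinearMap.toMatrix_mulVec_repr b₂ b₂ TW (b₂.equivFun.symm w)
    have h2 : (⇑(b₂.repr (b₂.equivFun.symm w)) : Fin (Module.finrank F W) → F) = w := by
      have := b₂.equivFun.apply_symm_apply w
      exact this
    rw [h2] at h1
    have h3 : T₂ *ᵥ w = b₂.equivFun (TW (b₂.equivFun.symm w)) := h1
    rw [h3, LinearEquiv.symm_apply_apply]
    rfl
  refine ⟨Module.finrank F V₁, Module.finrank F W, T₂, J, ?_, ?_⟩
  · intro v hv
    have h1 := hT₂ v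
    rw [hv] at h1
    have h2 : ((b₂.equivFun.symm v : W) : ι → F) ∈ V₁ := (hV₁mem _).mpr h1.symm
    have h3 : ((b₂.equivFun.symm v : W) : ι → F) ∈ V₁ ⊓ W :=
      Submodule.mem_inf.mpr ⟨h2, (b₂.equivFun.symm v).2⟩
    rw [hdisj.eq_bot, Submodule.mem_bot] at h3
    have h4 : b₂.equivFun.symm v = 0 := Subtype.ext h3
    have h5 := congrArg b₂.equivFun h4
    rwa [LinearEquiv.apply_symm_apply, map_zero] at h5
  · intro u
    rw [hJ, hJ, Matrix.mulVec_add]
    congr 1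
    · exact (hV₁mem _).mp (b₁.equivFun.symm (u ∘ Sum.inl)).2
    · exact (hT₂ _).symm

theorem main : Cfsg.Agent.Lib.Helper44.BCStmt.Split.{u} := by
  intro F _ ι _ _ T r _ hr hT
  exact split T r hr hT

end Cfsg.Agent.Lib.Helper95.BCSPLIT
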