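import Mathlib
import Cfsg.Agent.Lib.Helper19.BTGen

/-!
helper95: S2369, shared lemmas on the cells of a Bruhat decomposition (for the pieces UPFIX and
CELLCOUNT).
-/

set_option autoImplicit false

namespace Cfsg.Agent.Lib.Helper95.BTCommon

open Cfsg.Agent.Lib.Helper19.BTGen

universe u

variable {G : Type u} [Group G] {B : Subgroup G} {ι : Type} {n : ι → G}

theorem incell_mk_iff (w : ι) (g : G) :
    InCell B n w (QuotientGroup.mk g : G ⧸ B) ↔ ∃ b ∈ B, ∃ b' ∈ B, g = b * n w * b' := by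
  constructor
  · rintro ⟨b, hb, h⟩
    have h1 : (b * n w)⁻¹ * g ∈ B := QuotientGroup.eq.mp h
    exact ⟨b, hb, (b * n w)⁻¹ * g, h1, by group⟩
  · rintro ⟨b, hb, b', hb', rfl⟩
    refine ⟨b, hb, ?_⟩
    rw [QuotientGroup.eq]
    have e : (b * n w)⁻¹ * (b * n w * b') = b' := by group
    rw [e]
    exact hb'

theorem cell_exists (hc : Cover B n) (x : G ⧸ B) : ∃ w, InCell B n w x := by
  obtain ⟨g, rfl⟩ := QuotientGroup.mk_surjective x
  obtain ⟨w, b, hb, b', hb', h⟩ := hc g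
  exact ⟨w, (incell_mk_iff w g).mpr ⟨b, hb, b', hb', h⟩⟩

theorem cell_unique (hd : Disj B n) {x : G ⧸ B} {w w' : ι} (h : InCell B n w x)
    (h' : InCell B n w' x) : w = w' := by
  obtain ⟨g, rfl⟩ := QuotientGroup.mk_surjective x
  obtain ⟨b, hb, b₁, hb₁, h1⟩ := (incell_mk_iff w g).mp h
  obtain ⟨c, hc, c₁, hc₁, h2⟩ := (incell_mk_iff w' g).mp h'
  apply hd w w' (c⁻¹ * b) (B.mul_mem (B.inv_mem hc) hb) (b₁ * c₁⁻¹)
    (B.mul_mem hb₁ (B.inv_mem hc₁))
  have e : n w' = c⁻¹ * g * c₁⁻¹ := by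
    rw [h2]
    group
  rw [e, h1]
  group

theorem smul_mk (a g : G) :
    a • (QuotientGroup.mk g : G ⧸ B) = QuotientGroup.mk (a * g) := rfl

theorem smul_cell (a : G) (ha : a ∈ B) {w : ι} {x : G ⧸ B} (h : InCell B n w x) :
    InCell B n w (a • x) := by
  obtain ⟨b, hb, rfl⟩ := h
  exact ⟨a * b, B.mul_mem ha hb, by rw [smul_mk, mul_assoc]⟩

end Cfsg.Agent.Lib.Helper95.BTCommon
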