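import Mathlib
import Cfsg.Agent.Lib.Helper19.BTGen
import Cfsg.Agent.Lib.Helper95.BTCommon

/-!
helper95: S2369 piece CELLCOUNT: counting the fixed cosets of `B` cell by cell.
-/

set_option autoImplicit false

namespace Cfsg.Agent.Lib.Helper95.BTCELLCOUNT

open Cfsg.Agent.Lib.Helper19.BTGen Cfsg.Agent.Lib.Helper95.BTCommon

universe u

theorem main : CellCount.{u} := by
  intro G _ _ B ι _ _ n U₁ U₂ e w₀ a hcov hdis hne hU he1 he2 hw1 hw2 ha htop
  classical
  have L3 : ∀ x : G ⧸ B, InCell B n e x → x = QuotientGroup.mk 1 := by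
    rintro x ⟨b, hb, rfl⟩
    rw [QuotientGroup.eq, mul_one]
    exact B.inv_mem (B.mul_mem hb hne)
  have L4 : InCell B n e (QuotientGroup.mk 1 : G ⧸ B) :=
    ⟨(n e)⁻¹, B.inv_mem hne, by rw [inv_mul_cancel]⟩
  have L5 : a • (QuotientGroup.mk 1 : G ⧸ B) = QuotientGroup.mk 1 := by
    rw [smul_mk, QuotientGroup.eq]
    have e1 : (a * 1)⁻¹ * 1 = a⁻¹ := by group
    rw [e1]
    exact B.inv_mem ha
  have L6 : ∀ x : G ⧸ B, a • x = x → ¬ InCell B n w₀ x := by
    rintro x hx ⟨b, hb, rfl⟩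
    rw [smul_mk, QuotientGroup.eq] at hx
    apply htop b hb
    have e1 : (n w₀)⁻¹ * (b⁻¹ * a * b) * n w₀ = ((a * (b * n w₀))⁻¹ * (b * n w₀))⁻¹ := by
      group
    rw [e1]
    exact B.inv_mem hx
  have key1 : {x : G ⧸ B | a • x = x ∧ ∃ w ∈ U₁, InCell B n w x} ∪
      {x : G ⧸ B | a • x = x ∧ ∃ w ∈ U₂, InCell B n w x} = {x : G ⧸ B | a • x = x} := by
    ext x
    simp only [Set.mem_union, Set.mem_setOf_eq]
    constructor
    · rintro (h | h) <;> exact h.1
    · intro hx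
      obtain ⟨w, hw⟩ := cell_exists hcov x
      have hw0 : w ≠ w₀ := by
        intro h
        rw [h] at hw
        exact L6 x hx hw
      by_cases hwe : w = e
      · exact Or.inl ⟨hx, w, by rw [hwe]; exact he1, hw⟩
      · by_cases hw1' : w ∈ U₁
        · exact Or.inl ⟨hx, w, hw1', hw⟩
        · refine Or.inr ⟨hx, w, ?_, hw⟩
          by_contra hw2'
          exact hw1' ((hU w hwe hw0).mpr hw2')
  have key2 : {x : G ⧸ B | a • x = x ∧ ∃ w ∈ U₁, InCell B n w x} ∩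
      {x : G ⧸ B | a • x = x ∧ ∃ w ∈ U₂, InCell B n w x} =
      {(QuotientGroup.mk 1 : G ⧸ B)} := by
    ext x
    simp only [Set.mem_inter_iff, Set.mem_setOf_eq, Set.mem_singleton_iff]
    constructor
    · rintro ⟨⟨hx, w, hw1', hc⟩, ⟨-, w', hw2', hc'⟩⟩
      have hww : w = w' := cell_unique hdis hc hc'
      rw [← hww] at hw2'
      have hwe : w = e := by
        by_contra hne'
        have hw0 : w ≠ w₀ := by
          intro h
          rw [h] at hw1'
          exact hw1 hw1'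
        exact (hU w hne' hw0).mp hw1' hw2'
      rw [hwe] at hc
      exact L3 x hc
    · rintro rfl
      exact ⟨⟨L5, e, he1, L4⟩, ⟨L5, e, he2, L4⟩⟩
  have h := Set.ncard_union_add_ncard_inter
    {x : G ⧸ B | a • x = x ∧ ∃ w ∈ U₁, InCell B n w x}
    {x : G ⧸ B | a • x = x ∧ ∃ w ∈ U₂, InCell B n w x}
  rw [key1, key2, Set.ncard_singleton] at h
  have c1 : Nat.card {x : G ⧸ B // a • x = x ∧ ∃ w ∈ U₁, InCell B n w x} =
      Set.ncard {x : G ⧸ B | a • x = x ∧ ∃ w ∈ U₁, InCell B n w x} := Nat.card_coe_set_eq _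
  have c2 : Nat.card {x : G ⧸ B // a • x = x ∧ ∃ w ∈ U₂, InCell B n w x} =
      Set.ncard {x : G ⧸ B | a • x = x ∧ ∃ w ∈ U₂, InCell B n w x} := Nat.card_coe_set_eq _
  have c3 : Nat.card {x : G ⧸ B // a • x = x} = Set.ncard {x : G ⧸ B | a • x = x} :=
    Nat.card_coe_set_eq _
  rw [c1, c2, c3]
  exact h.symm

end Cfsg.Agent.Lib.Helper95.BTCELLCOUNT
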