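import Mathlib
import Cfsg.Agent.Lib.Helper19.BTGen
import Cfsg.Agent.Lib.Helper95.BTCommon

/-!
helper95: S2369 piece UPFIX: the fixed cosets of a minimal parabolic subgroup `P = B ∪ B s B`
correspond to the fixed cosets of `B` in the cells that are "up" for `s`.
-/

set_option autoImplicit false

namespace Cfsg.Agent.Lib.Helper95.BTUPFIX

open Cfsg.Agent.Lib.Helper19.BTGen Cfsg.Agent.Lib.Helper95.BTCommon

universe u

theorem main : UpFix.{u} := by
  intro G _ _ B P ι _ _ n s t U a hcov hdis hpar hstr hU htt ha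
  classical
  have hBP : B ≤ P := fun g hg => (hpar g).mpr (Or.inl hg)
  have hsP : s ∈ P := (hpar s).mpr (Or.inr ⟨1, B.one_mem, 1, B.one_mem, by group⟩)
  -- two cosets of `B` in up-cells inside the same coset of `P` are equal
  have hinj : ∀ g g' : G, (∃ w ∈ U, InCell B n w (QuotientGroup.mk g : G ⧸ B)) →
      (∃ w ∈ U, InCell B n w (QuotientGroup.mk g' : G ⧸ B)) → g⁻¹ * g' ∈ P →
      (QuotientGroup.mk g : G ⧸ B) = QuotientGroup.mk g' := by
    rintro g g' ⟨w, hw, hc⟩ ⟨w', hw', hc'⟩ hp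
    rcases (hpar _).mp hp with hb | ⟨β, hβ, β', hβ', hp'⟩
    · exact QuotientGroup.eq.mpr hb
    · exfalso
      obtain ⟨b, hb, b₁, hb₁, hg⟩ := (incell_mk_iff w g).mp hc
      obtain ⟨c, hc1, c', hc1', hs⟩ := hstr w hw (b₁ * β) (B.mul_mem hb₁ hβ)
      have hg' : InCell B n (t w) (QuotientGroup.mk g' : G ⧸ B) := by
        rw [incell_mk_iff]
        refine ⟨b * c, B.mul_mem hb hc1, c' * β', B.mul_mem hc1' hβ', ?_⟩
        have e1 : g' = g * (g⁻¹ * g') := by group
        have e2 : b * n w * b₁ * (β * s * β') = b * (n w * (b₁ * β) * s) * β' := by group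
        rw [e1, hp', hg, e2, hs]
        group
      have hww : w' = t w := cell_unique hdis hc' hg'
      rw [hww] at hw'
      exact (hU w).mp hw hw'
  have hπa : ∀ x : G ⧸ B, Subgroup.quotientMapOfLE hBP (a • x) =
      a • Subgroup.quotientMapOfLE hBP x := by
    intro x
    obtain ⟨g, rfl⟩ := QuotientGroup.mk_surjective x
    rfl
  let f : {x : G ⧸ B // a • x = x ∧ ∃ w ∈ U, InCell B n w x} → {x : G ⧸ P // a • x = x} :=
    fun x => ⟨Subgroup.quotientMapOfLE hBP x.1, by rw [← hπa, x.2.1]⟩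
  have hf : Function.Bijective f := by
    constructor
    · rintro ⟨x, hx, hxc⟩ ⟨x', hx', hxc'⟩ h
      have h1 : Subgroup.quotientMapOfLE hBP x = Subgroup.quotientMapOfLE hBP x' :=
        congrArg Subtype.val h
      obtain ⟨g, rfl⟩ := QuotientGroup.mk_surjective x
      obtain ⟨g', rfl⟩ := QuotientGroup.mk_surjective x'
      rw [Subgroup.quotientMapOfLE_apply_mk, Subgroup.quotientMapOfLE_apply_mk,
        QuotientGroup.eq] at h1
      exact Subtype.ext (hinj g g' hxc hxc' h1)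
    · rintro ⟨z, hz⟩
      obtain ⟨g, rfl⟩ := QuotientGroup.mk_surjective z
      obtain ⟨g₀, hup, hgP⟩ : ∃ g₀ : G,
          (∃ w ∈ U, InCell B n w (QuotientGroup.mk g₀ : G ⧸ B)) ∧ g₀⁻¹ * g ∈ P := by
        obtain ⟨w, b, hb, b', hb', hg⟩ := hcov g
        by_cases hw : w ∈ U
        · refine ⟨g, ⟨w, hw, (incell_mk_iff w g).mpr ⟨b, hb, b', hb', hg⟩⟩, ?_⟩
          rw [inv_mul_cancel]
          exact P.one_mem
        · have htw : t w ∈ U := by
            by_contra h
            exact hw ((hU w).mpr h)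
          obtain ⟨c, hc, c', hc', hs⟩ := hstr (t w) htw 1 B.one_mem
          rw [htt w, mul_one] at hs
          refine ⟨b * c⁻¹ * n (t w), ⟨t w, htw, (incell_mk_iff _ _).mpr
            ⟨b * c⁻¹, B.mul_mem hb (B.inv_mem hc), 1, B.one_mem, by group⟩⟩, ?_⟩
          have hnw : n w = c⁻¹ * (n (t w) * s) * c'⁻¹ := by
            rw [hs]
            group
          have e : (b * c⁻¹ * n (t w))⁻¹ * g = s * (c'⁻¹ * b') := by
            rw [hg, hnw]
            group
          rw [e]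
          exact P.mul_mem hsP (hBP (B.mul_mem (B.inv_mem hc') hb'))
      have hfix : a • (QuotientGroup.mk g₀ : G ⧸ B) = QuotientGroup.mk g₀ := by
        obtain ⟨w, hw, hc⟩ := hup
        have hc2 : InCell B n w (QuotientGroup.mk (a * g₀) : G ⧸ B) := smul_cell a ha hc
        have hz' : (QuotientGroup.mk (a * g) : G ⧸ P) = QuotientGroup.mk g := hz
        have h4 : (a * g)⁻¹ * g ∈ P := QuotientGroup.eq.mp hz'
        have h3 : (a * g₀)⁻¹ * g₀ ∈ P := by
          have e : (a * g₀)⁻¹ * g₀ = (g₀⁻¹ * g) * ((a * g)⁻¹ * g) * (g₀⁻¹ * g)⁻¹ := by group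
          rw [e]
          exact P.mul_mem (P.mul_mem hgP h4) (P.inv_mem hgP)
        exact hinj (a * g₀) g₀ ⟨w, hw, hc2⟩ ⟨w, hw, hc⟩ h3
      refine ⟨⟨QuotientGroup.mk g₀, hfix, hup⟩, ?_⟩
      apply Subtype.ext
      show Subgroup.quotientMapOfLE hBP (QuotientGroup.mk g₀) = QuotientGroup.mk g
      rw [Subgroup.quotientMapOfLE_apply_mk, QuotientGroup.eq]
      exact hgP
  exact (Nat.card_eq_of_bijective f hf).symm

end Cfsg.Agent.Lib.Helper95.BTUPFIX
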