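import Mathlib
import Cfsg.Agent.Lib.Helper10.C2MStmt
import Cfsg.Agent.Lib.Helper44.NegPairs

set_option autoImplicit false
set_option maxHeartbeats 400000

/-!
# S5990C piece BLOCK4M (helper95; minus-form port of Helper95.C2BLOCK4): char 2, `x * x = 1` isometry of the minus form, `β(a, x a) = 0`
on the invariant nondegenerate `A`, `x u ≠ u`: `span {u, v, N u, N v}` (`N = x + 1`,
`β(N u, v) ≠ 0`) is an invariant nondegenerate plus-type 4-space in `A`.
-/

namespace Cfsg.Agent.Lib.Helper95.C2MBLOCK4M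

open QuadraticMap
open Cfsg.Agent.Lib.Helper44.NegPairs (minusQ)
open Cfsg.Agent.Lib.Helper45.OMiStmt (M Aniso NDegM StabM)
open Cfsg.Agent.Lib.Helper41.TMTwoStmt (PlusM TSubM)

universe u

theorem main : Cfsg.Agent.Lib.Helper10.C2MStmt.Block4M.{u} := by
  intro F _ _ a₀ b₀ _ _ d x hx hxx A hStab hND hAx u hu hxu
  classical
  obtain ⟨Q, hQ⟩ : ∃ Q : QuadraticForm F (M d → F), Q = minusQ (d - 1) F a₀ b₀ := ⟨_, rfl⟩
  obtain ⟨X, hX⟩ : ∃ X : (M d → F) →ₗ[F] (M d → F),
      X = Matrix.toLin' (x : Matrix (M d) (M d) F) := ⟨_, rfl⟩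
  have h2 : (2 : F) = 0 := CharTwo.two_eq_zero
  have hdbl : ∀ z : M d → F, z + z = 0 := by
    intro z
    rw [← two_smul F z, h2, zero_smul]
  have hXX : ∀ v, X (X v) = v := by
    intro v
    rw [hX, Matrix.toLin'_apply, Matrix.toLin'_apply, Matrix.mulVec_mulVec, hxx,
      Matrix.one_mulVec]
  have hXQ : ∀ v, Q (X v) = Q v := by
    intro v
    rw [hX, hQ, Matrix.toLin'_apply]
    exact hx v v
  have hXB : ∀ a b, polar Q (X a) (X b) = polar Q a b := by
    intro a b
    unfold polar
    rw [← map_add, hXQ, hXQ, hXQ]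
  have hAx' : ∀ a ∈ A, polar Q a (X a) = 0 := by
    intro a ha
    have h := hAx a ha
    rw [hX, hQ, Matrix.toLin'_apply]
    exact h
  have hXA : ∀ a ∈ A, X a ∈ A := by
    intro a ha
    rw [hX]
    exact hStab (Submodule.mem_map_of_mem ha)
  have hself : ∀ a, polar Q a a = 0 := by
    intro a
    unfold polar
    rw [hdbl, QuadraticMap.map_zero]
    have h3 : Q a + Q a = 0 := by rw [← two_mul, h2, zero_mul]
    linear_combination (-1 : F) * h3
  obtain ⟨N, hN⟩ : ∃ N : (M d → F) →ₗ[F] (M d → F), ∀ a, N a = X a + a :=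
    ⟨X + LinearMap.id, fun a => rfl⟩
  have hNadj : ∀ a b, polar Q a (N b) = polar Q (N a) b := by
    intro a b
    have h := hXB a (X b)
    rw [hXX] at h
    rw [hN, hN, polar_add_right, polar_add_left, h]
  have hNN0 : ∀ a, N (N a) = 0 := by
    intro a
    rw [hN, hN, map_add, hXX, add_comm a (X a)]
    exact hdbl _
  have hNNB : ∀ a b, polar Q (N a) (N b) = 0 := by
    intro a b
    rw [← hNadj, hNN0, polar_zero_right]
  have hAN : ∀ a ∈ A, polar Q a (N a) = 0 := by
    intro a ha
    rw [hN, polar_add_right, hAx' a ha, hself, add_zero]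
  have hQN : ∀ a ∈ A, Q (N a) = 0 := by
    intro a ha
    rw [hN, QuadraticMap.map_add Q (X a) a, hXQ, polar_comm, hAx' a ha, add_zero, ← two_mul, h2,
      zero_mul]
  have hNA : ∀ a ∈ A, N a ∈ A := by
    intro a ha
    rw [hN]
    exact A.add_mem (hXA a ha) ha
  have hXN : ∀ a, X a = N a + a := by
    intro a
    rw [hN, add_assoc, hdbl, add_zero]
  have hXNN : ∀ a, X (N a) = N a := by
    intro a
    rw [hN, map_add, hXX, add_comm]
  have hNu0 : N u ≠ 0 := by
    intro h0
    apply hxu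
    have h1 : X u = u := by rw [hXN, h0, zero_add]
    rw [hX, Matrix.toLin'_apply] at h1
    exact h1
  obtain ⟨-, v, hv, hne0⟩ := hND (N u) (hNA u hu) hNu0
  obtain ⟨t, ht⟩ : ∃ t : F, polar Q (N u) v = t := ⟨_, rfl⟩
  have ht0 : t ≠ 0 := by
    rw [← ht, hQ]
    exact hne0
  have g1 : polar Q u (N v) = t := by rw [hNadj, ht]
  have g2 : polar Q v (N v) = 0 := hAN v hv
  have g5 : polar Q u (N u) = 0 := hAN u hu
  have g6 : polar Q v (N u) = t := by rw [polar_comm, ht]
  have g10 : polar Q (N u) u = 0 := by rw [polar_comm, g5]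
  have g11 : polar Q (N v) u = t := by rw [polar_comm, g1]
  have g13 : polar Q (N v) v = 0 := by rw [polar_comm, g2]
  obtain ⟨b, hb⟩ : ∃ b : Fin 4 → (M d → F), b = ![u, v, N u, N v] := ⟨_, rfl⟩
  have hb0 : b 0 = u := by rw [hb]; rfl
  have hb1 : b 1 = v := by rw [hb]; rfl
  have hb2 : b 2 = N u := by rw [hb]; rfl
  have hb3 : b 3 = N v := by rw [hb]; rfl
  have hw : ∀ c : Fin 4 → F,
      ∑ i, c i • b i = c 0 • u + c 1 • v + c 2 • N u + c 3 • N v := by
    intro c
    rw [Fin.sum_univ_four, hb0, hb1, hb2, hb3]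
  have hP : ∀ c : Fin 4 → F,
      polar Q (∑ i, c i • b i) (N v) = c 0 * t ∧ polar Q (∑ i, c i • b i) (N u) = c 1 * t ∧
      polar Q (∑ i, c i • b i) u = c 1 * polar Q v u + c 3 * t ∧
      polar Q (∑ i, c i • b i) v = c 0 * polar Q u v + c 2 * t := by
    intro c
    rw [hw]
    refine ⟨?_, ?_, ?_, ?_⟩
    · simp only [polar_add_left, polar_smul_left, smul_eq_mul, g1, g2, hNNB]
      ring
    · simp only [polar_add_left, polar_smul_left, smul_eq_mul, g5, g6, hNNB]
      ring
    · simp only [polar_add_left, polar_smul_left, smul_eq_mul, hself, g10, g11]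
      ring
    · simp only [polar_add_left, polar_smul_left, smul_eq_mul, hself, ht, g13]
      ring
  have hzero : ∀ c : Fin 4 → F, polar Q (∑ i, c i • b i) (N v) = 0 →
      polar Q (∑ i, c i • b i) (N u) = 0 → polar Q (∑ i, c i • b i) u = 0 →
      polar Q (∑ i, c i • b i) v = 0 → ∀ i, c i = 0 := by
    intro c h1 h2' h3 h4
    obtain ⟨p1, p2, p3, p4⟩ := hP c
    rw [p1] at h1
    rw [p2] at h2'
    rw [p3] at h3
    rw [p4] at h4
    have c0 : c 0 = 0 := by
      rcases mul_eq_zero.mp h1 with h | h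
      · exact h
      · exact absurd h ht0
    have c1 : c 1 = 0 := by
      rcases mul_eq_zero.mp h2' with h | h
      · exact h
      · exact absurd h ht0
    rw [c1, zero_mul, zero_add] at h3
    rw [c0, zero_mul, zero_add] at h4
    have c3 : c 3 = 0 := by
      rcases mul_eq_zero.mp h3 with h | h
      · exact h
      · exact absurd h ht0
    have c2 : c 2 = 0 := by
      rcases mul_eq_zero.mp h4 with h | h
      · exact h
      · exact absurd h ht0
    intro i
    fin_cases i
    · exact c0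
    · exact c1
    · exact c2
    · exact c3
  have hli : LinearIndependent F b := by
    rw [Fintype.linearIndependent_iff]
    intro c hc
    apply hzero c <;> rw [hc, polar_zero_left]
  obtain ⟨B, hB⟩ : ∃ B : Submodule F (M d → F), B = Submodule.span F (Set.range b) := ⟨_, rfl⟩
  have hbB : ∀ i, b i ∈ B := by
    intro i
    rw [hB]
    exact Submodule.subset_span ⟨i, rfl⟩
  have huB : u ∈ B := hb0 ▸ hbB 0
  have hvB : v ∈ B := hb1 ▸ hbB 1
  have hNuB : N u ∈ B := hb2 ▸ hbB 2
  have hNvB : N v ∈ B := hb3 ▸ hbB 3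
  have hfin : Module.finrank F ↥B = 4 := by
    rw [hB, finrank_span_eq_card hli, Fintype.card_fin]
  have hBA : B ≤ A := by
    rw [hB, Submodule.span_le]
    rintro _ ⟨i, rfl⟩
    fin_cases i
    · show b 0 ∈ A
      rw [hb0]
      exact hu
    · show b 1 ∈ A
      rw [hb1]
      exact hv
    · show b 2 ∈ A
      rw [hb2]
      exact hNA u hu
    · show b 3 ∈ A
      rw [hb3]
      exact hNA v hv
  have hStabB : StabM (x : Matrix (M d) (M d) F) B := by
    show B.map (Matrix.toLin' (x : Matrix (M d) (M d) F)) ≤ B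
    rw [← hX, hB, Submodule.map_span_le]
    rintro _ ⟨i, rfl⟩
    rw [← hB]
    fin_cases i
    · show X (b 0) ∈ B
      rw [hb0, hXN]
      exact B.add_mem hNuB huB
    · show X (b 1) ∈ B
      rw [hb1, hXN]
      exact B.add_mem hNvB hvB
    · show X (b 2) ∈ B
      rw [hb2, hXNN]
      exact hNuB
    · show X (b 3) ∈ B
      rw [hb3, hXNN]
      exact hNvB
  have hNDB' : ∀ w ∈ B, w ≠ 0 → ∃ z ∈ B, polar Q w z ≠ 0 := by
    intro w hw' hw0
    rw [hB] at hw'
    obtain ⟨c, rfl⟩ := (Submodule.mem_span_range_iff_exists_fun F).mp hw'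
    by_contra hcon
    have hall : ∀ z ∈ B, polar Q (∑ i, c i • b i) z = 0 := by
      intro z hz
      by_contra hne
      exact hcon ⟨z, hz, hne⟩
    have hc := hzero c (hall _ hNvB) (hall _ hNuB) (hall _ huB) (hall _ hvB)
    apply hw0
    apply Finset.sum_eq_zero
    intro i _
    rw [hc i, zero_smul]
  have hNDB : NDegM d F a₀ b₀ B := by
    intro w hw' hw0
    obtain ⟨z, hz, hne⟩ := hNDB' w hw' hw0
    rw [hQ] at hne
    refine ⟨⟨z, hz, ?_⟩, ⟨z, hz, hne⟩⟩
    rw [polar_comm]
    exact hne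
  obtain ⟨b2, hb2def⟩ : ∃ b2 : Fin 2 → (M d → F), b2 = ![N u, N v] := ⟨_, rfl⟩
  have hb20 : b2 0 = N u := by rw [hb2def]; rfl
  have hb21 : b2 1 = N v := by rw [hb2def]; rfl
  have hli2 : LinearIndependent F b2 := by
    rw [Fintype.linearIndependent_iff]
    intro c hc
    rw [Fin.sum_univ_two, hb20, hb21] at hc
    have e1 : polar Q (c 0 • N u + c 1 • N v) u = c 1 * t := by
      simp only [polar_add_left, polar_smul_left, smul_eq_mul, g10, g11]
      ring
    have e2 : polar Q (c 0 • N u + c 1 • N v) v = c 0 * t := by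
      simp only [polar_add_left, polar_smul_left, smul_eq_mul, ht, g13]
      ring
    rw [hc, polar_zero_left] at e1 e2
    have c1 : c 1 = 0 := by
      rcases mul_eq_zero.mp e1.symm with h | h
      · exact h
      · exact absurd h ht0
    have c0 : c 0 = 0 := by
      rcases mul_eq_zero.mp e2.symm with h | h
      · exact h
      · exact absurd h ht0
    intro i
    fin_cases i
    · exact c0
    · exact c1
  obtain ⟨U, hU⟩ : ∃ U : Submodule F (M d → F), U = Submodule.span F (Set.range b2) := ⟨_, rfl⟩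
  have hUfin : Module.finrank F ↥U = 2 := by
    rw [hU, finrank_span_eq_card hli2, Fintype.card_fin]
  have hUB : U ≤ B := by
    rw [hU, Submodule.span_le]
    rintro _ ⟨i, rfl⟩
    fin_cases i
    · show b2 0 ∈ B
      rw [hb20]
      exact hNuB
    · show b2 1 ∈ B
      rw [hb21]
      exact hNvB
  have hUts : TSubM d F a₀ b₀ U := by
    intro w hw'
    rw [hU] at hw'
    obtain ⟨c, rfl⟩ := (Submodule.mem_span_range_iff_exists_fun F).mp hw'
    rw [Fin.sum_univ_two, hb20, hb21]
    have h : Q (c 0 • N u + c 1 • N v) = 0 := by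
      rw [QuadraticMap.map_add Q (c 0 • N u), QuadraticMap.map_smul, QuadraticMap.map_smul,
        hQN u hu, hQN v hv, polar_smul_left, polar_smul_right, hNNB]
      simp
    rw [hQ] at h
    exact h
  exact ⟨B, hBA, hStabB, hNDB, ⟨U, hUB, hUts, by rw [hUfin, hfin]⟩, hfin⟩

end Cfsg.Agent.Lib.Helper95.C2MBLOCK4M

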