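import Mathlib
import Cfsg.Agent.Lib.Helper32.D8Stmt

/-!
helper95: S3716 piece ALGB (pure algebra over the complex numbers).
-/

set_option autoImplicit false

namespace Cfsg.Agent.Lib.Helper95.D8ALGB

open Cfsg.Agent.Lib.Helper32.D8Stmt

theorem main : ALGB := by
  intro ux uy n μ hn hμ h1 h2 h3 h4
  have hA : 2 * μ * n * uy ^ 2 = 1 + μ := by
    linear_combination (1/3 : ℂ) * h2 - (1/3 : ℂ) * h3
  have hB : μ * n * (uy * (5 * uy - 2 * ux)) = 0 := by
    linear_combination (1/3 : ℂ) * h1 - (1/3 : ℂ) * h4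
  have hμn : μ * n ≠ 0 := mul_ne_zero hμ hn
  rcases mul_eq_zero.mp hB with h | h
  · exact absurd h hμn
  rcases mul_eq_zero.mp h with h | h
  · linear_combination (-1 : ℂ) * hA + (2 * μ * n * uy) * h
  · linear_combination (-8/7 : ℂ) * h1 + (57/7 : ℂ) * hA
      - (4/7 : ℂ) * μ * n * (ux + 5/2 * uy) * h

end Cfsg.Agent.Lib.Helper95.D8ALGB
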