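import Mathlib
import Cfsg.Agent.Lib.Helper75.DCStmt

set_option autoImplicit false

namespace Cfsg.Agent.Lib.Helper95.DCRG

open Cfsg.Agent.Lib.Helper75.DCStmt

universe u

section
variable {Γ : Type u} [Group Γ]

/-- membership in the four-set `{1, v, w, v * w}`. -/
def S4 (v w : Γ) (u : Γ) : Prop := u = 1 ∨ u = v ∨ u = w ∨ u = v * w

theorem S4_mul {v w : Γ} (hv : v * v = 1) (hw : w * w = 1) (hc : v * w = w * v) {u u' : Γ}
    (hu : S4 v w u) (hu' : S4 v w u') : S4 v w (u * u') := by
  have h1 : v * (v * w) = w := by rw [← mul_assoc, hv, one_mul]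
  have h2 : w * (v * w) = v := by rw [hc, ← mul_assoc, hw, one_mul]
  have h3 : v * w * v = w := by rw [hc, mul_assoc, hv, mul_one]
  have h4 : v * w * w = v := by rw [mul_assoc, hw, mul_one]
  have h5 : v * w * (v * w) = 1 := by rw [mul_assoc, h2, hv]
  have h6 : w * v = v * w := hc.symm
  unfold S4 at *
  rcases hu with h | h | h | h <;> rcases hu' with h' | h' | h' | h' <;> rw [h, h']
  · left; exact mul_one 1
  · right; left; exact one_mul v
  · right; right; left; exact one_mul w
  · right; right; right; exact one_mul _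
  · right; left; exact mul_one v
  · left; exact hv
  · right; right; right; rfl
  · right; right; left; exact h1
  · right; right; left; exact mul_one w
  · right; right; right; exact h6
  · left; exact hw
  · right; left; exact h2
  · right; right; right; exact mul_one _
  · right; right; left; exact h3
  · right; left; exact h4
  · left; exact h5

theorem S4_inv {v w : Γ} (hv : v * v = 1) (hw : w * w = 1) (hc : v * w = w * v) {u : Γ}
    (hu : S4 v w u) : u⁻¹ = u := by
  have h2 : w * (v * w) = v := by rw [hc, ← mul_assoc, hw, one_mul]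
  have h5 : v * w * (v * w) = 1 := by rw [mul_assoc, h2, hv]
  apply inv_eq_of_mul_eq_one_right
  rcases hu with h | h | h | h <;> rw [h]
  · exact mul_one 1
  · exact hv
  · exact hw
  · exact h5

/-- the subgroup `G · {1, v, w, v * w}`. -/
def HS (G : Subgroup Γ) (hG : G.Normal) (v w : Γ) (hv : v * v = 1) (hw : w * w = 1)
    (hc : v * w = w * v) : Subgroup Γ where
  carrier := {γ | ∃ x ∈ G, ∃ u, S4 v w u ∧ γ = x * u}
  one_mem' := ⟨1, G.one_mem, 1, Or.inl rfl, (mul_one 1).symm⟩
  mul_mem' := by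
    rintro a b ⟨x, hx, u, hu, rfl⟩ ⟨y, hy, u', hu', rfl⟩
    refine ⟨x * (u * y * u⁻¹), G.mul_mem hx (hG.conj_mem y hy u), u * u', S4_mul hv hw hc hu hu', ?_⟩
    group
  inv_mem' := by
    rintro a ⟨x, hx, u, hu, rfl⟩
    have hinv : u⁻¹ = u := S4_inv hv hw hc hu
    refine ⟨u⁻¹ * x⁻¹ * u, ?_, u⁻¹, ?_, ?_⟩
    · have := hG.conj_mem x⁻¹ (G.inv_mem hx) u⁻¹
      simpa using this
    · rw [hinv]; exact hu
    · group

end

theorem main : RG.{u} := by
  intro a c N hKBg Γ _ _ G v w hS h2
  let H : Subgroup Γ := HS G hS.normal v w hS.v_sq hS.w_sq hS.comm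
  have hGH : G ≤ H := fun x hx => ⟨x, hx, 1, Or.inl rfl, (mul_one x).symm⟩
  have hS4H : ∀ u : Γ, S4 v w u → u ∈ H := fun u hu => ⟨1, G.one_mem, u, hu, (one_mul u).symm⟩
  have hvH : v ∈ H := hS4H v (Or.inr (Or.inl rfl))
  have hwH : w ∈ H := hS4H w (Or.inr (Or.inr (Or.inl rfl)))
  let G' : Subgroup H := G.subgroupOf H
  let v' : H := ⟨v, hvH⟩
  let w' : H := ⟨w, hwH⟩
  have hcard : Nat.card G' = Nat.card G :=
    Nat.card_congr (Subgroup.subgroupOfEquivOfLe hGH).toEquiv
  have hS' : Setting G' v' w' c := by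
    refine ⟨?_, ?_, ?_, ?_, ?_, ?_, ?_, ?_⟩
    · haveI := hS.normal; exact Subgroup.normal_subgroupOf
    · intro h; exact hS.v_ne (congrArg Subtype.val h)
    · intro h; exact hS.w_ne (congrArg Subtype.val h)
    · intro h; exact hS.vw_ne (congrArg Subtype.val h)
    · exact Subtype.ext hS.v_sq
    · exact Subtype.ext hS.w_sq
    · exact Subtype.ext hS.comm
    · intro x hx
      have hx' : (x : Γ) = v ∨ (x : Γ) = w ∨ (x : Γ) = v * w := by
        rcases hx with h | h | h
        · exact Or.inl (congrArg Subtype.val h)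
        · exact Or.inr (Or.inl (congrArg Subtype.val h))
        · exact Or.inr (Or.inr (congrArg Subtype.val h))
      refine le_trans ?_ (hS.cent (x : Γ) hx')
      have hle : (G' ⊓ Subgroup.centralizer ({x} : Set H)).map H.subtype
          ≤ G ⊓ Subgroup.centralizer ({(x : Γ)} : Set Γ) := by
        rintro _ ⟨y, hy, rfl⟩
        obtain ⟨hy1, hy2⟩ := Subgroup.mem_inf.mp hy
        refine Subgroup.mem_inf.mpr ⟨Subgroup.mem_subgroupOf.mp hy1, ?_⟩
        rw [Subgroup.mem_centralizer_singleton_iff] at hy2 ⊢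
        exact congrArg Subtype.val hy2
      calc Nat.card ↥(G' ⊓ Subgroup.centralizer ({x} : Set H))
          = Nat.card ↥((G' ⊓ Subgroup.centralizer ({x} : Set H)).map H.subtype) :=
            Nat.card_congr (Subgroup.equivMapOfInjective _ _ H.subtype_injective).toEquiv
        _ ≤ _ := Subgroup.card_le_of_le hle
  have hGen : Gen G' v' w' := by
    intro γ
    obtain ⟨x, hx, u, hu, hγ⟩ := γ.2
    refine ⟨⟨x, hGH hx⟩, Subgroup.mem_subgroupOf.mpr hx, ⟨u, hS4H u hu⟩, ?_, Subtype.ext hγ⟩
    rcases hu with h | h | h | h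
    · exact Or.inl (Subtype.ext h)
    · exact Or.inr (Or.inl (Subtype.ext h))
    · exact Or.inr (Or.inr (Or.inl (Subtype.ext h)))
    · exact Or.inr (Or.inr (Or.inr (Subtype.ext h)))
  have h3 := hKBg ↥H G' v' w' hS' hGen (by rw [hcard]; exact h2)
  rwa [hcard] at h3

end Cfsg.Agent.Lib.Helper95.DCRG
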