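import Mathlib
import Cfsg.Prelude.Def_Perm
import Cfsg.Agent.Lib.Helper95.EqPSemi

set_option autoImplicit false

namespace Cfsg.Agent.Lib.Helper95.EqPSAC

open Cfsg.Agent.Lib.Helper95.EqPSemi

theorem card_ringAut (p n : ℕ) [Fact p.Prime] (hn : n ≠ 0) :
    Nat.card (GaloisField p n ≃+* GaloisField p n) = n :=
  card_ringAut_of_card (GaloisField.card p n hn)

theorem card_semiaffine_le (p n : ℕ) [Fact p.Prime] (hn : n ≠ 0) :
    Nat.card (Cfsg.semiaffineGroup (GaloisField p n)) ≤ p ^ n * (p ^ n - 1) * n := by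
  have hcard := GaloisField.card p n hn
  have hfin : Finite (GaloisField p n ≃+* GaloisField p n) :=
    Nat.finite_of_card_ne_zero (by rw [card_ringAut p n hn]; exact hn)
  have key : ∀ σ : Cfsg.semiaffineGroup (GaloisField p n),
      ∃ x : (GaloisField p n)ˣ × GaloisField p n × (GaloisField p n ≃+* GaloisField p n),
        ∀ y, (σ : Equiv.Perm (GaloisField p n)) y = (x.1 : GaloisField p n) * x.2.2 y + x.2.1 := by
    rintro ⟨σ, a, b, φ, h⟩
    exact ⟨(a, b, φ), h⟩
  choose f hf using key
  have hinj : Function.Injective f := by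
    intro σ τ h
    apply Subtype.ext
    apply Equiv.ext
    intro y
    rw [hf σ y, hf τ y, h]
  have h1 := Nat.card_le_card_of_injective f hinj
  rw [Nat.card_prod, Nat.card_prod, Nat.card_units, hcard, card_ringAut p n hn] at h1
  calc Nat.card (Cfsg.semiaffineGroup (GaloisField p n)) ≤ (p ^ n - 1) * (p ^ n * n) := h1
    _ = p ^ n * (p ^ n - 1) * n := by ring

theorem card_affine_le (p n : ℕ) [Fact p.Prime] (hn : n ≠ 0) :
    Nat.card (Cfsg.affineGroup (GaloisField p n)) ≤ p ^ n * (p ^ n - 1) := by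
  have hcard := GaloisField.card p n hn
  have key : ∀ σ : Cfsg.affineGroup (GaloisField p n),
      ∃ x : (GaloisField p n)ˣ × GaloisField p n,
        ∀ y, (σ : Equiv.Perm (GaloisField p n)) y = (x.1 : GaloisField p n) * y + x.2 := by
    rintro ⟨σ, a, b, h⟩
    exact ⟨(a, b), h⟩
  choose f hf using key
  have hinj : Function.Injective f := by
    intro σ τ h
    apply Subtype.ext
    apply Equiv.ext
    intro y
    rw [hf σ y, hf τ y, h]
  have h1 := Nat.card_le_card_of_injective f hinj
  rw [Nat.card_prod, Nat.card_units, hcard] at h1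
  calc Nat.card (Cfsg.affineGroup (GaloisField p n)) ≤ (p ^ n - 1) * p ^ n := h1
    _ = p ^ n * (p ^ n - 1) := by ring

end Cfsg.Agent.Lib.Helper95.EqPSAC
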