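import Mathlib
import Cfsg.Agent.Lib.Helper80.FTStmt
import Cfsg.Agent.Lib.Helper91.Hall

/-!
helper95: S3999 piece SOLV15.  A solvable group with `|Y|_3 = 3`, `|Y|_5 = 5` has an element of
order `15`: a Hall subgroup of order `15` (Helper91.Hall.hall_exists); in a group of order `15`
the subgroup of order `5` is normal (index = smallest prime), an element of order `3` acts on it
trivially (`|Aut C_5| = 4`), so the product of elements of orders `3` and `5` has order `15`.
-/

set_option autoImplicit false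

namespace Cfsg.Agent.Lib.Helper95.FTSOLV15

open Cfsg.Agent.Lib.Helper80.FTStmt

universe u

/-- a group of order 15 has an element of order 15 -/
theorem exists_order15 {D : Type u} [Group D] [Finite D] (hD : Nat.card D = 15) :
    ∃ y : D, orderOf y = 15 := by
  haveI : Fact (Nat.Prime 3) := ⟨by norm_num⟩
  haveI : Fact (Nat.Prime 5) := ⟨by norm_num⟩
  obtain ⟨a, ha⟩ := exists_prime_orderOf_dvd_card' 3 (by rw [hD]; norm_num : 3 ∣ Nat.card D)
  obtain ⟨b, hb⟩ := exists_prime_orderOf_dvd_card' 5 (by rw [hD]; norm_num : 5 ∣ Nat.card D)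
  have hidx : (Subgroup.zpowers b).index = 3 := by
    have h1 := Subgroup.card_mul_index (Subgroup.zpowers b)
    rw [Nat.card_zpowers, hb, hD] at h1
    omega
  have hnorm : (Subgroup.zpowers b).Normal := by
    apply Subgroup.normal_of_index_eq_minFac_card
    rw [hidx, hD]
    norm_num
  have h1 : orderOf (MulAut.conjNormal a : MulAut (Subgroup.zpowers b)) ∣ 3 := by
    rw [← ha]
    exact orderOf_map_dvd _ a
  have h2 : orderOf (MulAut.conjNormal a : MulAut (Subgroup.zpowers b)) ∣ 4 := by
    have h := orderOf_dvd_natCard (MulAut.conjNormal a : MulAut (Subgroup.zpowers b))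
    rw [IsCyclic.card_mulAut, Nat.card_zpowers, hb] at h
    have ht : Nat.totient 5 = 4 := by
      rw [Nat.totient_prime (by norm_num)]
    rw [ht] at h
    exact h
  have h3 : orderOf (MulAut.conjNormal a : MulAut (Subgroup.zpowers b)) = 1 := by
    have h := Nat.dvd_gcd h1 h2
    have hg : Nat.gcd 3 4 = 1 := by norm_num
    rw [hg] at h
    exact Nat.dvd_one.mp h
  rw [orderOf_eq_one_iff] at h3
  have h4 : a * b * a⁻¹ = b := by
    have h := congrArg (fun f : MulAut (Subgroup.zpowers b) =>
      ((f ⟨b, Subgroup.mem_zpowers b⟩ : Subgroup.zpowers b) : D)) h3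
    simpa [MulAut.conjNormal_apply] using h
  have hcomm : Commute a b := by
    show a * b = b * a
    calc a * b = a * b * a⁻¹ * a := by group
      _ = b * a := by rw [h4]
  refine ⟨a * b, ?_⟩
  rw [hcomm.orderOf_mul_eq_mul_orderOf_of_coprime (by rw [ha, hb]; norm_num), ha, hb]

theorem main : Solv15.{u} := by
  intro Y _ _ hsolv h3 h5
  haveI := hsolv
  have hpos : Nat.card Y ≠ 0 := Nat.card_pos.ne'
  obtain ⟨n, hn⟩ : 15 ∣ Nat.card Y := by
    have d3 : 3 ∣ Nat.card Y := Nat.dvd_of_factorization_pos (by rw [h3]; norm_num)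
    have d5 : 5 ∣ Nat.card Y := Nat.dvd_of_factorization_pos (by rw [h5]; norm_num)
    exact Nat.Coprime.mul_dvd_of_dvd_of_dvd (by norm_num : Nat.Coprime 3 5) d3 d5
  have n3 : ¬ 3 ∣ n := by
    intro hd
    have h9 : 3 ^ 2 ∣ Nat.card Y := by
      rw [hn]
      obtain ⟨c, rfl⟩ := hd
      exact ⟨5 * c, by ring⟩
    have h := (Nat.Prime.pow_dvd_iff_le_factorization (by norm_num) hpos).mp h9
    omega
  have n5 : ¬ 5 ∣ n := by
    intro hd
    have h25 : 5 ^ 2 ∣ Nat.card Y := by
      rw [hn]
      obtain ⟨c, rfl⟩ := hd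
      exact ⟨3 * c, by ring⟩
    have h := (Nat.Prime.pow_dvd_iff_le_factorization (by norm_num) hpos).mp h25
    omega
  have c3 : Nat.Coprime 3 n := (Nat.Prime.coprime_iff_not_dvd (by norm_num)).mpr n3
  have c5 : Nat.Coprime 5 n := (Nat.Prime.coprime_iff_not_dvd (by norm_num)).mpr n5
  have hcop : Nat.Coprime 15 n := by
    have h := Nat.Coprime.mul_left c3 c5
    exact h
  obtain ⟨D, hD⟩ := Cfsg.Agent.Lib.Helper91.Hall.hall_exists 15 n hn hcop
  obtain ⟨y, hy⟩ := exists_order15 (D := ↥D) hD
  exact ⟨(y : Y), by rw [Subgroup.orderOf_coe]; exact hy⟩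

end Cfsg.Agent.Lib.Helper95.FTSOLV15
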