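import Mathlib
import Cfsg.Agent.Lib.Helper40.GFStmt

/-!
helper95: S5886 piece Z2.  `|F| = 2`, `|L| = 4`, `h² + h + 1 = 0` on `L²`: `h` maps some `L`-line
into an `L`-line.  With `W` = multiplication by `ω` and `H = h` in `End_F(V)`:
`c = WH + HW + W + H` commutes with `W` and `H`, `β = WH + HW` satisfies `β W = (W + 1) β` and
`β² = c² + c`.  `β x = 0` or `c x = ω x` for some `x ≠ 0` gives the claim.
-/

set_option autoImplicit false

namespace Cfsg.Agent.Lib.Helper95.GFZ2

open Cfsg.Agent.Lib.Helper40.GFStmt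

universe u

section ring
variable {R : Type*} [Ring R]

theorem c_comm_W (W H : R) (hW : W * W + W + 1 = 0) :
    (W * H + H * W + W + H) * W = W * (W * H + H * W + W + H) := by
  have h : (W * H + H * W + W + H) * W - W * (W * H + H * W + W + H) =
      H * (W * W + W + 1) - (W * W + W + 1) * H := by noncomm_ring
  rw [hW, mul_zero, zero_mul, sub_zero] at h
  exact sub_eq_zero.mp h

theorem c_comm_H (W H : R) (hH : H * H + H + 1 = 0) :
    (W * H + H * W + W + H) * H = H * (W * H + H * W + W + H) := by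
  have h : (W * H + H * W + W + H) * H - H * (W * H + H * W + W + H) =
      W * (H * H + H + 1) - (H * H + H + 1) * W := by noncomm_ring
  rw [hH, mul_zero, zero_mul, sub_zero] at h
  exact sub_eq_zero.mp h

theorem beta_W (W H : R) (hW : W * W + W + 1 = 0) (h2 : ∀ X : R, X + X = 0) :
    (W * H + H * W) * W = (W + 1) * (W * H + H * W) := by
  have h : (W * H + H * W) * W - (W + 1) * (W * H + H * W) =
      H * (W * W + W + 1) - (W * W + W + 1) * H - (H * W + H * W) := by noncomm_ring
  rw [hW, h2, mul_zero, zero_mul, sub_zero, sub_zero] at h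
  exact sub_eq_zero.mp h

theorem beta_sq (W H : R) (hW : W * W + W + 1 = 0) (hH : H * H + H + 1 = 0)
    (h2 : ∀ X : R, X + X = 0) :
    (W * H + H * W) * (W * H + H * W) =
      (W * H + H * W + W + H) * (W * H + H * W + W + H) + (W * H + H * W + W + H) := by
  have h : (W * H + H * W + W + H) * (W * H + H * W + W + H) + (W * H + H * W + W + H)
      - (W * H + H * W) * (W * H + H * W) =
      ((W * H * W + H * W * H - H - W - 1) + (W * H * W + H * W * H - H - W - 1))
        + H * (W * W + W + 1) + (W * W + W + 1) * H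
        + W * (H * H + H + 1) + (H * H + H + 1) * W + (W * W + W + 1) + (H * H + H + 1) := by
    noncomm_ring
  rw [hW, hH, h2, mul_zero, zero_mul, mul_zero, zero_mul, add_zero, add_zero, add_zero, add_zero,
    add_zero, add_zero] at h
  exact (sub_eq_zero.mp h).symm

end ring

theorem exists_omega {L : Type u} [Field L] [Fintype L] (hL : Fintype.card L = 4) :
    ∃ ω : L, ω ≠ 0 ∧ ω ≠ 1 := by
  classical
  by_contra hcon
  have h1 : (Finset.univ : Finset L) ⊆ {0, 1} := by
    intro a _
    by_cases ha : a = 0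
    · simp [ha]
    · by_cases ha1 : a = 1
      · simp [ha1]
      · exact absurd ⟨a, ha, ha1⟩ hcon
  have h2 := Finset.card_le_card h1
  have h3 : ({0, 1} : Finset L).card ≤ 2 := Finset.card_le_two
  rw [Finset.card_univ, hL] at h2
  omega

theorem enum4 {L : Type u} [Field L] [Fintype L] (hL : Fintype.card L = 4) (ω : L)
    (h0 : ω ≠ 0) (h1 : ω ≠ 1) (h2 : (2 : L) = 0) :
    ∀ a : L, a = 0 ∨ a = 1 ∨ a = ω ∨ a = ω + 1 := by
  classical
  have hne : ω + 1 ≠ 0 := by
    intro h
    apply h1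
    linear_combination h - h2
  have hS : ({0, 1, ω, ω + 1} : Finset L) = Finset.univ := by
    apply Finset.eq_univ_of_card
    rw [hL, Finset.card_insert_of_notMem, Finset.card_insert_of_notMem,
      Finset.card_insert_of_notMem, Finset.card_singleton]
    · simp
    · simp only [Finset.mem_insert, Finset.mem_singleton, not_or]
      refine ⟨fun h => h1 h.symm, fun h => h0 ?_⟩
      linear_combination -h
    · simp only [Finset.mem_insert, Finset.mem_singleton, not_or]
      exact ⟨zero_ne_one, fun h => h0 h.symm, fun h => hne h.symm⟩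
  intro a
  have ha : a ∈ ({0, 1, ω, ω + 1} : Finset L) := by
    rw [hS]
    exact Finset.mem_univ a
  simpa using ha

/-- multiplication by `ω` as an `F`-linear map -/
def Wmap {F L : Type u} [Field F] [Field L] [Algebra F L] (ω : L) : Module.End F (V 2 L) where
  toFun x := ω • x
  map_add' := smul_add ω
  map_smul' s x := smul_comm ω s x

theorem vec2_ext {L : Type u} (x y : V 2 L) (h0 : x 0 = y 0) (h1 : x 1 = y 1) : x = y := by
  funext i
  fin_cases i
  · exact h0
  · exact h1

theorem main : Z2.{u} := by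
  intro F L _ _ _ _ hF hr h hh
  classical
  letI : Fintype L := Fintype.ofFinite L
  have : Finite F := Finite.of_injective (algebraMap F L) (algebraMap F L).injective
  letI : Fintype F := Fintype.ofFinite F
  have hL : Fintype.card L = 4 := by
    have h1 := Module.card_eq_pow_finrank (K := F) (V := L)
    rw [hr, ← Nat.card_eq_fintype_card (α := F), hF] at h1
    rw [h1]
    norm_num
  have h2L : (2 : L) = 0 := by
    have h1 := Nat.cast_card_eq_zero L
    rw [hL] at h1
    have h3 : (2 : L) * 2 = 0 := by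
      rw [← h1]
      norm_num
    exact mul_self_eq_zero.mp h3
  obtain ⟨ω, hω0, hω1⟩ := exists_omega hL
  have hω : ω * ω + ω + 1 = 0 := by
    have h1 := FiniteField.pow_card_sub_one_eq_one ω hω0
    rw [hL] at h1
    have h3 : (ω - 1) * (ω * ω + ω + 1) = 0 := by
      linear_combination h1
    rcases mul_eq_zero.mp h3 with h4 | h4
    · exact absurd (sub_eq_zero.mp h4) hω1
    · exact h4
  have hωsq : ω * ω = ω + 1 := by linear_combination hω - (ω + 1) * h2L
  have hω1sq : (ω + 1) * (ω + 1) = ω := by linear_combination hω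
  have henum := enum4 hL ω hω0 hω1 h2L
  have hV2 : ∀ v : V 2 L, v + v = 0 := fun v => by
    rw [← two_smul L v, h2L, zero_smul]
  have hneg : ∀ v : V 2 L, -v = v := fun v => neg_eq_iff_add_eq_zero.mpr (hV2 v)
  have hR2 : ∀ X : Module.End F (V 2 L), X + X = 0 := fun X =>
    LinearMap.ext (fun x => hV2 (X x))
  obtain ⟨Wm, hWmdef⟩ : ∃ Wm : Module.End F (V 2 L), Wm = Wmap ω := ⟨_, rfl⟩
  obtain ⟨Hm, hHmdef⟩ : ∃ Hm : Module.End F (V 2 L), Hm = (h : V 2 L →ₗ[F] V 2 L) := ⟨_, rfl⟩
  have hWx : ∀ x, Wm x = ω • x := fun x => by rw [hWmdef]; rfl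
  have hHx : ∀ x, Hm x = h x := fun x => by rw [hHmdef]; rfl
  have hWm : Wm * Wm + Wm + 1 = 0 := by
    apply LinearMap.ext
    intro x
    show Wm (Wm x) + Wm x + x = 0
    rw [hWx, hWx, smul_smul]
    have h1 : (ω * ω) • x + ω • x + x = (ω * ω + ω + 1) • x := by
      rw [add_smul, add_smul, one_smul]
    rw [h1, hω, zero_smul]
  have hHm : Hm * Hm + Hm + 1 = 0 := by
    apply LinearMap.ext
    intro x
    show Hm (Hm x) + Hm x + x = 0
    rw [hHx, hHx]
    exact hh x
  obtain ⟨β, hβdef⟩ : ∃ β : Module.End F (V 2 L), β = Wm * Hm + Hm * Wm := ⟨_, rfl⟩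
  obtain ⟨c, hcdef⟩ : ∃ c : Module.End F (V 2 L), c = Wm * Hm + Hm * Wm + Wm + Hm := ⟨_, rfl⟩
  have hβx : ∀ x, β x = ω • h x + h (ω • x) := fun x => by
    rw [hβdef]
    show Wm (Hm x) + Hm (Wm x) = _
    rw [hWx, hHx, hHx, hWx]
  have hcx : ∀ x, c x = ω • h x + h (ω • x) + ω • x + h x := fun x => by
    rw [hcdef]
    show Wm (Hm x) + Hm (Wm x) + Wm x + Hm x = _
    rw [hWx, hHx, hHx, hWx]
  have hcWR : c * Wm = Wm * c := by
    rw [hcdef]
    exact c_comm_W Wm Hm hWm
  have hcHR : c * Hm = Hm * c := by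
    rw [hcdef]
    exact c_comm_H Wm Hm hHm
  have hβWR : β * Wm = (Wm + 1) * β := by
    rw [hβdef]
    exact beta_W Wm Hm hWm hR2
  have hβ2R : β * β = c * c + c := by
    rw [hβdef, hcdef]
    exact beta_sq Wm Hm hWm hHm hR2
  have hcW : ∀ x, c (ω • x) = ω • c x := fun x => by
    have h1 := LinearMap.congr_fun hcWR x
    have h2 : c (Wm x) = Wm (c x) := h1
    rw [hWx, hWx] at h2
    exact h2
  have hcH : ∀ x, c (h x) = h (c x) := fun x => by
    have h1 := LinearMap.congr_fun hcHR x
    have h2 : c (Hm x) = Hm (c x) := h1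
    rw [hHx, hHx] at h2
    exact h2
  have hβW : ∀ x, β (ω • x) = ω • β x + β x := fun x => by
    have h1 := LinearMap.congr_fun hβWR x
    have h2 : β (Wm x) = Wm (β x) + β x := h1
    rw [hWx, hWx] at h2
    exact h2
  have hβ2 : ∀ x, β (β x) = c (c x) + c x := fun x => LinearMap.congr_fun hβ2R x
  have hcβ : ∀ x, c (β x) = β (c x) := fun x => by
    rw [hβx x, hβx (c x), map_add, hcW, hcH, hcH, hcW]
  have hcL : ∀ (a : L) (x : V 2 L), c (a • x) = a • c x := by
    intro a x
    rcases henum a with ha | ha | ha | ha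
    · rw [ha, zero_smul, map_zero, zero_smul]
    · rw [ha, one_smul, one_smul]
    · rw [ha]
      exact hcW x
    · rw [ha, add_smul, add_smul, map_add, hcW, one_smul, one_smul]
  have hβL : ∀ (a : L) (x : V 2 L), β (a • x) = (a * a) • β x := by
    intro a x
    rcases henum a with ha | ha | ha | ha
    · rw [ha, zero_smul, map_zero, mul_zero, zero_smul]
    · rw [ha, one_smul, mul_one, one_smul]
    · rw [ha, hβW x, hωsq, add_smul, one_smul]
    · rw [ha, add_smul, one_smul, map_add, hβW x, hω1sq, add_assoc, hV2, add_zero]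
  have hK : ∀ (x : V 2 L) (a' : L), h (ω • x) = a' • h x → LineAt h x := by
    intro x a' hx a
    rcases henum a with ha | ha | ha | ha
    · exact ⟨0, by rw [ha, zero_smul, map_zero, zero_smul]⟩
    · exact ⟨1, by rw [ha, one_smul, one_smul]⟩
    · exact ⟨a', by rw [ha, hx]⟩
    · exact ⟨a' + 1, by rw [ha, add_smul, one_smul, map_add, hx, add_smul, one_smul]⟩
  suffices hP : ∃ x : V 2 L, x ≠ 0 ∧ (β x = 0 ∨ c x + ω • x = 0) by
    obtain ⟨x, hx0, hx | hx⟩ := hP
    · refine ⟨x, hx0, hK x ω ?_⟩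
      rw [hβx] at hx
      have h1 : h (ω • x) = -(ω • h x) := eq_neg_iff_add_eq_zero.mpr (by rw [add_comm]; exact hx)
      rw [h1, hneg]
    · refine ⟨x, hx0, hK x (ω + 1) ?_⟩
      rw [hcx] at hx
      have e : h (ω • x) + ((ω + 1) • h x + (ω • x + ω • x)) = 0 := by
        rw [← hx, add_smul, one_smul]
        abel
      rw [hV2, add_zero] at e
      have h1 : h (ω • x) = -((ω + 1) • h x) := eq_neg_iff_add_eq_zero.mpr e
      rw [h1, hneg]
  by_cases hinj0 : ∃ x : V 2 L, x ≠ 0 ∧ β x = 0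
  · obtain ⟨x, hx0, hx⟩ := hinj0
    exact ⟨x, hx0, Or.inl hx⟩
  have hβker : ∀ x, β x = 0 → x = 0 := fun x hx =>
    by_contra (fun hne => hinj0 ⟨x, hne, hx⟩)
  have hβinj : Function.Injective β := (injective_iff_map_eq_zero β).mpr hβker
  have hβsurj : Function.Surjective β := Finite.surjective_of_injective hβinj
  have hA : ∀ y, β (β y) = 0 → y = 0 := fun y hy => hβker y (hβker _ hy)
  have hC : ∀ y, y ≠ 0 → c y = (ω + 1) • y →
      ∃ x : V 2 L, x ≠ 0 ∧ (β x = 0 ∨ c x + ω • x = 0) := by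
    intro y hy0 hy
    refine ⟨β y, fun h0 => hy0 (hβker y h0), Or.inr ?_⟩
    rw [hcβ, hy, hβL, hω1sq]
    exact hV2 _
  obtain ⟨e₀, he₀⟩ : ∃ e₀ : V 2 L, e₀ = ![1, 0] := ⟨_, rfl⟩
  have he00 : e₀ 0 = 1 := by rw [he₀]; rfl
  have he01 : e₀ 1 = 0 := by rw [he₀]; rfl
  have he0ne : e₀ ≠ 0 := fun h0 => one_ne_zero (by rw [← he00, h0]; rfl)
  obtain ⟨u, hu⟩ : ∃ u, u = c e₀ := ⟨_, rfl⟩
  by_cases hq : u 1 = 0
  · have hue : c e₀ = u 0 • e₀ := by
      rw [← hu]
      apply vec2_ext
      · rw [Pi.smul_apply, he00, smul_eq_mul, mul_one]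
      · rw [Pi.smul_apply, he01, smul_eq_mul, mul_zero, hq]
    rcases henum (u 0) with hp | hp | hp | hp
    · exfalso
      apply he0ne
      apply hA
      rw [hβ2, hue, hp, zero_smul, map_zero, add_zero]
    · exfalso
      apply he0ne
      apply hA
      rw [hβ2, hue, hp, one_smul, hue, hp, one_smul]
      exact hV2 _
    · exact ⟨e₀, he0ne, Or.inr (by rw [hue, hp]; exact hV2 _)⟩
    · exact hC e₀ he0ne (by rw [hue, hp])
  · obtain ⟨u', hu'⟩ : ∃ u', u' = c u := ⟨_, rfl⟩
    obtain ⟨t, ht⟩ : ∃ t, t = u' 1 / u 1 := ⟨_, rfl⟩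
    obtain ⟨d, hd⟩ : ∃ d, d = u' 0 - t * u 0 := ⟨_, rfl⟩
    have h4 : u' = t • u + d • e₀ := by
      apply vec2_ext
      · rw [Pi.add_apply, Pi.smul_apply, Pi.smul_apply, he00, smul_eq_mul, smul_eq_mul, hd]
        ring
      · rw [Pi.add_apply, Pi.smul_apply, Pi.smul_apply, he01, smul_eq_mul, smul_eq_mul, ht]
        field_simp
        ring
    have hdec : ∀ y : V 2 L, ∃ a b : L, y = a • e₀ + b • u := by
      intro y
      refine ⟨y 0 - y 1 / u 1 * u 0, y 1 / u 1, ?_⟩
      apply vec2_ext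
      · rw [Pi.add_apply, Pi.smul_apply, Pi.smul_apply, he00, smul_eq_mul, smul_eq_mul]
        ring
      · rw [Pi.add_apply, Pi.smul_apply, Pi.smul_apply, he01, smul_eq_mul, smul_eq_mul]
        field_simp
        ring
    have hcu' : c u' = t • u' + d • u := by
      conv_lhs => rw [h4]
      rw [map_add, hcL, hcL, ← hu, ← hu']
    have hQ : ∀ y, c (c y) = t • c y + d • y := by
      intro y
      obtain ⟨a, b, rfl⟩ := hdec y
      have e1 : c (a • e₀ + b • u) = a • u + b • u' := by
        rw [map_add, hcL, hcL, ← hu, ← hu']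
      rw [e1, map_add, hcL, hcL, ← hu', hcu', h4]
      module
    obtain ⟨y₀, hy₀⟩ := hβsurj e₀
    have h6 : c (c (β y₀)) = (t * t) • c (β y₀) + (d * d) • β y₀ := by
      rw [hcβ y₀, hcβ (c y₀), hQ y₀, map_add, hβL, hβL]
    have h7 := hQ (β y₀)
    rw [h6, hy₀, ← hu] at h7
    have ht2 : t * t = t := by
      have h8 := congrFun h7 1
      rw [Pi.add_apply, Pi.add_apply, Pi.smul_apply, Pi.smul_apply, Pi.smul_apply,
        Pi.smul_apply, he01, smul_eq_mul, smul_eq_mul, smul_eq_mul, smul_eq_mul, mul_zero,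
        mul_zero, add_zero, add_zero] at h8
      exact mul_right_cancel₀ hq h8
    have hd2 : d * d = d := by
      have h8 := congrFun h7 0
      rw [Pi.add_apply, Pi.add_apply, Pi.smul_apply, Pi.smul_apply, Pi.smul_apply,
        Pi.smul_apply, he00, smul_eq_mul, smul_eq_mul, smul_eq_mul, smul_eq_mul, mul_one,
        mul_one, ht2] at h8
      exact add_left_cancel h8
    have ht01 : t = 0 ∨ t = 1 := by
      rcases eq_or_ne t 0 with h0 | h0
      · exact Or.inl h0
      · right
        exact mul_left_cancel₀ h0 (by rw [ht2, mul_one])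
    have hd01 : d = 0 ∨ d = 1 := by
      rcases eq_or_ne d 0 with h0 | h0
      · exact Or.inl h0
      · right
        exact mul_left_cancel₀ h0 (by rw [hd2, mul_one])
    have hu0 : u ≠ 0 := fun h0 => hq (by rw [h0]; rfl)
    rcases ht01 with ht0 | ht1 <;> rcases hd01 with hd0 | hd1
    · exfalso
      apply hu0
      apply hA
      rw [hβ2, hQ u, ← hu', h4, ht0, hd0]
      simp
    · exfalso
      have hy0 : e₀ + u ≠ 0 := fun h0 => hq (by
        have h9 := congrFun h0 1
        rw [Pi.add_apply, he01, zero_add] at h9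
        exact h9)
      apply hy0
      apply hA
      rw [hβ2, hQ, map_add, ← hu, ← hu', h4, ht0, hd1]
      simp only [zero_smul, one_smul, zero_add]
      rw [add_comm u e₀]
      exact hV2 _
    · exfalso
      apply he0ne
      apply hA
      rw [hβ2, hQ, ht1, hd0, one_smul, zero_smul, add_zero]
      exact hV2 _
    · have hy0 : u + (ω + 1) • e₀ ≠ 0 := fun h0 => hq (by
        have h9 := congrFun h0 1
        rw [Pi.add_apply, Pi.smul_apply, he01, smul_zero, add_zero] at h9
        exact h9)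
      refine ⟨_, hy0, Or.inr ?_⟩
      rw [map_add, hcL, ← hu, ← hu', h4, ht1, hd1]
      have h9 : (1 : L) • u + (1 : L) • e₀ + (ω + 1) • u + ω • (u + (ω + 1) • e₀) =
          (2 * (1 + ω)) • u + (ω * ω + ω + 1) • e₀ := by module
      rw [h9, h2L, zero_mul, zero_smul, hω, zero_smul, add_zero]

end Cfsg.Agent.Lib.Helper95.GFZ2
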