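import Mathlib
import Cfsg.Agent.Lib.Helper23.HNStmt
import Cfsg.Agent.Lib.Helper87.FUSHStmt

set_option autoImplicit false

/-!
# S1438 / FUSH step B (helper95): `S / F` nilpotent: for `s ∈ S` with `s x s⁻¹ ∈ H` there are
`n₁ ∈ N(H)`, `f ∈ F` with `f (n₁ x n₁⁻¹) f⁻¹ = s x s⁻¹`.
-/

namespace Cfsg.Agent.Lib.Helper95.HNFUSHB

universe u

open Cfsg.Agent.Lib.Helper23.HNStmt Cfsg.Agent.Lib.Helper87.FUSHStmt
open scoped Pointwise

theorem main (hU : HallNilUniq.{u}) (hC : HallConj.{u}) : StepB.{u} := by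
  intro X _ _ hsolv S F D H _ hFS hSD hDnil hHS hHall x hx s hs hsx
  classical
  have := hsolv
  obtain ⟨π, hπ⟩ : ∃ π : X →* X ⧸ F, π = QuotientGroup.mk' F := ⟨_, rfl⟩
  have hker : π.ker = F := by
    rw [hπ]
    exact QuotientGroup.ker_mk' F
  obtain ⟨H', hH'⟩ : ∃ H' : Subgroup X, H' = H.map (MulAut.conj s).toMonoidHom := ⟨_, rfl⟩
  have hH'S : H' ≤ S := by
    rw [hH']
    rintro _ ⟨h, hh, rfl⟩
    show s * h * s⁻¹ ∈ S
    exact S.mul_mem (S.mul_mem hs (hHS hh)) (S.inv_mem hs)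
  have hSDπ : S.map π ≤ D.map π := Subgroup.map_mono hSD
  have hnilS : Group.IsNilpotent ↥(S.map π) := by
    have : Group.IsNilpotent ↥(D.map π) := by
      rw [hπ]
      exact hDnil
    refine Subgroup.isNilpotent_of_ker_le_center (Subgroup.inclusion hSDπ) ?_
    rw [(MonoidHom.ker_eq_bot_iff _).mpr (Subgroup.inclusion_injective hSDπ)]
    exact bot_le
  have hmapeq : H'.map π = (H.map π).map (MulAut.conj (π s)).toMonoidHom := by
    rw [hH', Subgroup.map_map, Subgroup.map_map]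
    congr 1
    ext y
    simp [MulAut.conj_apply]
  have hcardeq : Nat.card ↥(H.map π) = Nat.card ↥(H'.map π) := by
    rw [hmapeq]
    exact (Subgroup.card_map_of_injective (MulEquiv.injective _)).symm
  have hcop : (Nat.card ↥(H.map π)).Coprime ((H.map π).relIndex (S.map π)) := by
    have h1 : Nat.card ↥(H.map π) ∣ Nat.card ↥H := Subgroup.card_map_dvd H π
    have h2 : (H.map π).relIndex (S.map π) ∣ H.relIndex S := by
      rw [Subgroup.relIndex_map_map, hker, sup_eq_left.mpr hFS]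
      exact Subgroup.relIndex_dvd_of_le_left S le_sup_left
    exact Nat.Coprime.coprime_dvd_left h1 (Nat.Coprime.coprime_dvd_right h2 hHall)
  have heq : H.map π = H'.map π :=
    hU (S.map π) (H.map π) (H'.map π) hnilS (Subgroup.map_mono hHS) (Subgroup.map_mono hH'S)
      hcardeq hcop
  have hH'T : H' ≤ F ⊔ H := by
    intro y hy
    have h1 : π y ∈ H.map π := by
      rw [heq]
      exact Subgroup.mem_map_of_mem π hy
    obtain ⟨h, hh, hhy⟩ := h1
    have h2 : h⁻¹ * y ∈ F := by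
      rw [hπ] at hhy
      exact QuotientGroup.eq.mp hhy
    have h3 : y = h * (h⁻¹ * y) := by group
    rw [h3]
    exact Subgroup.mul_mem _ (Subgroup.mem_sup_right hh) (Subgroup.mem_sup_left h2)
  have hTS : F ⊔ H ≤ S := sup_le hFS hHS
  have hsolvT : Group.IsSolvable ↥(F ⊔ H) := inferInstance
  have hcardH' : Nat.card ↥H = Nat.card ↥H' := by
    rw [hH']
    exact (Subgroup.card_map_of_injective (MulEquiv.injective _)).symm
  have hcopT : (Nat.card ↥H).Coprime (H.relIndex (F ⊔ H)) := by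
    have h := Subgroup.relIndex_mul_relIndex H (F ⊔ H) S le_sup_right hTS
    exact Nat.Coprime.coprime_dvd_right (Dvd.intro _ h) hHall
  obtain ⟨g, hg, hgeq⟩ := hC (F ⊔ H) H H' hsolvT le_sup_right hH'T hcardH' hcopT
  have hgm : g ∈ (F : Set X) * (H : Set X) := by
    rw [← Subgroup.normal_mul]
    exact hg
  obtain ⟨f, hf, h, hh, rfl⟩ := Set.mem_mul.mp hgm
  have key : ∀ y ∈ H, ∃ h' ∈ H, f * h' * f⁻¹ = s * y * s⁻¹ := by
    intro y hy
    have h1 : s * y * s⁻¹ ∈ H' := by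
      rw [hH']
      exact ⟨y, hy, rfl⟩
    rw [hgeq] at h1
    obtain ⟨z, hz, hzeq⟩ := h1
    refine ⟨h * z * h⁻¹, H.mul_mem (H.mul_mem hh hz) (H.inv_mem hh), ?_⟩
    rw [← hzeq]
    show f * (h * z * h⁻¹) * f⁻¹ = f * h * z * (f * h)⁻¹
    group
  have key2 : ∀ h' ∈ H, ∃ y ∈ H, f * h' * f⁻¹ = s * y * s⁻¹ := by
    intro h' hh'
    have h1 : f * h' * f⁻¹ ∈ H' := by
      rw [hgeq]
      refine ⟨h⁻¹ * h' * h, H.mul_mem (H.mul_mem (H.inv_mem hh) hh') hh, ?_⟩
      show f * h * (h⁻¹ * h' * h) * (f * h)⁻¹ = f * h' * f⁻¹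
      group
    rw [hH'] at h1
    obtain ⟨y, hy, hyeq⟩ := h1
    exact ⟨y, hy, hyeq.symm⟩
  have hn : f⁻¹ * s ∈ Subgroup.normalizer (H : Set X) := by
    rw [Subgroup.mem_normalizer_iff]
    intro y
    constructor
    · intro hy
      obtain ⟨h', hh', e⟩ := key y hy
      have e1 : f⁻¹ * s * y * (f⁻¹ * s)⁻¹ = f⁻¹ * (s * y * s⁻¹) * f := by group
      rw [e1, ← e]
      have e2 : f⁻¹ * (f * h' * f⁻¹) * f = h' := by group
      rw [e2]
      exact hh'
    · intro hy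
      obtain ⟨y', hy', e⟩ := key2 _ hy
      have h1 : f * (f⁻¹ * s * y * (f⁻¹ * s)⁻¹) * f⁻¹ = s * y * s⁻¹ := by group
      rw [h1] at e
      have h2 : y = y' := by
        have e1 : s⁻¹ * (s * y * s⁻¹) * s = y := by group
        have e2 : s⁻¹ * (s * y' * s⁻¹) * s = y' := by group
        rw [← e1, e, e2]
      rw [h2]
      exact hy'
  refine ⟨f⁻¹ * s, hn, f, hf, ?_, ?_⟩
  · exact (Subgroup.mem_normalizer_iff.mp hn x).mp hx
  · group

end Cfsg.Agent.Lib.Helper95.HNFUSHB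

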