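import Mathlib
import Cfsg.Agent.Lib.Helper26.J3Stmt
import Cfsg.Agent.Lib.Helper95.J3CON2

/-!
helper95: S3366 piece CON4: the normal forms lie in the stabilizer of the first basis vector
and are pairwise distinct.
-/

set_option autoImplicit false

namespace Cfsg.Agent.Lib.Helper95.J3CON4

open Cfsg Cfsg.Agent.Lib.Helper26.J3Stmt Matrix

/-- the matrix of the normal form -/
theorem prod_eq (u : V) (c : ZMod 3) (A : SL) :
    iotaM u * Matrix.fromBlocks 1 !![c, 0; 0, 0] 0 1 * kapM A =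
      Matrix.fromBlocks !![1, -u 1 * A.1 0 0 + u 0 * A.1 1 0; 0, A.1 0 0]
        !![c, -u 1 * A.1 0 1 + u 0 * A.1 1 1; u 0, A.1 0 1]
        !![0, 0; 0, A.1 1 0] !![1, 0; u 1, A.1 1 1] := by
  unfold iotaM kapM
  rw [Matrix.fromBlocks_multiply, Matrix.fromBlocks_multiply]
  congr 1 <;>
    (ext i j; fin_cases i <;> fin_cases j <;>
      simp [Matrix.mul_apply, Fin.sum_univ_two])

theorem coe_nf (ι : V → Sp) (z : Sp) (κ : SL →* Sp) (h : Model ι z κ) (u : V) (c : ZMod 3)
    (A : SL) :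
    ((ι u * z ^ c.val * κ A : Sp) : Mat) =
      Matrix.fromBlocks !![1, -u 1 * A.1 0 0 + u 0 * A.1 1 0; 0, A.1 0 0]
        !![c, -u 1 * A.1 0 1 + u 0 * A.1 1 1; u 0, A.1 0 1]
        !![0, 0; 0, A.1 1 0] !![1, 0; u 1, A.1 1 1] := by
  obtain ⟨hι, hz, hκ⟩ := h
  rw [J3CON2.coe_mul', J3CON2.coe_mul', hι, hκ, J3CON2.coe_zpow_val z hz, prod_eq]

theorem main : CON4 := by
  intro ι z κ h
  constructor
  · intro u c A i
    rw [coe_nf ι z κ h]
    rcases i with i | i <;> fin_cases i <;> simp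
  · rintro ⟨u, c, A⟩ ⟨u', c', A'⟩ hpq
    have h1 : ((ι u * z ^ c.val * κ A : Sp) : Mat) = ((ι u' * z ^ c'.val * κ A' : Sp) : Mat) :=
      congrArg Subtype.val hpq
    rw [coe_nf ι z κ h, coe_nf ι z κ h] at h1
    have e := fun i j => congrFun (congrFun h1 i) j
    have hc : c = c' := by simpa using e (Sum.inl 0) (Sum.inr 0)
    have hu0 : u 0 = u' 0 := by simpa using e (Sum.inl 1) (Sum.inr 0)
    have hu1 : u 1 = u' 1 := by simpa using e (Sum.inr 1) (Sum.inr 0)
    have ha : A.1 0 0 = A'.1 0 0 := by simpa using e (Sum.inl 1) (Sum.inl 1)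
    have hb : A.1 0 1 = A'.1 0 1 := by simpa using e (Sum.inl 1) (Sum.inr 1)
    have hc' : A.1 1 0 = A'.1 1 0 := by simpa using e (Sum.inr 1) (Sum.inl 1)
    have hd : A.1 1 1 = A'.1 1 1 := by simpa using e (Sum.inr 1) (Sum.inr 1)
    have hu : u = u' := by
      funext i; fin_cases i
      · exact hu0
      · exact hu1
    have hA : A = A' := by
      apply Subtype.ext
      ext i j
      fin_cases i <;> fin_cases j
      · exact ha
      · exact hb
      · exact hc'
      · exact hd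
    rw [hu, hc, hA]

end Cfsg.Agent.Lib.Helper95.J3CON4
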