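import Mathlib
import Cfsg.Agent.Lib.Helper26.J3Stmt
import Cfsg.Agent.Lib.Helper95.J3CON2

/-!
helper95: S3366 piece CON7: the image of `z` in the projective symplectic group has order 3.
-/

set_option autoImplicit false

namespace Cfsg.Agent.Lib.Helper95.J3CON7

open Cfsg Cfsg.Agent.Lib.Helper26.J3Stmt Matrix

theorem main : CON7 := by
  intro h5 z hz
  have : Fact (Nat.Prime 3) := ⟨by norm_num⟩
  apply orderOf_eq_prime
  · rw [← QuotientGroup.mk_pow, J3CON2.z_pow_three z hz]
    rfl
  · intro h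
    rw [QuotientGroup.eq_one_iff] at h
    obtain ⟨h1, -⟩ := h5 z h
    rw [hz] at h1
    rcases h1 with h1 | h1
    · have h2 := congrFun (congrFun h1 (Sum.inl 0)) (Sum.inr 0)
      simp [zM] at h2
    · have h2 := congrFun (congrFun h1 (Sum.inl 0)) (Sum.inr 0)
      simp [zM] at h2

end Cfsg.Agent.Lib.Helper95.J3CON7
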