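import Mathlib
import Cfsg.Agent.Lib.Helper1.PDStmt

/-!
helper95: S4020 piece AB3.  A `p`-group of exponent `p` and order divisible by `p⁴` has an abelian
subgroup of order `p³`.  In a subgroup `Q` of order `p⁴`: `z ≠ 1` central, `x` central modulo
`⟨z⟩`, `x ∉ ⟨z⟩`; `y ↦ x y x⁻¹ y⁻¹` is a homomorphism into `⟨z⟩` whose kernel `C` has order `≥ p³`;
`T = ⟨z, x⟩` has order `≥ p²`; either `C = T` is abelian or `⟨z, x, w⟩` (`w ∈ C ∖ T`) is abelian
of order `≥ p³`.
-/

set_option autoImplicit false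

namespace Cfsg.Agent.Lib.Helper95.PDAB3

open Cfsg.Agent.Lib.Helper1.PDStmt

universe u

theorem comm_closure {G : Type u} [Group G] (k : Set G)
    (h : ∀ x ∈ k, ∀ y ∈ k, x * y = y * x) :
    ∀ a ∈ Subgroup.closure k, ∀ b ∈ Subgroup.closure k, a * b = b * a := by
  have h1 : ∀ x ∈ k, Subgroup.closure k ≤ Subgroup.centralizer {x} := by
    intro x hx
    rw [Subgroup.closure_le]
    intro y hy
    rw [SetLike.mem_coe, Subgroup.mem_centralizer_iff]
    intro t ht
    rw [Set.mem_singleton_iff] at ht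
    rw [ht]
    exact h x hx y hy
  have h2 : ∀ b ∈ Subgroup.closure k, Subgroup.closure k ≤ Subgroup.centralizer {b} := by
    intro b hb
    rw [Subgroup.closure_le]
    intro x hx
    rw [SetLike.mem_coe, Subgroup.mem_centralizer_iff]
    intro t ht
    rw [Set.mem_singleton_iff] at ht
    rw [ht]
    have h3 := (Subgroup.mem_centralizer_iff.mp (h1 x hx hb)) x (Set.mem_singleton x)
    exact h3.symm
  intro a ha b hb
  have h3 := (Subgroup.mem_centralizer_iff.mp (h2 b hb ha)) b (Set.mem_singleton b)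
  exact h3.symm

theorem pow_step {p : ℕ} (hp : p.Prime) {n k : ℕ} (hn : n ∣ p ^ 4) (h : p ^ k < n) :
    p ^ (k + 1) ∣ n := by
  obtain ⟨a, ha, rfl⟩ := (Nat.dvd_prime_pow hp).mp hn
  have h1 : k < a := (Nat.pow_lt_pow_iff_right hp.one_lt).mp h
  exact Nat.pow_dvd_pow p h1

theorem pow_le_dvd {p : ℕ} (hp : p.Prime) {n k : ℕ} (hn : n ∣ p ^ 4) (h : p ^ k ≤ n) :
    p ^ k ∣ n := by
  obtain ⟨a, ha, rfl⟩ := (Nat.dvd_prime_pow hp).mp hn
  have h1 : k ≤ a := (Nat.pow_le_pow_iff_right hp.one_lt).mp h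
  exact Nat.pow_dvd_pow p h1

theorem card_lt {G : Type u} [Group G] [Finite G] {A B : Subgroup G} (hle : A ≤ B) (x : G)
    (hxB : x ∈ B) (hxA : x ∉ A) : Nat.card A < Nat.card B := by
  by_contra hcon
  have h1 := Subgroup.eq_of_le_of_card_ge hle (not_lt.mp hcon)
  rw [h1] at hxA
  exact hxA hxB

theorem core {G : Type u} [Group G] [Finite G] (p : ℕ) [hp : Fact p.Prime]
    (hcard : Nat.card G = p ^ 4) (hexp : ∀ x : G, x ^ p = 1) :
    ∃ B : Subgroup G, p ^ 3 ∣ Nat.card B ∧ ∀ a ∈ B, ∀ b ∈ B, a * b = b * a := by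
  have hpG : IsPGroup p G := IsPGroup.of_card hcard
  have hp1 : 1 < p := hp.out.one_lt
  have hdvdG : ∀ S : Subgroup G, Nat.card S ∣ p ^ 4 := fun S => by
    rw [← hcard]
    exact Subgroup.card_subgroup_dvd_card S
  haveI : Nontrivial G := by
    rw [← Finite.one_lt_card_iff_nontrivial, hcard]
    exact Nat.one_lt_pow (by norm_num) hp1
  haveI := hpG.center_nontrivial
  obtain ⟨⟨z, hz⟩, hz1⟩ := exists_ne (1 : Subgroup.center G)
  have hz1' : z ≠ 1 := fun h => hz1 (Subtype.ext h)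
  have hzc : ∀ g : G, g * z = z * g := Subgroup.mem_center_iff.mp hz
  obtain ⟨N, hNdef⟩ : ∃ N : Subgroup G, N = Subgroup.zpowers z := ⟨_, rfl⟩
  have hzN : z ∈ N := by
    rw [hNdef]
    exact Subgroup.mem_zpowers z
  have hNc : ∀ n ∈ N, ∀ g : G, g * n = n * g := by
    intro n hn g
    rw [hNdef] at hn
    have h1 : n ∈ Subgroup.center G := (Subgroup.zpowers_le.mpr hz) hn
    exact Subgroup.mem_center_iff.mp h1 g
  haveI hNn : N.Normal := ⟨fun n hn g => by
    rw [hNc n hn g, mul_inv_cancel_right]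
    exact hn⟩
  have hNcard : Nat.card N = p := by
    rw [hNdef, Nat.card_zpowers]
    exact orderOf_eq_prime (hexp z) hz1'
  have hqcard : Nat.card (G ⧸ N) = p ^ 3 := by
    have h1 := Subgroup.card_mul_index N
    rw [hNcard, hcard, Subgroup.index_eq_card] at h1
    have h2 : p * Nat.card (G ⧸ N) = p * p ^ 3 := by
      rw [h1]
      ring
    exact Nat.eq_of_mul_eq_mul_left hp.out.pos h2
  haveI : Nontrivial (G ⧸ N) := by
    rw [← Finite.one_lt_card_iff_nontrivial, hqcard]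
    exact Nat.one_lt_pow (by norm_num) hp1
  haveI := (hpG.to_quotient N).center_nontrivial
  obtain ⟨⟨xb, hxb⟩, hxb1⟩ := exists_ne (1 : Subgroup.center (G ⧸ N))
  obtain ⟨x, rfl⟩ := QuotientGroup.mk_surjective xb
  have hxN : x ∉ N := by
    intro h
    apply hxb1
    apply Subtype.ext
    exact (QuotientGroup.eq_one_iff x).mpr h
  have hcomm : ∀ y : G, x * y * x⁻¹ * y⁻¹ ∈ N := by
    intro y
    have h1 := Subgroup.mem_center_iff.mp hxb (y : G ⧸ N)
    rw [← QuotientGroup.eq_one_iff]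
    show (x : G ⧸ N) * (y : G ⧸ N) * (x : G ⧸ N)⁻¹ * (y : G ⧸ N)⁻¹ = 1
    rw [← h1]
    group
  obtain ⟨φ, hφ⟩ : ∃ φ : G →* G, ∀ y, φ y = x * y * x⁻¹ * y⁻¹ := by
    refine ⟨MonoidHom.mk' (fun y => x * y * x⁻¹ * y⁻¹) ?_, fun y => rfl⟩
    intro y₁ y₂
    have hc := hNc _ (hcomm y₂) y₁⁻¹
    calc x * (y₁ * y₂) * x⁻¹ * (y₁ * y₂)⁻¹
        = x * y₁ * x⁻¹ * ((x * y₂ * x⁻¹ * y₂⁻¹) * y₁⁻¹) := by group
      _ = x * y₁ * x⁻¹ * (y₁⁻¹ * (x * y₂ * x⁻¹ * y₂⁻¹)) := by rw [← hc]
      _ = x * y₁ * x⁻¹ * y₁⁻¹ * (x * y₂ * x⁻¹ * y₂⁻¹) := by group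
  obtain ⟨C, hCdef⟩ : ∃ C : Subgroup G, C = φ.ker := ⟨_, rfl⟩
  have hmemC : ∀ y, y ∈ C ↔ x * y * x⁻¹ * y⁻¹ = 1 := by
    intro y
    rw [hCdef, MonoidHom.mem_ker, hφ]
  have hC : ∀ y ∈ C, x * y = y * x := by
    intro y hy
    have h1 := (hmemC y).mp hy
    have h2 : x * y * x⁻¹ = y := mul_inv_eq_one.mp h1
    exact mul_inv_eq_iff_eq_mul.mp h2
  have hxC : x ∈ C := (hmemC x).mpr (by group)
  have hzC : z ∈ C := (hmemC z).mpr (by rw [hzc x]; group)
  have hidx : C.index ≤ p := by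
    rw [hCdef, Subgroup.index_ker]
    have hr : φ.range ≤ N := by
      rintro _ ⟨y, rfl⟩
      rw [hφ]
      exact hcomm y
    calc Nat.card φ.range ≤ Nat.card N := Subgroup.card_le_of_le hr
      _ = p := hNcard
  have hCcard : p ^ 3 ≤ Nat.card C := by
    have h1 := Subgroup.card_mul_index C
    rw [hcard] at h1
    have h2 : Nat.card C * C.index ≤ Nat.card C * p := Nat.mul_le_mul_left _ hidx
    have h3 : p ^ 3 * p ≤ Nat.card C * p := by
      rw [h1] at h2
      calc p ^ 3 * p = p ^ 4 := by ring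
        _ ≤ Nat.card C * p := h2
    exact Nat.le_of_mul_le_mul_right h3 hp.out.pos
  have hk2 : ∀ s ∈ ({z, x} : Set G), ∀ t ∈ ({z, x} : Set G), s * t = t * s := by
    intro s hs t ht
    rcases hs with rfl | rfl
    · exact (hzc t).symm
    · rcases ht with rfl | rfl
      · exact hzc s
      · rfl
  have hTab := comm_closure ({z, x} : Set G) hk2
  have hNT : N ≤ Subgroup.closure ({z, x} : Set G) := by
    rw [hNdef, Subgroup.zpowers_le]
    exact Subgroup.subset_closure (by simp)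
  have hxT : x ∈ Subgroup.closure ({z, x} : Set G) := Subgroup.subset_closure (by simp)
  have hT1 : p < Nat.card (Subgroup.closure ({z, x} : Set G)) := by
    have h1 := card_lt hNT x hxT hxN
    rw [hNcard] at h1
    exact h1
  have hT2 : p ^ 2 ≤ Nat.card (Subgroup.closure ({z, x} : Set G)) := by
    have h1 : p ^ 1 < Nat.card (Subgroup.closure ({z, x} : Set G)) := by
      rw [pow_one]
      exact hT1
    exact Nat.le_of_dvd Nat.card_pos (pow_step hp.out (hdvdG _) h1)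
  have hTC : Subgroup.closure ({z, x} : Set G) ≤ C := by
    rw [Subgroup.closure_le]
    intro s hs
    rcases hs with rfl | rfl
    · exact hzC
    · exact hxC
  by_cases hCT : C ≤ Subgroup.closure ({z, x} : Set G)
  · exact ⟨C, pow_le_dvd hp.out (hdvdG C) hCcard, fun a ha b hb => hTab a (hCT ha) b (hCT hb)⟩
  · obtain ⟨w, hwC, hwT⟩ := SetLike.not_le_iff_exists.mp hCT
    have hk3 : ∀ s ∈ ({z, x, w} : Set G), ∀ t ∈ ({z, x, w} : Set G), s * t = t * s := by
      intro s hs t ht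
      rcases hs with rfl | rfl | rfl
      · exact (hzc t).symm
      · rcases ht with rfl | rfl | rfl
        · exact hzc s
        · rfl
        · exact hC t hwC
      · rcases ht with rfl | rfl | rfl
        · exact hzc s
        · exact (hC s hwC).symm
        · rfl
    refine ⟨Subgroup.closure ({z, x, w} : Set G), ?_, comm_closure _ hk3⟩
    have hle : Subgroup.closure ({z, x} : Set G) ≤ Subgroup.closure ({z, x, w} : Set G) := by
      apply Subgroup.closure_mono
      intro s hs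
      rcases hs with rfl | rfl
      · simp
      · simp
    have hwB : w ∈ Subgroup.closure ({z, x, w} : Set G) := Subgroup.subset_closure (by simp)
    have h1 := card_lt hle w hwB hwT
    have h2 : p ^ 2 < Nat.card (Subgroup.closure ({z, x, w} : Set G)) := lt_of_le_of_lt hT2 h1
    exact pow_step hp.out (hdvdG _) h2

theorem main : Ab3.{u} := by
  intro X _ _ p _ P hP hexp hdvd
  obtain ⟨K₀, hK₀⟩ := Sylow.exists_subgroup_card_pow_prime p hdvd
  obtain ⟨B, hB3, hBab⟩ := core (G := ↥K₀) p hK₀ (by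
    intro y
    apply Subtype.ext
    apply Subtype.ext
    have h1 := hexp ((y : ↥P) : X) (y : ↥P).2
    simpa using h1)
  obtain ⟨B₃, hB₃⟩ := Sylow.exists_subgroup_card_pow_prime p hB3
  refine ⟨((B₃.map B.subtype).map K₀.subtype).map P.subtype, ?_, ?_, ?_⟩
  · rintro _ ⟨y, -, rfl⟩
    exact y.2
  · rw [Subgroup.card_subtype, Subgroup.card_subtype, Subgroup.card_subtype]
    exact hB₃
  · rintro _ ⟨_, ⟨_, ⟨a, ha, rfl⟩, rfl⟩, rfl⟩ _ ⟨_, ⟨_, ⟨b, hb, rfl⟩, rfl⟩, rfl⟩
    have h1 := hBab a a.2 b b.2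
    have h2 := congrArg (fun t : ↥K₀ => ((t : ↥P) : X)) h1
    simpa using h2

end Cfsg.Agent.Lib.Helper95.PDAB3
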