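import Mathlib
import Cfsg.Agent.Lib.Helper18.R59Stmt

/-!
Piece `SLI` of S2359: in the centraliser of an element of prime order `p ∤ 6(q-1)` of `SL₂(q)`,
`q = 3^(2m+1)`, the elements with central square form a cyclic group of order 4.
-/

set_option autoImplicit false

namespace Cfsg.Agent.Lib.Helper95.R59SLI

open Matrix

universe u

section gen

variable {K : Type u} [Field K]

/-- the central element `-1` of `SL₂` -/
def negOne : SpecialLinearGroup (Fin 2) K := ⟨!![-1, 0; 0, -1], by simp [Matrix.det_fin_two]⟩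

theorem negOne_mul (g : SpecialLinearGroup (Fin 2) K) : negOne * g = g * negOne := by
  apply Subtype.ext
  show (negOne : SpecialLinearGroup (Fin 2) K).1 * g.1 = g.1 * (negOne : SpecialLinearGroup (Fin 2) K).1
  ext i j
  fin_cases i <;> fin_cases j <;> simp [negOne, Matrix.mul_apply, Fin.sum_univ_two]

theorem negOne_mem_center :
    (negOne : SpecialLinearGroup (Fin 2) K) ∈ Subgroup.center (SpecialLinearGroup (Fin 2) K) :=
  Subgroup.mem_center_iff.mpr (fun g => (negOne_mul g).symm)

theorem eq_of_sq_eq_one (h2 : (2 : K) ≠ 0) (y : SpecialLinearGroup (Fin 2) K) (hy : y * y = 1) :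
    y = 1 ∨ y = negOne := by
  have hdet := y.2
  rw [Matrix.det_fin_two] at hdet
  have hm : y.1 * y.1 = 1 := by
    have h := congrArg (fun z : SpecialLinearGroup (Fin 2) K => z.1) hy
    simpa using h
  have e00 := congrFun (congrFun hm 0) 0
  have e01 := congrFun (congrFun hm 0) 1
  have e10 := congrFun (congrFun hm 1) 0
  simp only [Matrix.mul_apply, Fin.sum_univ_two] at e00 e01 e10
  rw [Matrix.one_apply_eq] at e00
  rw [Matrix.one_apply_ne (by decide)] at e01 e10
  by_cases hs : y.1 0 0 + y.1 1 1 = 0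
  · exfalso
    apply h2
    linear_combination y.1 0 0 * hs - e00 - hdet
  · have hb : y.1 0 1 = 0 := by
      have h : y.1 0 1 * (y.1 0 0 + y.1 1 1) = 0 := by linear_combination e01
      rcases mul_eq_zero.mp h with h | h
      · exact h
      · exact absurd h hs
    have hc : y.1 1 0 = 0 := by
      have h : y.1 1 0 * (y.1 0 0 + y.1 1 1) = 0 := by linear_combination e10
      rcases mul_eq_zero.mp h with h | h
      · exact h
      · exact absurd h hs
    rw [hb, hc] at hdet
    rw [hb] at e00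
    have had : y.1 0 0 = y.1 1 1 := by
      linear_combination y.1 1 1 * e00 - y.1 0 0 * hdet
    have ha : (y.1 0 0 - 1) * (y.1 0 0 + 1) = 0 := by linear_combination e00
    rcases mul_eq_zero.mp ha with h | h
    · left
      have ha1 : y.1 0 0 = 1 := by linear_combination h
      have hd1 : y.1 1 1 = 1 := by rw [← had]; exact ha1
      apply Subtype.ext
      ext i j
      fin_cases i <;> fin_cases j <;> simp [ha1, hd1, hb, hc]
    · right
      have ha1 : y.1 0 0 = -1 := by linear_combination h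
      have hd1 : y.1 1 1 = -1 := by rw [← had]; exact ha1
      apply Subtype.ext
      ext i j
      fin_cases i <;> fin_cases j <;> simp [negOne, ha1, hd1, hb, hc]

theorem center_cases (z : SpecialLinearGroup (Fin 2) K)
    (hz : z ∈ Subgroup.center (SpecialLinearGroup (Fin 2) K)) : z = 1 ∨ z = negOne := by
  obtain ⟨r, hr, hrz⟩ := Matrix.SpecialLinearGroup.mem_center_iff.mp hz
  rw [Fintype.card_fin] at hr
  have h : r = 1 ∨ r = -1 := by
    have h0 : (r - 1) * (r + 1) = 0 := by linear_combination hr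
    rcases mul_eq_zero.mp h0 with h | h
    · left; linear_combination h
    · right; linear_combination h
  rcases h with rfl | rfl
  · left
    apply Subtype.ext
    rw [← hrz]
    simp
  · right
    apply Subtype.ext
    rw [← hrz]
    ext i j
    fin_cases i <;> fin_cases j <;> simp [negOne]

end gen

theorem main : Cfsg.Agent.Lib.Helper18.R59Stmt.SLI.{u} := by
  intro hSLC K _ _ m hK x p hp hp2 hp3 hpq hx
  classical
  obtain ⟨hcomm, hcard⟩ := hSLC K m hK x p hp hp2 hp3 hpq hx
  have h2 : (2 : K) ≠ 0 := by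
    intro h
    have hch : CharP K 2 := CharTwo.of_one_ne_zero_of_two_eq_zero one_ne_zero h
    have h1 : ringChar K = 2 := ringChar.eq K 2
    have h3 := FiniteField.even_card_iff_char_two.mp h1
    rw [hK] at h3
    have h4 : 3 ^ (2 * m + 1) % 2 = 1 := by
      rw [Nat.pow_mod]; norm_num
    omega
  have hfin : Finite (SpecialLinearGroup (Fin 2) K) := Subtype.finite
  obtain ⟨C, hC⟩ : ∃ C : Subgroup (SpecialLinearGroup (Fin 2) K), ∀ y, y ∈ C ↔ y * x = x * y := by
    refine ⟨Subgroup.centralizer {x}, fun y => ?_⟩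
    rw [Subgroup.mem_centralizer_iff]
    constructor
    · intro h; exact (h x rfl).symm
    · intro h z hz
      rw [Set.mem_singleton_iff] at hz
      rw [hz]; exact h.symm
  have hCcard : Nat.card C = 3 ^ (2 * m + 1) + 1 := by
    rw [← hcard]
    exact Nat.card_congr (Equiv.subtypeEquivRight hC)
  have h4 : 2 ^ 2 ∣ Nat.card C := by
    rw [hCcard]
    have h : 3 ^ (2 * m + 1) % 4 = 3 := by
      rw [pow_succ, pow_mul, Nat.mul_mod, Nat.pow_mod]; norm_num
    omega
  obtain ⟨D, hD⟩ := Sylow.exists_subgroup_card_pow_prime 2 h4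
  have hex : ∃ d : ↥C, d ∈ D ∧ (d : SpecialLinearGroup (Fin 2) K) ≠ 1 ∧
      (d : SpecialLinearGroup (Fin 2) K) ≠ negOne := by
    by_contra hcon
    push Not at hcon
    have hinj : Function.Injective
        (fun d : ↥D => decide (((d : ↥C) : SpecialLinearGroup (Fin 2) K) = 1)) := by
      intro d d' hdd
      simp only [decide_eq_decide] at hdd
      apply Subtype.ext
      apply Subtype.ext
      by_cases h1 : ((d : ↥C) : SpecialLinearGroup (Fin 2) K) = 1
      · rw [h1, hdd.mp h1]
      · have h1' : ¬ ((d' : ↥C) : SpecialLinearGroup (Fin 2) K) = 1 := fun h => h1 (hdd.mpr h)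
        rw [hcon d.1 d.2 h1, hcon d'.1 d'.2 h1']
    have h := Nat.card_le_card_of_injective _ hinj
    rw [hD, Nat.card_eq_fintype_card, Fintype.card_bool] at h
    omega
  obtain ⟨d, hdD, hd1, hdn⟩ := hex
  obtain ⟨i₀, hi₀⟩ : ∃ i₀ : SpecialLinearGroup (Fin 2) K,
      i₀ = (d : SpecialLinearGroup (Fin 2) K) := ⟨_, rfl⟩
  have hi₀C : i₀ * x = x * i₀ := by rw [hi₀]; exact (hC _).mp d.2
  have hd4 : i₀ ^ 4 = 1 := by
    have h := pow_card_eq_one' (G := ↥D) (x := ⟨d, hdD⟩)
    rw [hD] at h
    have h' := congrArg (fun e : ↥D => ((e : ↥C) : SpecialLinearGroup (Fin 2) K)) h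
    simpa [hi₀] using h'
  have hsq_ne : i₀ * i₀ ≠ 1 := by
    intro h
    rcases eq_of_sq_eq_one h2 i₀ h with h' | h'
    · exact hd1 (hi₀ ▸ h')
    · exact hdn (hi₀ ▸ h')
  have hsq : i₀ * i₀ = negOne := by
    have h : (i₀ * i₀) * (i₀ * i₀) = 1 := by
      rw [← hd4, pow_succ, pow_succ, pow_succ, pow_one]
      simp only [mul_assoc]
    rcases eq_of_sq_eq_one h2 (i₀ * i₀) h with h' | h'
    · exact absurd h' hsq_ne
    · exact h'
  refine ⟨i₀, hi₀C, hsq_ne, ?_, ?_⟩
  · rw [hsq]; exact negOne_mem_center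
  · intro y hy hyc
    rcases center_cases (y * y) hyc with h | h
    · rcases eq_of_sq_eq_one h2 y h with h' | h'
      · left; exact h'
      · right; right; left; rw [hsq]; exact h'
    · have hcomm' : y * i₀ = i₀ * y := hcomm y i₀ hy hi₀C
      have hc2 : i₀⁻¹ * y = y * i₀⁻¹ := by
        rw [eq_mul_inv_iff_mul_eq, mul_assoc, hcomm', ← mul_assoc, inv_mul_cancel, one_mul]
      have h1 : (y * i₀⁻¹) * (y * i₀⁻¹) = 1 := by
        calc (y * i₀⁻¹) * (y * i₀⁻¹) = y * (i₀⁻¹ * y) * i₀⁻¹ := by group
          _ = y * (y * i₀⁻¹) * i₀⁻¹ := by rw [hc2]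
          _ = (y * y) * (i₀ * i₀)⁻¹ := by group
          _ = 1 := by rw [h, hsq, mul_inv_cancel]
      rcases eq_of_sq_eq_one h2 (y * i₀⁻¹) h1 with h' | h'
      · right; left
        exact mul_inv_eq_one.mp h'
      · right; right; right
        rw [hsq]
        exact mul_inv_eq_iff_eq_mul.mp h'

end Cfsg.Agent.Lib.Helper95.R59SLI
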