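import Mathlib
import Cfsg.Agent.Lib.Helper22.S56Stmt
import Cfsg.Agent.Lib.Helper31.CoprimeGen

set_option autoImplicit false

/-!
# S1356 piece LIFT (helper95): a `q'`-group acting trivially on `O / N` (`N` of non-generators of
the normal `q`-group `O`) centralizes `O`.
-/

namespace Cfsg.Agent.Lib.Helper95.S56LIFT

universe u

theorem main : Cfsg.Agent.Lib.Helper22.S56Stmt.Lift.{u} := by
  intro X _ _ O N A _ _ q hqf hO hNO hgen hcop hAN
  classical
  have hq : q.Prime := hqf.out
  have hqA : ¬ q ∣ Nat.card ↥A := (Nat.Prime.coprime_iff_not_dvd hq).mp hcop.symm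
  have key : ∀ n : ℕ, ∀ a ∈ A, orderOf a = n → a ∈ Subgroup.centralizer (O : Set X) := by
    intro n
    induction n using Nat.strong_induction_on with
    | _ n ih =>
      intro a ha hn
      by_cases ha1 : a = 1
      · rw [ha1]
        exact Subgroup.one_mem _
      have hord1 : orderOf a ≠ 1 := by
        intro h
        exact ha1 (orderOf_eq_one_iff.mp h)
      obtain ⟨r, hr, hra⟩ := Nat.exists_prime_and_dvd hord1
      have : Fact r.Prime := ⟨hr⟩
      have hpos : 0 < orderOf a := orderOf_pos a
      have hlt : orderOf (a ^ r) < n := by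
        rw [← hn, orderOf_pow' a hr.ne_zero, Nat.gcd_eq_right hra]
        exact Nat.div_lt_self hpos hr.one_lt
      have har : a ^ r ∈ Subgroup.centralizer (O : Set X) :=
        ih _ hlt (a ^ r) (A.pow_mem ha r) rfl
      have hrq : r ≠ q := by
        intro h
        apply hqA
        rw [← h]
        exact hra.trans (Subgroup.orderOf_dvd_natCard A ha)
      have hrN : ¬ r ∣ Nat.card ↥(N.subgroupOf O) := by
        intro h
        obtain ⟨k, hk⟩ := (IsPGroup.iff_card.mp (hO.to_subgroup (N.subgroupOf O)))
        rw [hk] at h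
        exact hrq ((Nat.prime_dvd_prime_iff_eq hr hq).mp (hr.dvd_of_dvd_pow h))
      have hφ : (MulAut.conjNormal a : MulAut ↥O) ^ r = 1 := by
        rw [← map_pow]
        apply MulEquiv.ext
        intro o
        apply Subtype.ext
        rw [MulAut.conjNormal_apply, MulAut.one_apply]
        have h := (Subgroup.mem_centralizer_iff.mp har) (o : X) o.2
        rw [← h, mul_inv_cancel_right]
      have hφN : ∀ n ∈ N.subgroupOf O, (MulAut.conjNormal a : MulAut ↥O) n ∈ N.subgroupOf O := by
        intro n hn'
        rw [Subgroup.mem_subgroupOf] at hn' ⊢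
        rw [MulAut.conjNormal_apply]
        exact (inferInstance : N.Normal).conj_mem _ hn' a
      have hcov : O ≤ (O ⊓ Subgroup.centralizer ({a} : Set X)) ⊔ N := by
        intro o ho
        have hx : (⟨o, ho⟩ : ↥O)⁻¹ * (MulAut.conjNormal a : MulAut ↥O) ⟨o, ho⟩ ∈ N.subgroupOf O := by
          rw [Subgroup.mem_subgroupOf, Subgroup.coe_mul, MulAut.conjNormal_apply]
          have h1 := (inferInstance : N.Normal).conj_mem _ (hAN a ha o ho) o⁻¹
          have h2 : o⁻¹ * (a * o * a⁻¹ * o⁻¹) * o⁻¹⁻¹ = o⁻¹ * (a * o * a⁻¹) := by group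
          rw [h2] at h1
          exact h1
        obtain ⟨m, hm, hfix⟩ := Cfsg.Agent.Lib.Helper31.CoprimeGen.exists_fixed_in_coset
          (MulAut.conjNormal a : MulAut ↥O) hφ (N.subgroupOf O) hrN hφN ⟨o, ho⟩ hx
        have h3 := congrArg Subtype.val hfix
        rw [MulAut.conjNormal_apply, Subgroup.coe_mul] at h3
        have hmN : (m : X) ∈ N := Subgroup.mem_subgroupOf.mp hm
        have hcen : o * (m : X) ∈ Subgroup.centralizer ({a} : Set X) := by
          rw [Subgroup.mem_centralizer_iff]
          intro h hh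
          rw [Set.mem_singleton_iff] at hh
          rw [hh]
          have h4 : a * (o * (m : X)) * a⁻¹ = o * (m : X) := h3
          calc a * (o * (m : X)) = a * (o * (m : X)) * a⁻¹ * a := by group
            _ = o * (m : X) * a := by rw [h4]
        have hmem : o * (m : X) ∈ O ⊓ Subgroup.centralizer ({a} : Set X) :=
          Subgroup.mem_inf.mpr ⟨O.mul_mem ho m.2, hcen⟩
        have h5 : o = o * (m : X) * (m : X)⁻¹ := by group
        rw [h5]
        exact Subgroup.mul_mem_sup hmem (N.inv_mem hmN)
      have hle := hgen _ inf_le_left hcov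
      rw [Subgroup.mem_centralizer_iff]
      intro o ho
      have h6 : o ∈ Subgroup.centralizer ({a} : Set X) := (Subgroup.mem_inf.mp (hle ho)).2
      rw [Subgroup.mem_centralizer_iff] at h6
      exact (h6 a (Set.mem_singleton a)).symm
  intro a ha
  exact key _ a ha rfl

end Cfsg.Agent.Lib.Helper95.S56LIFT

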