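import Mathlib
import Cfsg.Agent.Lib.Helper22.S56Stmt
import Cfsg.Agent.Lib.Helper54.S57Stmt

/-!
# S1357 / QUOTR (helper95; port of `Helper13.S56QUOT`): if `D` does not centralize `O / N`
then `|R|` is prime
-/

set_option autoImplicit false

namespace Cfsg.Agent.Lib.Helper95.S57QUOTR

universe u

open Cfsg Cfsg.Agent.Lib.Helper93.S64Stmt

theorem main (hQP : QuotPrime.{u}) (hFP : Cfsg.Agent.Lib.Helper54.S57Stmt.FrobPrime.{u}) :
    Cfsg.Agent.Lib.Helper54.S57Stmt.QuotR.{u} := by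
  intro X _ _ H R D N _ _ q setA setB hidx hCO hDH hDO hRD hNO hpow hcomm hnot
  have hqp : q.Prime := setB.qprime
  have : Fact q.Prime := ⟨hqp⟩
  obtain ⟨O, hO⟩ : ∃ O, O = Oq X H q := ⟨_, rfl⟩
  rw [← hO] at hidx hCO hDO hNO hpow hcomm hnot
  have hOn : O.Normal := hO ▸ Oq_normal X H q
  have hOH : O ≤ H := hO ▸ Oq_le X H q
  have hQ := hQP H R N (hNO.trans hOH) setA.cop setA.prime
  obtain ⟨π, hπ⟩ : ∃ π : X →* X ⧸ N, π = QuotientGroup.mk' N := ⟨_, rfl⟩
  rw [← hπ] at hQ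
  have hπs : Function.Surjective π := hπ ▸ QuotientGroup.mk'_surjective N
  have hπ1 : ∀ x, π x = 1 ↔ x ∈ N := by
    intro x; rw [hπ]; exact QuotientGroup.eq_one_iff x
  have hHR : H ⊓ R = ⊥ := disjoint_iff.1 (Subgroup.disjoint_of_coprime_natCard setA.cop)
  obtain ⟨C, hC⟩ : ∃ C, C = H ⊓ Subgroup.centralizer (R : Set X) := ⟨_, rfl⟩
  rw [← hC] at hQ hCO
  have hCcard : Nat.card ↥C = q := hC ▸ setB.card
  -- an element of `R` outside `N`
  obtain ⟨⟨x₀, hx₀⟩, hx₀1⟩ := (Subgroup.ne_bot_iff_exists_ne_one).1 setA.ne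
  have hx₀1' : x₀ ≠ 1 := fun h => hx₀1 (Subtype.ext h)
  have hy₀ : π x₀ ≠ 1 := by
    intro h
    have h1 : x₀ ∈ N := (hπ1 _).1 h
    have h2 : x₀ ∈ H ⊓ R := ⟨hOH (hNO h1), hx₀⟩
    rw [hHR] at h2
    exact hx₀1' (Subgroup.mem_bot.1 h2)
  have hy₀R : π x₀ ∈ R.map π := Subgroup.mem_map_of_mem π hx₀
  have hVn : (O.map π).Normal := Subgroup.Normal.map hOn π hπs
  have hVtop : ∀ S : Subgroup (X ⧸ N), S ≤ Subgroup.normalizer ((O.map π : Subgroup (X ⧸ N)) : Set (X ⧸ N)) := by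
    intro S
    rw [Subgroup.normalizer_eq_top]
    exact le_top
  -- the hypotheses of `FrobMod`
  have h1 : ∀ a ∈ O.map π, ∀ b ∈ O.map π, a * b = b * a := by
    rintro _ ⟨a, ha, rfl⟩ _ ⟨b, hb, rfl⟩
    have h := (hπ1 _).2 (hcomm a ha b hb)
    simp only [map_mul, map_inv] at h
    exact commutatorElement_eq_one_iff_mul_comm.1 (by rw [commutatorElement_def]; exact h)
  have h2 : ∀ a ∈ O.map π, a ^ q = 1 := by
    rintro _ ⟨a, ha, rfl⟩
    rw [← map_pow]
    exact (hπ1 _).2 (hpow a ha)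
  have h5 : R.map π ≤ Subgroup.normalizer ((D.map π : Subgroup (X ⧸ N)) : Set (X ⧸ N)) :=
    (Subgroup.map_mono hRD).trans (Subgroup.le_normalizer_map π)
  have h6 : R.map π ≠ ⊥ := by
    intro h
    rw [h] at hy₀R
    exact hy₀ (Subgroup.mem_bot.1 hy₀R)
  have h7 : ∀ r ∈ R.map π, r ≠ 1 →
      D.map π ⊓ Subgroup.centralizer ({r} : Set (X ⧸ N)) = ⊥ := by
    intro y hy hy1
    rw [eq_bot_iff]
    rintro z ⟨hzK, hzC⟩
    obtain ⟨d', hd', rfl⟩ := hzK
    have hmem : π d' ∈ H.map π ⊓ Subgroup.centralizer ({y} : Set (X ⧸ N)) :=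
      ⟨Subgroup.mem_map_of_mem π (hDH hd'), hzC⟩
    rw [hQ y hy hy1] at hmem
    obtain ⟨c, hc, hcd⟩ := hmem
    have hN : c⁻¹ * d' ∈ N := by
      rw [← hπ1, map_mul, map_inv, hcd, inv_mul_cancel]
    have hdO : d' ∈ O := by
      have := O.mul_mem (hCO hc) (hNO hN)
      rwa [mul_inv_cancel_left] at this
    have hd1 : d' ∈ D ⊓ O := ⟨hd', hdO⟩
    rw [hDO] at hd1
    rw [Subgroup.mem_bot.1 hd1, map_one]
    exact Subgroup.mem_bot.2 rfl
  have h8 : Group.IsSolvable ↥(D.map π ⊔ R.map π) := by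
    have := setA.solv
    infer_instance
  have h9 : Odd (Nat.card ↥(D.map π ⊔ R.map π)) := by
    refine Odd.of_dvd_nat setA.odd ?_
    exact (Subgroup.card_subgroup_dvd_card _).trans (Subgroup.card_quotient_dvd_card N)
  have h10 : (Nat.card ↥(D.map π ⊔ R.map π)).Coprime q := by
    refine ((Nat.Prime.coprime_iff_not_dvd hqp).2 ?_).symm
    intro hdvd
    rw [← Subgroup.map_sup] at hdvd
    have hdvd2 : q ∣ Nat.card ↥(D ⊔ R) := hdvd.trans (Subgroup.card_map_dvd _ π)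
    obtain ⟨g, hg⟩ := exists_prime_orderOf_dvd_card' q hdvd2
    have hgo : orderOf (g : X) = q := by rw [Subgroup.orderOf_coe]; exact hg
    have hgS : (g : X) ∈ ((D ⊔ R : Subgroup X) : Set X) := g.2
    rw [Subgroup.coe_mul_of_right_le_normalizer_left D R hRD] at hgS
    obtain ⟨d', hd', r, hr, hdr⟩ := Set.mem_mul.1 hgS
    -- `g ∈ O`
    have hgO : (g : X) ∈ O := by
      have hd1 : orderOf (QuotientGroup.mk' O (g : X)) ∣ q := by
        rw [← hgo]; exact orderOf_map_dvd _ _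
      have hd2 : orderOf (QuotientGroup.mk' O (g : X)) ∣ O.index := by
        rw [Subgroup.index_eq_card]; exact orderOf_dvd_natCard _
      rcases (Nat.dvd_prime hqp).1 hd1 with h | h
      · exact (QuotientGroup.eq_one_iff _).1 (orderOf_eq_one_iff.1 h)
      · exact absurd (h ▸ hd2) hidx
    have hr1 : r ∈ H ⊓ R := by
      refine ⟨?_, hr⟩
      have : d'⁻¹ * (g : X) ∈ H := H.mul_mem (H.inv_mem (hDH hd')) (hOH hgO)
      rwa [← hdr, inv_mul_cancel_left] at this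
    rw [hHR] at hr1
    rw [Subgroup.mem_bot.1 hr1, mul_one] at hdr
    have hg1 : (g : X) ∈ D ⊓ O := ⟨hdr ▸ hd', hgO⟩
    rw [hDO] at hg1
    rw [Subgroup.mem_bot.1 hg1, orderOf_one] at hgo
    exact hqp.one_lt.ne hgo
  have h11 : ∀ x ∈ R.map π, x ≠ 1 →
      O.map π ⊓ Subgroup.centralizer ({x} : Set (X ⧸ N)) =
        O.map π ⊓ Subgroup.centralizer ((R.map π : Subgroup (X ⧸ N)) : Set (X ⧸ N)) := by
    intro x hx hx1
    apply le_antisymm
    · rintro z ⟨hzV, hzC⟩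
      have hzH : z ∈ H.map π := Subgroup.map_mono hOH hzV
      have hzCm : z ∈ C.map π := by
        rw [← hQ x hx hx1]; exact ⟨hzH, hzC⟩
      refine ⟨hzV, Subgroup.mem_centralizer_iff.2 ?_⟩
      intro y hy
      by_cases hy1 : y = 1
      · rw [hy1, one_mul, mul_one]
      · rw [← hQ y hy hy1] at hzCm
        exact (Subgroup.mem_centralizer_iff.1 hzCm.2) y (Set.mem_singleton y)
    · exact inf_le_inf_left _ (Subgroup.centralizer_le (Set.singleton_subset_iff.2 hx))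
  have h12 : IsCyclic ↥(O.map π ⊓
      Subgroup.centralizer ((R.map π : Subgroup (X ⧸ N)) : Set (X ⧸ N))) := by
    have hle : O.map π ⊓ Subgroup.centralizer ((R.map π : Subgroup (X ⧸ N)) : Set (X ⧸ N)) ≤
        C.map π := by
      rintro z ⟨hzV, hzC⟩
      rw [← hQ (π x₀) hy₀R hy₀]
      exact ⟨Subgroup.map_mono hOH hzV,
        Subgroup.centralizer_le (Set.singleton_subset_iff.2 hy₀R) hzC⟩
    have : IsCyclic ↥C := isCyclic_of_prime_card hCcard
    have : IsCyclic ↥(C.map π) :=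
      isCyclic_of_surjective (π.subgroupMap C) (π.subgroupMap_surjective C)
    exact isCyclic_of_injective (Subgroup.inclusion hle) (Subgroup.inclusion_injective hle)
  have h13 : ¬ D.map π ≤
      Subgroup.centralizer ((O.map π : Subgroup (X ⧸ N)) : Set (X ⧸ N)) := by
    intro hle
    apply hnot
    intro d hd o ho
    have hcen := Subgroup.mem_centralizer_iff.1 (hle (Subgroup.mem_map_of_mem π hd)) (π o)
      (Subgroup.mem_map_of_mem π ho)
    rw [← hπ1]
    simp only [map_mul, map_inv]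
    rw [← hcen, mul_inv_cancel_right, mul_inv_cancel]
  have hfin := hFP (O.map π) (D.map π) (R.map π) q h1 h2 (hVtop _) (hVtop _) h5 h6 h7 h8 h9 h10
    h11 h12 h13
  have hbij : Function.Bijective (π.subgroupMap R) := by
    refine ⟨?_, π.subgroupMap_surjective R⟩
    rw [← MonoidHom.ker_eq_bot_iff, eq_bot_iff]
    intro r hr
    rw [MonoidHom.mem_ker] at hr
    have h1' : π (r : X) = 1 := congrArg Subtype.val hr
    have h2' : (r : X) ∈ N := (hπ1 _).1 h1'
    have h3' : (r : X) ∈ H ⊓ R := ⟨hOH (hNO h2'), r.2⟩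
    rw [hHR] at h3'
    exact Subgroup.mem_bot.2 (Subtype.ext (Subgroup.mem_bot.1 h3'))
  have hcard : Nat.card ↥(R.map π) = Nat.card ↥R :=
    (Nat.card_congr (Equiv.ofBijective _ hbij)).symm
  rw [← hcard]
  exact hfin

end Cfsg.Agent.Lib.Helper95.S57QUOTR

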