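import Mathlib
import Cfsg.Agent.Lib.Helper45.S8Stmt

set_option autoImplicit false

/-!
helper95: piece BLOCKPM of S3589 (interface `Cfsg.Agent.Lib.Helper45.S8Stmt.BlockPM`): block sums
of isometries.  `hasOrd_block` is the general statement for an index equivalence
`e : ι₁ ⊕ ι₂ ≃ ι₃` and forms with `Q₃ v = Q₁ (v ∘ e ∘ inl) + Q₂ (v ∘ e ∘ inr)`.
-/

namespace Cfsg.Agent.Lib.Helper95.S8BLOCKPM

open Matrix
open Cfsg.Agent.Lib.Helper45.S8Stmt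

universe u

section Block

variable {F : Type u} [Field F] {ι₁ ι₂ ι₃ : Type} [Fintype ι₁] [DecidableEq ι₁] [Fintype ι₂]
  [DecidableEq ι₂] [Fintype ι₃] [DecidableEq ι₃] (e : ι₁ ⊕ ι₂ ≃ ι₃)

/-- block diagonal embedding of matrices -/
def blockHom : Matrix ι₁ ι₁ F × Matrix ι₂ ι₂ F →* Matrix ι₃ ι₃ F where
  toFun p := (Matrix.fromBlocks p.1 0 0 p.2).submatrix e.symm e.symm
  map_one' := by simp [Matrix.fromBlocks_one]
  map_mul' p q := by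
    simp only [Prod.fst_mul, Prod.snd_mul]
    rw [Matrix.submatrix_mul_equiv, Matrix.fromBlocks_multiply]
    simp

theorem blockHom_injective : Function.Injective (blockHom (F := F) e) := by
  intro p q h
  have h1 : Matrix.fromBlocks p.1 0 0 p.2 = Matrix.fromBlocks q.1 0 0 q.2 := by
    have h2 := congrArg (fun M => M.submatrix e e) h
    simpa [blockHom] using h2
  rw [Matrix.fromBlocks_inj] at h1
  exact Prod.ext h1.1 h1.2.2.2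

theorem blockHom_mulVec (p : Matrix ι₁ ι₁ F × Matrix ι₂ ι₂ F) (u : ι₃ → F) :
    (blockHom e p *ᵥ u) ∘ e
      = Sum.elim (p.1 *ᵥ (u ∘ e ∘ Sum.inl)) (p.2 *ᵥ (u ∘ e ∘ Sum.inr)) := by
  show ((Matrix.fromBlocks p.1 0 0 p.2).submatrix e.symm e.symm *ᵥ u) ∘ e = _
  rw [Matrix.submatrix_mulVec_equiv, Matrix.fromBlocks_mulVec]
  funext i
  simp only [Function.comp_apply, Equiv.symm_symm, Equiv.symm_apply_apply]
  rcases i with i | i <;> simp [Function.comp_def]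

/-- block diagonal embedding of general linear groups -/
def blockGL : GL ι₁ F × GL ι₂ F →* GL ι₃ F :=
  (Units.map (blockHom (F := F) e)).comp (MulEquiv.prodUnits.symm.toMonoidHom)

theorem blockGL_coe (A : GL ι₁ F) (B : GL ι₂ F) :
    ((blockGL e (A, B) : GL ι₃ F) : Matrix ι₃ ι₃ F)
      = blockHom e ((A : Matrix ι₁ ι₁ F), (B : Matrix ι₂ ι₂ F)) := rfl

theorem blockGL_injective : Function.Injective (blockGL (F := F) e) := by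
  have h1 : Function.Injective (Units.map (blockHom (F := F) e)) :=
    Units.map_injective (blockHom_injective e)
  exact h1.comp (MulEquiv.prodUnits.symm.injective)

theorem hasOrd_block (Q₁ : (ι₁ → F) → F) (Q₂ : (ι₂ → F) → F) (Q₃ : (ι₃ → F) → F)
    (hQ : ∀ v, Q₃ v = Q₁ (v ∘ e ∘ Sum.inl) + Q₂ (v ∘ e ∘ Sum.inr)) (N₁ N₂ : ℕ)
    (h₁ : HasOrd Q₁ N₁) (h₂ : HasOrd Q₂ N₂) : HasOrd Q₃ (Nat.lcm N₁ N₂) := by
  obtain ⟨g₁, hg₁⟩ := h₁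
  obtain ⟨g₂, hg₂⟩ := h₂
  have hmem : blockGL e ((g₁ : GL ι₁ F), (g₂ : GL ι₂ F)) ∈ Cfsg.isometryGroup F Q₃ := by
    intro u _
    show Q₃ (((blockGL e ((g₁ : GL ι₁ F), (g₂ : GL ι₂ F)) : GL ι₃ F) : Matrix ι₃ ι₃ F) *ᵥ u) = Q₃ u
    rw [blockGL_coe, hQ, hQ u]
    have h3 := blockHom_mulVec e (((g₁ : GL ι₁ F) : Matrix ι₁ ι₁ F), ((g₂ : GL ι₂ F) : Matrix ι₂ ι₂ F)) u
    have h4 : (blockHom e (((g₁ : GL ι₁ F) : Matrix ι₁ ι₁ F), ((g₂ : GL ι₂ F) : Matrix ι₂ ι₂ F)) *ᵥ u) ∘ e ∘ Sum.inl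
        = ((g₁ : GL ι₁ F) : Matrix ι₁ ι₁ F) *ᵥ (u ∘ e ∘ Sum.inl) := by
      rw [← Function.comp_assoc, h3]; rfl
    have h5 : (blockHom e (((g₁ : GL ι₁ F) : Matrix ι₁ ι₁ F), ((g₂ : GL ι₂ F) : Matrix ι₂ ι₂ F)) *ᵥ u) ∘ e ∘ Sum.inr
        = ((g₂ : GL ι₂ F) : Matrix ι₂ ι₂ F) *ᵥ (u ∘ e ∘ Sum.inr) := by
      rw [← Function.comp_assoc, h3]; rfl
    rw [h4, h5]
    have h6 := g₁.2 (u ∘ e ∘ Sum.inl) (u ∘ e ∘ Sum.inl)
    have h7 := g₂.2 (u ∘ e ∘ Sum.inr) (u ∘ e ∘ Sum.inr)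
    have h6' : Q₁ (((g₁ : GL ι₁ F) : Matrix ι₁ ι₁ F) *ᵥ (u ∘ e ∘ Sum.inl)) = Q₁ (u ∘ e ∘ Sum.inl) := h6
    have h7' : Q₂ (((g₂ : GL ι₂ F) : Matrix ι₂ ι₂ F) *ᵥ (u ∘ e ∘ Sum.inr)) = Q₂ (u ∘ e ∘ Sum.inr) := h7
    rw [h6', h7']
  refine ⟨⟨_, hmem⟩, ?_⟩
  rw [Subgroup.orderOf_mk, orderOf_injective (blockGL (F := F) e) (blockGL_injective e),
    Prod.orderOf]
  show Nat.lcm (orderOf (g₁ : GL ι₁ F)) (orderOf (g₂ : GL ι₂ F)) = _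
  rw [Subgroup.orderOf_coe, Subgroup.orderOf_coe, hg₁, hg₂]

end Block

/-- the index equivalence for `H^k ⊥ (H^m ⊥ N) = H^(k+m) ⊥ N`. -/
def ePM (k m : ℕ) :
    (Fin k ⊕ Fin k) ⊕ ((Fin m ⊕ Fin m) ⊕ Fin 2) ≃ (Fin (k + m) ⊕ Fin (k + m)) ⊕ Fin 2 :=
  ((Equiv.sumAssoc (Fin k ⊕ Fin k) (Fin m ⊕ Fin m) (Fin 2)).symm.trans
    (Equiv.sumCongr (Equiv.sumSumSumComm (Fin k) (Fin k) (Fin m) (Fin m)) (Equiv.refl (Fin 2)))).trans
    (Equiv.sumCongr (Equiv.sumCongr finSumFinEquiv finSumFinEquiv) (Equiv.refl (Fin 2)))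

theorem quadFormMinus_add {F : Type u} [Field F] (k m : ℕ) (a b : F)
    (v : (Fin (k + m) ⊕ Fin (k + m)) ⊕ Fin 2 → F) :
    Cfsg.quadFormMinus (k + m) F a b v
      = Cfsg.quadFormPlus k F (v ∘ ePM k m ∘ Sum.inl)
        + Cfsg.quadFormMinus m F a b (v ∘ ePM k m ∘ Sum.inr) := by
  unfold Cfsg.quadFormMinus Cfsg.quadFormPlus
  rw [Fin.sum_univ_add]
  simp only [Function.comp_apply]
  have h1 : ∀ i : Fin k, ePM k m (Sum.inl (Sum.inl i)) = Sum.inl (Sum.inl (Fin.castAdd m i)) :=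
    fun i => rfl
  have h2 : ∀ i : Fin k, ePM k m (Sum.inl (Sum.inr i)) = Sum.inl (Sum.inr (Fin.castAdd m i)) :=
    fun i => rfl
  have h3 : ∀ i : Fin m, ePM k m (Sum.inr (Sum.inl (Sum.inl i)))
      = Sum.inl (Sum.inl (Fin.natAdd k i)) := fun i => rfl
  have h4 : ∀ i : Fin m, ePM k m (Sum.inr (Sum.inl (Sum.inr i)))
      = Sum.inl (Sum.inr (Fin.natAdd k i)) := fun i => rfl
  have h5 : ∀ t : Fin 2, ePM k m (Sum.inr (Sum.inr t)) = Sum.inr t := fun t => rfl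
  simp only [h1, h2, h3, h4, h5]
  ring

theorem main : Cfsg.Agent.Lib.Helper45.S8Stmt.BlockPM.{u} := by
  intro F _ k m a b N₁ N₂ h₁ h₂
  exact hasOrd_block (ePM k m) (Cfsg.quadFormPlus k F) (Cfsg.quadFormMinus m F a b)
    (Cfsg.quadFormMinus (k + m) F a b) (quadFormMinus_add k m a b) N₁ N₂ h₁ h₂

end Cfsg.Agent.Lib.Helper95.S8BLOCKPM
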