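import Mathlib
import Cfsg.Agent.Lib.Helper45.S8Stmt

set_option autoImplicit false

/-!
helper95: piece U3M of S3589 (interface `Cfsg.Agent.Lib.Helper45.S8Stmt.U3M`): an explicit
unipotent isometry of order 8 in characteristic 2 (matrix from the docstring of the interface;
its square and fourth power are written out and checked entrywise).
-/

namespace Cfsg.Agent.Lib.Helper95.S8U3M

open Matrix
open Cfsg.Agent.Lib.Helper45.S8Stmt

universe u

section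

variable {F : Type u} [Field F]

/-- the matrix in the coordinates `0, …, 5` -/
def M1 (a b : F) : Matrix (Fin 6) (Fin 6) F :=
  !![1, 0, 1, b, a, a ^ 2;
    0, 1, 0, 0, 0, 0;
    0, 0, 1, b, a, a ^ 2;
    0, 1, 0, 1, 0, 0;
    0, 0, 0, 0, 1, a;
    0, 0, 0, 1, 0, 1]

/-- its square -/
def M2 (a b : F) : Matrix (Fin 6) (Fin 6) F :=
  !![1, b, 0, b + a ^ 2, a, 0;
    0, 1, 0, 0, 0, 0;
    0, b, 1, a ^ 2, 0, a ^ 2;
    0, 0, 0, 1, 0, 0;
    0, 0, 0, a, 1, 0;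
    0, 1, 0, 0, 0, 1]

/-- its fourth power -/
def M4 (a b : F) : Matrix (Fin 6) (Fin 6) F :=
  !![1, 0, 0, a ^ 2, 0, 0;
    0, 1, 0, 0, 0, 0;
    0, a ^ 2, 1, 0, 0, 0;
    0, 0, 0, 1, 0, 0;
    0, 0, 0, 0, 1, 0;
    0, 0, 0, 0, 0, 1]

theorem sq1 [CharP F 2] (a b : F) : (M1 a b : Matrix (Fin 6) (Fin 6) F) * M1 a b = M2 a b := by
  have h2 : (2 : F) = 0 := CharTwo.two_eq_zero
  ext i j
  fin_cases i <;> fin_cases j <;>
    simp [M1, M2, Matrix.mul_apply, Fin.sum_univ_six] <;>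
    first
      | linear_combination (1 : F) * h2
      | linear_combination (2 * a ^ 2 : F) * h2
      | linear_combination (a : F) * h2
      | linear_combination (a ^ 2 : F) * h2
      | linear_combination (b : F) * h2

theorem sq2 [CharP F 2] (a b : F) : (M2 a b : Matrix (Fin 6) (Fin 6) F) * M2 a b = M4 a b := by
  have h2 : (2 : F) = 0 := CharTwo.two_eq_zero
  ext i j
  fin_cases i <;> fin_cases j <;>
    simp [M2, M4, Matrix.mul_apply, Fin.sum_univ_six] <;>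
    first
      | linear_combination (1 : F) * h2
      | linear_combination (a : F) * h2
      | linear_combination (a ^ 2 : F) * h2
      | linear_combination (b : F) * h2
      | linear_combination (b + a ^ 2 : F) * h2

theorem sq3 [CharP F 2] (a b : F) : (M4 a b : Matrix (Fin 6) (Fin 6) F) * M4 a b = 1 := by
  have h2 : (2 : F) = 0 := CharTwo.two_eq_zero
  ext i j
  fin_cases i <;> fin_cases j <;>
    simp [M4, Matrix.mul_apply, Fin.sum_univ_six] <;>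
    first
      | linear_combination (a ^ 2 : F) * h2

theorem pow4 [CharP F 2] (a b : F) : (M1 a b : Matrix (Fin 6) (Fin 6) F) ^ 4 = M4 a b := by
  have h : (M1 a b : Matrix (Fin 6) (Fin 6) F) ^ 4 = (M1 a b * M1 a b) * (M1 a b * M1 a b) := by
    noncomm_ring
  rw [h, sq1, sq2]

theorem pow8 [CharP F 2] (a b : F) : (M1 a b : Matrix (Fin 6) (Fin 6) F) ^ 8 = 1 := by
  have h : (M1 a b : Matrix (Fin 6) (Fin 6) F) ^ 8 = (M1 a b ^ 4) * (M1 a b ^ 4) := by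
    noncomm_ring
  rw [h, pow4, sq3]

theorem M4_ne_one (a b : F) (ha : a ≠ 0) : (M4 a b : Matrix (Fin 6) (Fin 6) F) ≠ 1 := by
  intro h
  have h1 := congrFun (congrFun h 0) 3
  simp [M4] at h1
  exact ha h1

theorem iso6 [CharP F 2] (a b : F) (w : Fin 6 → F) :
    (M1 a b *ᵥ w) 0 * (M1 a b *ᵥ w) 1 + (M1 a b *ᵥ w) 2 * (M1 a b *ᵥ w) 3 + ((M1 a b *ᵥ w) 4 ^ 2 + a * (M1 a b *ᵥ w) 4 * (M1 a b *ᵥ w) 5 + b * (M1 a b *ᵥ w) 5 ^ 2) = w 0 * w 1 + w 2 * w 3 + (w 4 ^ 2 + a * w 4 * w 5 + b * w 5 ^ 2) := by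
  have h2 : (2 : F) = 0 := CharTwo.two_eq_zero
  have e0 : (M1 a b *ᵥ w) 0 = w 0 + w 2 + (b) * w 3 + (a) * w 4 + (a ^ 2) * w 5 := by
    simp [M1, Matrix.mulVec, dotProduct, Fin.sum_univ_six] <;> ring
  have e1 : (M1 a b *ᵥ w) 1 = w 1 := by
    simp [M1, Matrix.mulVec, dotProduct, Fin.sum_univ_six] <;> ring
  have e2 : (M1 a b *ᵥ w) 2 = w 2 + (b) * w 3 + (a) * w 4 + (a ^ 2) * w 5 := by
    simp [M1, Matrix.mulVec, dotProduct, Fin.sum_univ_six] <;> ring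
  have e3 : (M1 a b *ᵥ w) 3 = w 1 + w 3 := by
    simp [M1, Matrix.mulVec, dotProduct, Fin.sum_univ_six] <;> ring
  have e4 : (M1 a b *ᵥ w) 4 = w 4 + (a) * w 5 := by
    simp [M1, Matrix.mulVec, dotProduct, Fin.sum_univ_six] <;> ring
  have e5 : (M1 a b *ᵥ w) 5 = w 3 + w 5 := by
    simp [M1, Matrix.mulVec, dotProduct, Fin.sum_univ_six] <;> ring
  rw [e0, e1, e2, e3, e4, e5]
  linear_combination (w 2 * w 1 + b * w 3 * w 1 + a * w 4 * w 1 + a ^ 2 * w 5 * w 1 + b * w 3 ^ 2 + a * w 4 * w 3 + a ^ 2 * w 5 * w 3 + a ^ 2 * w 5 ^ 2 + a * w 4 * w 5 + b * w 3 * w 5) * h2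

/-- the coordinates -/
def e6 : Fin 6 ≃ (Fin 2 ⊕ Fin 2) ⊕ Fin 2 where
  toFun := ![Sum.inl (Sum.inl 0), Sum.inl (Sum.inr 0), Sum.inl (Sum.inl 1), Sum.inl (Sum.inr 1), Sum.inr 0, Sum.inr 1]
  invFun := Sum.elim (Sum.elim ![0, 2] ![1, 3]) ![4, 5]
  left_inv := by decide
  right_inv := by decide

end

theorem main : Cfsg.Agent.Lib.Helper45.S8Stmt.U3M.{u} := by
  intro F _ _ a b ha
  have hG8 : (Matrix.reindexAlgEquiv F F e6 (M1 a b)) ^ 8 = 1 := by
    rw [← map_pow, pow8, map_one]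
  have hG4 : (Matrix.reindexAlgEquiv F F e6 (M1 a b)) ^ 4 ≠ 1 := by
    rw [← map_pow, pow4]
    intro h
    apply M4_ne_one (F := F) a b ha
    apply (Matrix.reindexAlgEquiv F F e6).injective
    rw [h, map_one]
  let g : GL ((Fin 2 ⊕ Fin 2) ⊕ Fin 2) F :=
    ⟨Matrix.reindexAlgEquiv F F e6 (M1 a b), (Matrix.reindexAlgEquiv F F e6 (M1 a b)) ^ 7,
      by rw [← pow_succ', hG8], by rw [← pow_succ, hG8]⟩
  have hmem : g ∈ Cfsg.isometryGroup F (Cfsg.quadFormMinus 2 F a b) := by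
    intro u _
    show Cfsg.quadFormMinus 2 F a b ((M1 a b).submatrix e6.symm e6.symm *ᵥ u) = Cfsg.quadFormMinus 2 F a b u
    rw [Matrix.submatrix_mulVec_equiv]
    have h := iso6 a b (u ∘ e6)
    unfold Cfsg.quadFormMinus
    rw [Fin.sum_univ_two, Fin.sum_univ_two]
    exact h
  refine ⟨⟨g, hmem⟩, ?_⟩
  rw [Subgroup.orderOf_mk]
  have h8 : g ^ 2 ^ (2 + 1) = 1 := by
    apply Units.ext
    rw [Units.val_pow_eq_pow_val, Units.val_one]
    exact hG8
  have h4 : ¬ g ^ 2 ^ 2 = 1 := by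
    intro h
    apply hG4
    have h' := congrArg Units.val h
    rw [Units.val_pow_eq_pow_val, Units.val_one] at h'
    exact h'
  exact orderOf_eq_prime_pow h4 h8

end Cfsg.Agent.Lib.Helper95.S8U3M
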