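import Mathlib
import Cfsg.Agent.Lib.Helper41.TMStmt

/-!
helper95: S5987 piece G1E (minus form; glue, `i` even): an invariant totally singular `m`-space as the sum of
a totally singular invariant subspace outside the fixed space (TsEven) and a totally singular
subspace of the fixed space (TsIn, or FxType when the fixed space is of plus type).
-/

set_option autoImplicit false

namespace Cfsg.Agent.Lib.Helper95.TMG1E

open Cfsg.Agent.Lib.Helper41.TMStmt
open Cfsg.Agent.Lib.Helper45.OMiStmt (M Aniso FxM NDegM StabM)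
open Cfsg.Agent.Lib.Helper41.TMTwoStmt (TSubM PlusM FixTSM)
open Cfsg.Agent.Lib.Helper37.HypStmt (cc IPos)

universe u

theorem stab_of_le_Fx {F : Type u} [Field F] {d : ℕ} (x : Matrix (M d) (M d) F)
    {W : Submodule F (M d → F)} (h : W ≤ FxM x) : StabM x W := by
  unfold StabM
  intro v hv
  obtain ⟨w, hw, rfl⟩ := Submodule.mem_map.mp hv
  have h1 := h hw
  unfold FxM at h1
  rw [LinearMap.mem_ker, LinearMap.sub_apply, LinearMap.id_apply, sub_eq_zero] at h1
  rw [h1]
  exact hw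

theorem stab_sup {F : Type u} [Field F] {d : ℕ} {x : Matrix (M d) (M d) F}
    {U W : Submodule F (M d → F)} (hU : StabM x U) (hW : StabM x W) : StabM x (U ⊔ W) := by
  unfold StabM at *
  rw [Submodule.map_sup]
  exact sup_le_sup hU hW

/-- arithmetic core of G1E -/
theorem arithG (d m i t f0 b : ℕ) (hi : 0 < i) (hn : f0 + b * i = 2 * d)
    (hf0 : b % 2 = 0 → f0 ≠ 0)
    (H2 : t + 2 * (m / i) ≤ (2 * d) / i)
    (H1 : (2 * (m % i) ≤ i ∧ (2 * d) % i = 0 ∧ (2 * d) / i % 2 = 0 ∧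
        t + 2 * (m / i) < (2 * d) / i) ∨
      (2 * (m % i) ≤ (2 * d) % i ∧ (2 * d) / i % 2 = 1) ∨
      (2 * (m % i) < (2 * d) % i ∧ (2 * d) / i % 2 = 0)) :
    (min (m / i) ((b + 1 - t) / 2) = 0 ∨
        i * (2 * min (m / i) ((b + 1 - t) / 2) + t) + f0 ≤ 2 * d + i) ∧
      i * min (m / i) ((b + 1 - t) / 2) ≤ m ∧
      (b % 2 = 1 → 2 * (m - i * min (m / i) ((b + 1 - t) / 2)) ≤ f0) ∧
      (b % 2 = 0 → 2 * (m - i * min (m / i) ((b + 1 - t) / 2)) < f0) := by
  have hm : i * (m / i) + m % i = m := Nat.div_add_mod m i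
  have hN : i * ((2 * d) / i) + (2 * d) % i = 2 * d := Nat.div_add_mod (2 * d) i
  have hl : m % i < i := Nat.mod_lt m hi
  have hk : (2 * d) % i < i := Nat.mod_lt (2 * d) hi
  generalize m / i = m' at *
  generalize m % i = l at *
  generalize (2 * d) / i = n' at *
  generalize (2 * d) % i = k at *
  have hbi : b * i = i * b := mul_comm b i
  have hbn : b ≤ n' := by
    by_contra hcon
    have h1 : n' + 1 ≤ b := by omega
    have h2 := Nat.mul_le_mul_left i h1
    have h3 : i * (n' + 1) = i * n' + i := by ring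
    omega
  obtain ⟨c, hc⟩ : ∃ c, n' = b + c := ⟨n' - b, by omega⟩
  have hic : i * n' = i * b + i * c := by
    rw [hc]
    ring
  have hf : f0 = i * c + k := by omega
  have hc0 : b % 2 = 0 → c = 0 → k ≠ 0 := by
    intro hb hc0 hk0
    apply hf0 hb
    rw [hf, hc0, hk0, mul_zero]
  rcases Nat.le_total m' ((b + 1 - t) / 2) with h | h
  · rw [Nat.min_eq_left h]
    have hml : m - i * m' = l := by omega
    refine ⟨?_, by omega, ?_, ?_⟩
    · by_cases h0 : m' = 0
      · left
        exact h0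
      · right
        have h2 : 2 * m' + t ≤ b + 1 := by omega
        have h3 := Nat.mul_le_mul_left i h2
        have h4 : i * (b + 1) = i * b + i := by ring
        have h5 : i * (2 * m' + t) = i * (2 * m' + t) := rfl
        omega
    · intro hb
      rw [hml, hf]
      rcases H1 with ⟨h1, h2, h3, h4⟩ | ⟨h1, h2⟩ | ⟨h1, h2⟩
      · have hc1 : 1 ≤ c := by omega
        have h5 := Nat.mul_le_mul_left i hc1
        omega
      · omega
      · omega
    · intro hb
      rw [hml, hf]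
      rcases H1 with ⟨h1, h2, h3, h4⟩ | ⟨h1, h2⟩ | ⟨h1, h2⟩
      · have hc2 : 2 ≤ c := by
          have h5 := hc0 hb
          omega
        have h5 := Nat.mul_le_mul_left i hc2
        omega
      · have hc1 : 1 ≤ c := by omega
        have h5 := Nat.mul_le_mul_left i hc1
        omega
      · omega
  · rw [Nat.min_eq_right h]
    have hst : b ≤ 2 * ((b + 1 - t) / 2) + t := by omega
    have hs1 : (b + 1 - t) / 2 = 0 ∨ 2 * ((b + 1 - t) / 2) + t ≤ b + 1 := by omega
    generalize (b + 1 - t) / 2 = s₀ at *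
    obtain ⟨e, he⟩ : ∃ e, m' = s₀ + e := ⟨m' - s₀, by omega⟩
    have hie : i * m' = i * s₀ + i * e := by
      rw [he]
      ring
    have hms : m - i * s₀ = l + i * e := by omega
    refine ⟨?_, by omega, ?_, ?_⟩
    · rcases hs1 with h0 | h2
      · left
        exact h0
      · right
        have h3 := Nat.mul_le_mul_left i h2
        have h4 : i * (b + 1) = i * b + i := by ring
        omega
    · intro hb
      rw [hms, hf]
      rcases H1 with ⟨h1, h2, h3, h4⟩ | ⟨h1, h2⟩ | ⟨h1, h2⟩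
      · have h5 : 2 * e + 1 ≤ c := by omega
        have h6 := Nat.mul_le_mul_left i h5
        have h7 : i * (2 * e + 1) = 2 * (i * e) + i := by ring
        omega
      · have h5 : 2 * e ≤ c := by omega
        have h6 := Nat.mul_le_mul_left i h5
        have h7 : i * (2 * e) = 2 * (i * e) := by ring
        omega
      · have h5 : 2 * e ≤ c := by omega
        have h6 := Nat.mul_le_mul_left i h5
        have h7 : i * (2 * e) = 2 * (i * e) := by ring
        omega
    · intro hb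
      rw [hms, hf]
      rcases H1 with ⟨h1, h2, h3, h4⟩ | ⟨h1, h2⟩ | ⟨h1, h2⟩
      · have h5 : 2 * e + 2 ≤ c := by omega
        have h6 := Nat.mul_le_mul_left i h5
        have h7 : i * (2 * e + 2) = 2 * (i * e) + 2 * i := by ring
        omega
      · have h5 : 2 * e + 1 ≤ c := by omega
        have h6 := Nat.mul_le_mul_left i h5
        have h7 : i * (2 * e + 1) = 2 * (i * e) + i := by ring
        omega
      · have h5 : 2 * e ≤ c := by omega
        have h6 := Nat.mul_le_mul_left i h5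
        have h7 : i * (2 * e) = 2 * (i * e) := by ring
        omega

theorem main (hIPos : IPos.{u}) (hFixND : FixND.{u}) (hPerp : Perp.{u}) (hInvDim : InvDim.{u})
    (hFxType : FxType.{u}) (hTsIn : TsIn.{u}) (hTsEven : TsEven.{u}) : G1E.{u} := by
  intro F _ _ a₀ b₀ hab p _ _ d m hm1 hmd r _ hr2 hrp hiev him H x hxiso hxr
  obtain ⟨H2, H1⟩ := H
  have hd1 : 1 ≤ d := by omega
  have hi := hIPos F p r hrp
  have hfnd := hFixND F a₀ b₀ hab p d r hrp x hxiso hxr
  obtain ⟨Y, hYperp, hYnd, hYbot, hYdim, hYstab⟩ :=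
    hPerp F a₀ b₀ hab d hd1 (FxM (x : Matrix (M d) (M d) F)) hfnd
  have hFxstab : StabM (x : Matrix (M d) (M d) F) (FxM (x : Matrix (M d) (M d) F)) :=
    stab_of_le_Fx _ le_rfl
  have hYst := hYstab x hxiso hFxstab
  have hdvd := hInvDim F a₀ b₀ hab p d r hrp x hxr Y hYst (by rw [inf_comm]; exact hYbot)
  have hFx := hFxType F a₀ b₀ hab p d r hd1 hr2 hrp x hxiso hxr
  have hTE := hTsEven F a₀ b₀ hab p d r hd1 hr2 hrp hiev x hxiso hxr
  obtain ⟨f0, hf0def⟩ : ∃ f0, f0 = Module.finrank F ↥(FxM (x : Matrix (M d) (M d) F)) :=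
    ⟨_, rfl⟩
  rw [← hf0def] at hYdim hFx hTE
  generalize orderOf ((Fintype.card F : ℕ) : ZMod r) = i at hiev him H2 H1 hi hdvd hFx hTE
  obtain ⟨b, hb⟩ := hdvd
  have hn : f0 + b * i = 2 * d := by
    rw [mul_comm, ← hb]
    exact hYdim
  have hbdiv : (2 * d - f0) / i = b := by
    have h1 : 2 * d - f0 = b * i := by omega
    rw [h1, Nat.mul_div_cancel _ hi]
  rw [hbdiv] at hFx
  have hf0 : b % 2 = 0 → f0 ≠ 0 := by
    intro hbev h0
    have hplus : PlusM d F a₀ b₀ (FxM (x : Matrix (M d) (M d) F)) := by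
      refine ⟨⊥, bot_le, ?_, ?_⟩
      · intro w hw
        rw [Submodule.mem_bot] at hw
        rw [hw]
        simp [Cfsg.quadFormMinus]
      · have hb0 : Module.finrank F ↥(⊥ : Submodule F (M d → F)) = 0 := finrank_bot F (M d → F)
        rw [hb0, ← hf0def, h0]
    have h := (hFx.mp hplus).2
    rw [Nat.odd_iff] at h
    omega
  have H1' : (2 * (m % i) ≤ i ∧ (2 * d) % i = 0 ∧ (2 * d) / i % 2 = 0 ∧
        (r - 1) / i + 2 * (m / i) < (2 * d) / i) ∨
      (2 * (m % i) ≤ (2 * d) % i ∧ (2 * d) / i % 2 = 1) ∨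
      (2 * (m % i) < (2 * d) % i ∧ (2 * d) / i % 2 = 0) := by
    rcases H1 with ⟨h1, h2, h3, h4⟩ | ⟨h1, h2⟩ | ⟨h1, h2⟩
    · exact Or.inl ⟨h1, h2, Nat.even_iff.mp h3, h4⟩
    · exact Or.inr (Or.inl ⟨h1, Nat.odd_iff.mp h2⟩)
    · exact Or.inr (Or.inr ⟨h1, Nat.even_iff.mp h2⟩)
  obtain ⟨hA, hB, hCo, hCe⟩ := arithG d m i ((r - 1) / i) f0 b hi hn hf0 H2 H1'
  obtain ⟨U, hUstab, hUts, hUdim, hUbot, hUperp⟩ := hTE _ hA
  obtain ⟨W0, hW0le, hW0ts, hW0dim⟩ : ∃ W0 : Submodule F (M d → F),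
      W0 ≤ FxM (x : Matrix (M d) (M d) F) ∧ TSubM d F a₀ b₀ W0 ∧
      Module.finrank F ↥W0 = m - i * min (m / i) ((b + 1 - (r - 1) / i) / 2) := by
    by_cases hlt : 2 * (m - i * min (m / i) ((b + 1 - (r - 1) / i) / 2)) < f0
    · exact hTsIn F a₀ b₀ hab d (FxM (x : Matrix (M d) (M d) F)) _ hfnd
        (by rw [← hf0def]; exact hlt)
    · have hbodd : b % 2 = 1 := by
        by_contra hne
        exact hlt (hCe (by omega))
      have hle := hCo hbodd
      obtain ⟨T, hTle, hTts, hTdim⟩ := hFx.mpr ⟨hiev, Nat.odd_iff.mpr hbodd⟩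
      rw [← hf0def] at hTdim
      exact ⟨T, hTle, hTts, by omega⟩
  refine ⟨U ⊔ W0, ?_, ?_, stab_sup hUstab (stab_of_le_Fx _ hW0le)⟩
  · have hdisj : U ⊓ W0 = ⊥ := by
      apply le_bot_iff.mp
      rw [← hUbot]
      exact inf_le_inf_left U hW0le
    have h1 := Submodule.finrank_sup_add_finrank_inf_eq U W0
    rw [hdisj, finrank_bot, add_zero, hUdim, hW0dim] at h1
    rw [h1]
    omega
  · intro w hw
    obtain ⟨u, hu, w0, hw0, rfl⟩ := Submodule.mem_sup.mp hw
    have h1 := hUperp u hu w0 (hW0le hw0)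
    have h2 : Cfsg.quadFormMinus (d - 1) F a₀ b₀ (u + w0) =
        Cfsg.quadFormMinus (d - 1) F a₀ b₀ u + Cfsg.quadFormMinus (d - 1) F a₀ b₀ w0 +
          QuadraticMap.polar (Cfsg.quadFormMinus (d - 1) F a₀ b₀) u w0 := by
      rw [QuadraticMap.polar]
      ring
    rw [h2, hUts u hu, hW0ts w0 hw0, h1]
    simp

end Cfsg.Agent.Lib.Helper95.TMG1E
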